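import Mathlib
import Cfsg.Agent.Arith.LargePrimDiv

/-!
Arithmetic for the recognition of `PSU₃(q)`, `q` odd.
-/

set_option autoImplicit false
set_option linter.style.haveILetI false

namespace Cfsg.Agent.H36.OddU3

theorem exists_odd_mul_of_dvd {p e : ℕ} (hp : 3 ≤ p) (he : 1 ≤ e) :
    ∀ M : ℕ, p ^ e + 1 ∣ p ^ M + 1 → ∃ i, M = e * (2 * i + 1) := by
  intro M
  induction M using Nat.strong_induction_on with
  | h M ih =>
    intro h
    have hk : (((p ^ e + 1 : ℕ) : ℤ)) ∣ ((p ^ M + 1 : ℕ) : ℤ) := Int.natCast_dvd_natCast.2 h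
    push_cast at hk
    rcases lt_trichotomy M e with hlt | heq | hgt
    · have h1 := Nat.le_of_dvd (Nat.succ_pos _) h
      have : p ^ M < p ^ e := Nat.pow_lt_pow_right (by omega) hlt
      omega
    · exact ⟨0, by omega⟩
    · obtain ⟨r, rfl⟩ := Nat.exists_eq_add_of_le hgt.le
      rcases lt_or_ge r e with hr | hr
      · exfalso
        have h2 : ((p : ℤ) ^ e + 1) ∣ (p : ℤ) ^ r - 1 := by
          rw [show (p : ℤ) ^ r - 1 = (p : ℤ) ^ r * ((p : ℤ) ^ e + 1) - ((p : ℤ) ^ (e + r) + 1) by ring]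
          exact dvd_sub (dvd_mul_left _ _) hk
        have h3 : p ^ r < p ^ e := Nat.pow_lt_pow_right (by omega) hr
        have h4 : p ≤ p ^ r := Nat.le_self_pow (by omega) p
        have h5 := Int.le_of_dvd (by
          have : (3 : ℤ) ≤ (p : ℤ) ^ r := by exact_mod_cast hp.trans h4
          omega) h2
        have : ((p : ℤ) ^ r) < (p : ℤ) ^ e := by exact_mod_cast h3
        omega
      · obtain ⟨s, rfl⟩ := Nat.exists_eq_add_of_le hr
        have h2 : ((p : ℤ) ^ e + 1) ∣ (p : ℤ) ^ s + 1 := by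
          rw [show (p : ℤ) ^ s + 1 = ((p : ℤ) ^ (e + (e + s)) + 1) -
            (p : ℤ) ^ s * ((p : ℤ) ^ e - 1) * ((p : ℤ) ^ e + 1) by ring]
          exact dvd_sub hk (dvd_mul_left _ _)
        obtain ⟨i, hi⟩ := ih s (by omega) (by exact_mod_cast h2)
        exact ⟨i + 1, by rw [hi]; ring⟩

/-- The possible sizes of the centraliser of an involution. -/
theorem exponent_cases {p n e : ℕ} (hp : 3 ≤ p) (hn : 1 ≤ n) (he : e < 3 * n)
    (hdvd : p ^ e + 1 ∣ p ^ (3 * n) + 1)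
    (hineq : p ^ (3 * n) - p ^ e ≤ (p ^ (2 * n) - 1) * ((p ^ e + 1) * p ^ e)) :
    e = n ∨ ∃ l, 1 ≤ l ∧ n = 5 * l ∧ e = 3 * l := by
  by_cases h2 : 2 * e + 1 ≤ n
  · exfalso
    have hY : 0 < p ^ (2 * n + 2 * e) := pow_pos (by omega) _
    have h3 : 3 * p ^ (2 * n + 2 * e) ≤ p ^ (3 * n) :=
      calc 3 * p ^ (2 * n + 2 * e) ≤ p * p ^ (2 * n + 2 * e) := Nat.mul_le_mul hp le_rfl
        _ = p ^ (2 * n + 2 * e + 1) := by ring
        _ ≤ p ^ (3 * n) := Nat.pow_le_pow_right (by omega) (by omega)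
    have h4 : p ^ e < p ^ (2 * n + 2 * e) := Nat.pow_lt_pow_right (by omega) (by omega)
    have h5 : (p ^ (2 * n) - 1) * ((p ^ e + 1) * p ^ e) ≤ 2 * p ^ (2 * n + 2 * e) :=
      calc (p ^ (2 * n) - 1) * ((p ^ e + 1) * p ^ e)
          ≤ p ^ (2 * n) * ((2 * p ^ e) * p ^ e) := by
            refine Nat.mul_le_mul (Nat.sub_le _ _) (Nat.mul_le_mul ?_ le_rfl)
            have := Nat.one_le_pow e p (by omega)
            omega
        _ = 2 * p ^ (2 * n + 2 * e) := by ring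
    omega
  · obtain ⟨i, hi⟩ := exists_odd_mul_of_dvd hp (e := e) (by omega) _ hdvd
    rcases i with _ | _ | _ | i
    · omega
    · left; omega
    · right
      exact ⟨n / 5, by omega, by omega, by omega⟩
    · exfalso
      have : 7 * e ≤ e * (2 * (i + 1 + 1 + 1) + 1) := by nlinarith
      omega

theorem not_dvd_of_five {p l : ℕ} (hp : 3 ≤ p) (hl : 1 ≤ l) :
    ¬ p ^ (3 * l) + 1 ∣ p ^ (5 * l) + 1 := fun h => by
  obtain ⟨i, hi⟩ := exists_odd_mul_of_dvd hp (by omega) _ h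
  rcases i with _ | i
  · omega
  · have : 9 * l ≤ 3 * l * (2 * (i + 1) + 1) := by nlinarith
    omega

/-- A prime dividing `p ^ n + 1` but no `p ^ k - 1`, `0 < k < 2 n`. -/
theorem exists_prime {p n : ℕ} (hp : p.Prime) (hp2 : p ≠ 2) (hn : 2 ≤ n) :
    ∃ r, r.Prime ∧ 2 * n + 1 ≤ r ∧ r ≠ p ∧ r ∣ p ^ n + 1 ∧
      (∀ k, 0 < k → k < 2 * n → ¬ r ∣ p ^ k - 1) := by
  obtain ⟨r, hr, hd, hk⟩ := Arith.exists_isPPD (a := p) (n := 2 * n) hp.one_lt (by omega)
    (by omega) (by omega)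
  have hrp : r ≠ p := by
    rintro rfl
    have h1 : r ∣ r ^ (2 * n) := dvd_pow_self r (by omega)
    have h2 := Nat.dvd_sub h1 hd
    rw [Nat.sub_sub_self (Nat.one_le_pow _ _ hp.pos)] at h2
    exact hr.one_lt.ne' (Nat.dvd_one.1 h2)
  refine ⟨r, hr, ?_, hrp, ?_, hk⟩
  · haveI := Fact.mk hr
    have hne : (p : ZMod r) ≠ 0 := fun h => hrp
      ((Nat.prime_dvd_prime_iff_eq hr hp).1 ((ZMod.natCast_eq_zero_iff p r).1 h))
    have h1 : (p : ZMod r) ^ (r - 1) = 1 := ZMod.pow_card_sub_one_eq_one hne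
    have h2 : r ∣ p ^ (r - 1) - 1 := by
      rw [← ZMod.natCast_eq_zero_iff, Nat.cast_sub (Nat.one_le_pow _ _ hp.pos), Nat.cast_pow, h1]
      simp
    by_contra hlt
    exact hk (r - 1) (by have := hr.two_le; omega) (by omega) h2
  · have hsq : p ^ (2 * n) - 1 = (p ^ n + 1) * (p ^ n - 1) := by
      rw [← Nat.sq_sub_sq (p ^ n) 1, ← pow_mul, mul_comm n 2]
    rcases hr.dvd_mul.1 (hsq ▸ hd) with h | h
    · exact h
    · exact absurd h (hk n (by omega) (by omega))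

/-- Sizes congruent to one modulo such a prime. -/
theorem pow_eq_of_modEq {p n r a : ℕ} (hp : 1 < p) (hr : ∀ k, 0 < k → k < 2 * n → ¬ r ∣ p ^ k - 1)
    (hrp : r.Coprime p) {c : ℕ} (hca : c ≤ a) (ha : a ≤ 3 * n) (h : p ^ a ≡ p ^ c [MOD r]) :
    a = c ∨ 2 * n ≤ a - c := by
  by_cases hac : a = c
  · exact Or.inl hac
  · right
    by_contra hlt
    refine hr (a - c) (by omega) (by omega) ?_
    obtain ⟨d, rfl⟩ := Nat.exists_eq_add_of_le hca
    rw [Nat.add_sub_cancel_left]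
    have h1 := (Nat.modEq_iff_dvd' (Nat.pow_le_pow_right (by omega) (by omega))).1 h.symm
    have h2 : p ^ (c + d) - p ^ c = p ^ c * (p ^ d - 1) := by
      rw [Nat.mul_sub, mul_one, pow_add]
    rw [h2] at h1
    exact (Nat.Coprime.pow_right c hrp).dvd_of_dvd_mul_left h1

end Cfsg.Agent.H36.OddU3
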