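import Mathlib

/-!
Automorphisms of order prime to `p` of a finite `p`-group.
-/

set_option autoImplicit false
set_option linter.style.haveILetI false
set_option linter.unusedSectionVars false

namespace Cfsg.Agent.H36.OddU3

theorem card_dvd_of_free_action {A X : Type*} [Group A] [Finite A] [Finite X] [MulAction A X]
    (h : ∀ (a : A) (x : X), a • x = x → a = 1) : Nat.card A ∣ Nat.card X := by
  classical
  haveI := Fintype.ofFinite X
  rw [Nat.card_congr (MulAction.selfEquivSigmaOrbits' A X), Nat.card_sigma]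
  refine Finset.dvd_sum fun q _ => ?_
  obtain ⟨s, rfl⟩ := Quotient.exists_rep q
  have e : MulAction.stabilizer A s = ⊥ := (Subgroup.eq_bot_iff_forall _).mpr fun a ha => h a s ha
  have := Nat.card_congr (MulAction.orbitEquivQuotientStabilizer A s)
  rw [e, ← Subgroup.index, Subgroup.index_bot] at this
  exact this.symm.dvd

variable {V : Type*} [Group V] [Finite V]

/-- No non-trivial power fixes a non-trivial element. -/
def Semireg (φ : MulAut V) : Prop := ∀ k : ℕ, φ ^ k ≠ 1 → ∀ v, (φ ^ k) v = v → v = 1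

theorem card_ne_one_sub :
    Nat.card {v : V // v ≠ 1} = Nat.card V - 1 := by
  classical
  haveI := Fintype.ofFinite V
  rw [Nat.card_eq_fintype_card, Nat.card_eq_fintype_card, Fintype.card_subtype_compl,
    Fintype.card_subtype_eq]

theorem orderOf_dvd_of_semireg {φ : MulAut V} (h : Semireg φ) : orderOf φ ∣ Nat.card V - 1 := by
  letI : MulAction (Subgroup.zpowers φ) {v : V // v ≠ 1} :=
    { smul := fun a v => ⟨(a : MulAut V) v.1, fun e => v.2 ((a : MulAut V).injective (e.trans (map_one _).symm))⟩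
      one_smul := fun _ => Subtype.ext rfl
      mul_smul := fun _ _ _ => Subtype.ext rfl }
  rw [← Nat.card_zpowers, ← card_ne_one_sub]
  refine card_dvd_of_free_action fun a v hav => ?_
  obtain ⟨k, hk⟩ : ∃ k : ℕ, φ ^ k = (a : MulAut V) :=
    Submonoid.mem_powers_iff _ _ |>.1 ((isOfFinOrder_of_finite φ).mem_powers_iff_mem_zpowers.2 a.2)
  by_contra ha
  have h1 : φ ^ k ≠ 1 := fun e => ha (Subtype.ext (hk.symm.trans e))
  exact v.2 (h k h1 v.1 (by rw [hk]; exact congrArg Subtype.val hav))

/-- The dichotomy. -/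
theorem semireg_or_small {p : ℕ} [Fact p.Prime] (hp2 : p ≠ 2) :
    ∀ N : ℕ, ∀ {V : Type*} [Group V] [Finite V], Nat.card V = N → IsPGroup p V → ∀ φ : MulAut V,
      (orderOf φ).Coprime p → Semireg φ ∨ 2 * orderOf φ < Nat.card V - 1 := by
  intro N
  induction N using Nat.strong_induction_on with
  | h N ih =>
    intro V _ _ hN hV φ hco
    by_cases hs : Semireg φ
    · exact Or.inl hs
    right
    unfold Semireg at hs
    push Not at hs
    obtain ⟨k, hk, v, hv, hv1⟩ := hs
    haveI : Nontrivial V := ⟨⟨v, 1, hv1⟩⟩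
    -- an invariant proper non-trivial normal subgroup
    obtain ⟨A, hAn, hA0, hA1, hAinv⟩ : ∃ A : Subgroup V, A.Normal ∧ A ≠ ⊥ ∧ A ≠ ⊤ ∧
        ∀ a ∈ A, φ a ∈ A := by
      by_cases hc : Subgroup.center V = ⊤
      · refine ⟨MonoidHom.eqLocus (φ ^ k : MulAut V).toMonoidHom (MonoidHom.id V), ?_, ?_, ?_, ?_⟩
        · refine ⟨fun a ha g => ?_⟩
          have : g * a = a * g := (Subgroup.mem_center_iff.1 (hc ▸ Subgroup.mem_top a) g)
          rwa [this, mul_inv_cancel_right]
        · intro e
          exact hv1 ((Subgroup.eq_bot_iff_forall _).1 e v hv)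
        · intro e
          exact hk (MulEquiv.ext fun w => (show w ∈ MonoidHom.eqLocus (φ ^ k : MulAut V).toMonoidHom
            (MonoidHom.id V) from e ▸ Subgroup.mem_top w))
        · intro a (ha : (φ ^ k) a = a)
          show (φ ^ k) (φ a) = φ a
          rw [← MulAut.mul_apply, ← pow_succ, pow_succ', MulAut.mul_apply, ha]
      · refine ⟨Subgroup.center V, inferInstance, ?_, hc, fun a ha => ?_⟩
        · exact (Subgroup.nontrivial_iff_ne_bot _).1 hV.center_nontrivial
        · refine Subgroup.mem_center_iff.2 fun g => ?_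
          rw [← φ.apply_symm_apply g, ← map_mul, ← map_mul, Subgroup.mem_center_iff.1 ha]
    haveI := hAn
    have hmap : A.map φ.toMonoidHom = A := by
      refine Subgroup.eq_of_le_of_card_ge ?_ (by rw [Subgroup.card_map_of_injective φ.injective])
      rintro _ ⟨a, ha, rfl⟩
      exact hAinv a ha
    let φA : MulAut A := (φ.subgroupMap A).trans (MulEquiv.subgroupCongr hmap)
    let φQ : MulAut (V ⧸ A) := QuotientGroup.congr A A φ hmap
    have hpA : ∀ i : ℕ, ∀ a : A, (((φA ^ i) a : A) : V) = (φ ^ i) a := by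
      intro i
      induction i with
      | zero => intro a; rfl
      | succ i ihi =>
        intro a
        rw [pow_succ', pow_succ', MulAut.mul_apply, MulAut.mul_apply, ← ihi a]
        rfl
    have hpQ : ∀ i : ℕ, ∀ w : V, (φQ ^ i) (w : V ⧸ A) = (((φ ^ i) w : V) : V ⧸ A) := by
      intro i
      induction i with
      | zero => intro w; rfl
      | succ i ihi =>
        intro w
        rw [pow_succ', pow_succ', MulAut.mul_apply, MulAut.mul_apply, ihi w]
        rfl
    have hdA : orderOf φA ∣ orderOf φ := orderOf_dvd_of_pow_eq_one (MulEquiv.ext fun a => Subtype.ext (by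
      rw [hpA, pow_orderOf_eq_one]; rfl))
    have hdQ : orderOf φQ ∣ orderOf φ := orderOf_dvd_of_pow_eq_one (MulEquiv.ext fun w => by
      obtain ⟨w, rfl⟩ := QuotientGroup.mk_surjective w
      rw [hpQ, pow_orderOf_eq_one]; rfl)
    -- the order divides the least common multiple
    have hlcm : orderOf φ ∣ Nat.lcm (orderOf φA) (orderOf φQ) := by
      set L := Nat.lcm (orderOf φA) (orderOf φQ)
      have hfix : ∀ a ∈ A, (φ ^ L) a = a := fun a ha => by
        rw [← hpA L ⟨a, ha⟩, orderOf_dvd_iff_pow_eq_one.1 (Nat.dvd_lcm_left _ _)]; rfl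
      refine orderOf_dvd_of_pow_eq_one (MulEquiv.ext fun w => ?_)
      obtain ⟨a, ha, e⟩ : ∃ a ∈ A, (φ ^ L) w = w * a := by
        refine ⟨w⁻¹ * (φ ^ L) w, QuotientGroup.eq.1 ?_, by group⟩
        rw [← hpQ L w, orderOf_dvd_iff_pow_eq_one.1 (Nat.dvd_lcm_right _ _)]; rfl
      have hiter : ∀ i : ℕ, ((φ ^ L) ^ i) w = w * a ^ i := by
        intro i
        induction i with
        | zero => simp
        | succ i ihi => rw [pow_succ', MulAut.mul_apply, ihi, map_mul, map_pow, hfix a ha, e,
            pow_succ', mul_assoc]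
      have h1 := hiter (orderOf φ)
      rw [← pow_mul, mul_comm, pow_mul, pow_orderOf_eq_one, one_pow, MulAut.one_apply,
        left_eq_mul] at h1
      obtain ⟨m, hm⟩ := hV a
      have : orderOf a ∣ Nat.gcd (orderOf φ) (p ^ m) :=
        Nat.dvd_gcd (orderOf_dvd_of_pow_eq_one h1) (orderOf_dvd_of_pow_eq_one hm)
      rw [Nat.Coprime.gcd_eq_one (Nat.Coprime.pow_right m hco), Nat.dvd_one, orderOf_eq_one_iff]
        at this
      rw [e, this, mul_one]; rfl
    have hcard := A.card_eq_card_quotient_mul_card_subgroup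
    have hAcard : 1 < Nat.card A := (Subgroup.one_lt_card_iff_ne_bot A).2 hA0
    have hQcard : 1 < Nat.card (V ⧸ A) := by
      rw [← Subgroup.index_eq_card]
      exact Subgroup.one_lt_index_of_ne_top hA1
    have hsub : ∀ {W : Type _} [Group W] [Finite W], IsPGroup p W → Nat.card W < N →
        1 < Nat.card W → ∀ ψ : MulAut W, (orderOf ψ).Coprime p →
        (orderOf ψ = Nat.card W - 1 ∧ 2 ∣ orderOf ψ) ∨ 2 * orderOf ψ ≤ Nat.card W - 1 := by
      intro W _ _ hW hlt h1 ψ hψ
      rcases ih _ hlt rfl hW ψ hψ with h | h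
      · obtain ⟨c, hc⟩ := orderOf_dvd_of_semireg h
        rcases c with _ | _ | c
        · omega
        · left
          obtain ⟨m, hm⟩ := IsPGroup.iff_card.1 hW
          refine ⟨by omega, ?_⟩
          have hodd : Odd (Nat.card W) := hm ▸ ((Fact.out : p.Prime).odd_of_ne_two hp2).pow
          have heq : orderOf ψ = Nat.card W - 1 := by omega
          rw [heq]
          obtain ⟨t, ht⟩ := hodd
          exact ⟨t, by omega⟩
        · right; nlinarith
      · exact Or.inr h.le
    have hA' := hsub (hV.to_subgroup A) (by rw [← hN, hcard]; nlinarith) hAcard φA (hco.coprime_dvd_left hdA)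
    have hQ' := hsub (hV.to_quotient A) (by rw [← hN, hcard]; nlinarith) hQcard φQ (hco.coprime_dvd_left hdQ)
    have hle := Nat.le_of_dvd (Nat.pos_of_ne_zero
      (Nat.lcm_ne_zero (orderOf_pos φA).ne' (orderOf_pos φQ).ne')) hlcm
    have hmul : 2 * Nat.lcm (orderOf φA) (orderOf φQ) ≤ (Nat.card A - 1) * (Nat.card (V ⧸ A) - 1) := by
      have hgl := Nat.gcd_mul_lcm (orderOf φA) (orderOf φQ)
      have hlab : Nat.lcm (orderOf φA) (orderOf φQ) ≤ orderOf φA * orderOf φQ :=
        Nat.le_of_dvd (Nat.mul_pos (orderOf_pos _) (orderOf_pos _)) (Nat.lcm_dvd_mul _ _)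
      rcases hA' with ⟨ea, ea2⟩ | ea <;> rcases hQ' with ⟨eq', eq2⟩ | eq'
      · have : 2 ≤ Nat.gcd (orderOf φA) (orderOf φQ) :=
          Nat.le_of_dvd (Nat.gcd_pos_of_pos_left _ (orderOf_pos _)) (Nat.dvd_gcd ea2 eq2)
        rw [← ea, ← eq', ← hgl]
        exact Nat.mul_le_mul_right _ this
      all_goals nlinarith
    have : (Nat.card A - 1) * (Nat.card (V ⧸ A) - 1) < Nat.card V - 1 := by
      obtain ⟨x, hx⟩ := Nat.exists_eq_add_of_le hAcard
      obtain ⟨y, hy⟩ := Nat.exists_eq_add_of_le hQcard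
      rw [hcard, hx, hy]
      have : (1 + 1 + x - 1) * (1 + 1 + y - 1) + (x + y + 3) = (1 + 1 + y) * (1 + 1 + x) := by
        simp only [show 1 + 1 + x - 1 = 1 + x by omega, show 1 + 1 + y - 1 = 1 + y by omega]; ring
      simp only [Nat.succ_eq_add_one] at *
      omega
    omega

end Cfsg.Agent.H36.OddU3
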