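import Mathlib
import Cfsg.Agent.H36.OddU3.Arith

/-!
The set-up of the recognition of `PSU₃(q)`, `q` odd, and the sizes of fixed point sets.
-/

set_option autoImplicit false
set_option linter.unusedSectionVars false
set_option linter.style.haveILetI false

namespace Cfsg.Agent.H36.OddU3

open MulAction

/-- The doubly transitive configuration. -/
structure Cfg (G Ω : Type*) [Group G] [MulAction G Ω] (a b : Ω) (U H : Subgroup G) (p n : ℕ) : Prop where
  prime : p.Prime
  odd : p ≠ 2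
  one_le : 1 ≤ n
  ab : a ≠ b
  U_fix : ∀ u ∈ U, u • a = a
  regular : ∀ c, c ≠ a → ∃! u : U, (u : G) • b = c
  H_iff : ∀ g : G, g ∈ H ↔ g • a = a ∧ g • b = b
  conj : ∀ h ∈ H, ∀ u ∈ U, h * u * h⁻¹ ∈ U
  swap : ∃ w : G, w • a = b ∧ w • b = a
  nilp : Group.IsNilpotent U
  cardU : Nat.card U = (p ^ n) ^ 3
  cyclic : IsCyclic H
  /-- `g` is one or three; that it is `gcd 3 (q + 1)` is a consequence. -/
  cardH : ∃ g : ℕ, (g = 1 ∨ g = 3) ∧ g ∣ p ^ n + 1 ∧ g * Nat.card H = p ^ (2 * n) - 1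

/-- The centraliser of `h` in `U`. -/
def Cen {G : Type*} [Group G] (U : Subgroup G) (h : G) : Subgroup G := U ⊓ Subgroup.centralizer {h}

theorem mem_Cen {G : Type*} [Group G] {U : Subgroup G} {h u : G} :
    u ∈ Cen U h ↔ u ∈ U ∧ h * u = u * h := by
  rw [Cen, Subgroup.mem_inf, Subgroup.mem_centralizer_singleton_iff]
  exact and_congr_right fun _ => eq_comm

/-- An element of prime order acting on a finite subgroup. -/
theorem card_modEq_fixed {G : Type*} [Group G] [Finite G] {r : ℕ} (hr : r.Prime) {x : G}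
    (hx : orderOf x = r) (A : Subgroup G) (hA : ∀ u ∈ A, x * u * x⁻¹ ∈ A) :
    Nat.card A ≡ Nat.card (Cen A x) [MOD r] := by
  haveI := Fact.mk hr
  have hmem : ∀ k : Subgroup.zpowers x, ∀ u ∈ A, (k : G) * u * (k : G)⁻¹ ∈ A := by
    rintro ⟨k, hk⟩
    obtain ⟨i, rfl⟩ := Submonoid.mem_powers_iff _ _ |>.1
      ((isOfFinOrder_of_finite x).mem_powers_iff_mem_zpowers.2 hk)
    induction i with
    | zero => intro u hu; simpa using hu
    | succ i ih =>
      intro u hu
      have := hA _ (ih (Subgroup.pow_mem _ (Subgroup.mem_zpowers x) i) u hu)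
      simpa [pow_succ', mul_assoc] using this
  letI : MulAction (Subgroup.zpowers x) A :=
    { smul := fun k u => ⟨(k : G) * u * (k : G)⁻¹, hmem k u u.2⟩
      one_smul := fun u => Subtype.ext (show (1 : G) * u * (1 : G)⁻¹ = u by simp)
      mul_smul := fun k l u => Subtype.ext (show ((k : G) * l) * u * ((k : G) * l)⁻¹
        = (k : G) * ((l : G) * u * (l : G)⁻¹) * (k : G)⁻¹ by group) }
  have hP : IsPGroup r (Subgroup.zpowers x) :=
    IsPGroup.of_card (n := 1) (by rw [Nat.card_zpowers, hx, pow_one])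
  refine (hP.card_modEq_card_fixedPoints A).trans (congrArg (· % r) ?_)
  refine Nat.card_congr
    { toFun := fun u => ⟨u.1.1, mem_Cen.2 ⟨u.1.2, ?_⟩⟩
      invFun := fun u => ⟨⟨u.1, (mem_Cen.1 u.2).1⟩, ?_⟩
      left_inv := fun _ => rfl
      right_inv := fun _ => rfl }
  · have : x * u.1.1 * x⁻¹ = u.1.1 := congrArg Subtype.val (u.2 ⟨x, Subgroup.mem_zpowers x⟩)
    exact mul_inv_eq_iff_eq_mul.1 this
  · rintro ⟨k, hk⟩
    refine Subtype.ext ?_
    show k * u.1 * k⁻¹ = u.1
    have : Commute k u.1 := by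
      obtain ⟨i, rfl⟩ := hk
      exact (show Commute x u.1 from (mem_Cen.1 u.2).2).zpow_left i
    rw [this.eq, mul_inv_cancel_right]

/-- Lines partition the ordered pairs. -/
theorem dvd_of_lines {S : Type*} [Finite S] (L : S → S → Set S) (k : ℕ)
    (hmem : ∀ x y, x ≠ y → x ∈ L x y ∧ y ∈ L x y)
    (hcard : ∀ x y, x ≠ y → Nat.card (L x y) = k)
    (hsub : ∀ x y, x ≠ y → ∀ c ∈ L x y, ∀ d ∈ L x y, c ≠ d → L c d = L x y) :
    k * (k - 1) ∣ Nat.card S * (Nat.card S - 1) := by
  classical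
  haveI := Fintype.ofFinite S
  have h1 : (Finset.univ : Finset S).offDiag.card = Nat.card S * (Nat.card S - 1) := by
    rw [Finset.offDiag_card, Finset.card_univ, Nat.card_eq_fintype_card, Nat.mul_sub, mul_one]
  rw [← h1, Finset.card_eq_sum_card_image (fun pr : S × S => (L pr.1 pr.2).toFinset)]
  refine Finset.dvd_sum fun T hT => ?_
  obtain ⟨⟨x, y⟩, hxy, rfl⟩ := Finset.mem_image.1 hT
  simp only [Finset.mem_offDiag, Finset.mem_univ, true_and] at hxy
  have hfib : (Finset.univ : Finset S).offDiag.filter (fun pr => (L pr.1 pr.2).toFinset = (L x y).toFinset)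
      = (L x y).toFinset.offDiag := by
    ext ⟨c, d⟩
    simp only [Finset.mem_filter, Finset.mem_offDiag, Finset.mem_univ, true_and, Set.toFinset_inj,
      Set.mem_toFinset]
    constructor
    · rintro ⟨hcd, e⟩
      exact ⟨e ▸ (hmem c d hcd).1, e ▸ (hmem c d hcd).2, hcd⟩
    · rintro ⟨hc, hd, hcd⟩
      exact ⟨hcd, hsub x y hxy c hc d hd hcd⟩
  rw [hfib, Finset.offDiag_card, Set.toFinset_card, ← Nat.card_eq_fintype_card, hcard x y hxy,
    Nat.mul_sub, mul_one]

variable {G Ω : Type*} [Group G] [MulAction G Ω] {a b : Ω} {U H : Subgroup G} {p n : ℕ}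

namespace Cfg

variable (C : Cfg G Ω a b U H p n)
include C

theorem q_pos : 0 < p ^ n := pow_pos C.prime.pos _

theorem three_le : 3 ≤ p := by
  have := C.prime.two_le
  have := C.odd
  omega

theorem H_comm {x y : G} (hx : x ∈ H) (hy : y ∈ H) : x * y = y * x := by
  haveI := C.cyclic
  haveI : IsMulCommutative H := IsCyclic.isMulCommutative
  exact congrArg Subtype.val (mul_comm' (⟨x, hx⟩ : H) ⟨y, hy⟩)

theorem eq_of_smul {u v : G} (hu : u ∈ U) (hv : v ∈ U) (e : u • b = v • b) : u = v := by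
  have hc : v • b ≠ a := fun h => C.ab (smul_left_cancel v (h.trans (C.U_fix v hv).symm)).symm
  exact congrArg Subtype.val ((C.regular _ hc).unique (y₁ := ⟨u, hu⟩) (y₂ := ⟨v, hv⟩) e rfl)

theorem exists_u {c : Ω} (hc : c ≠ a) : ∃ u ∈ U, u • b = c := by
  obtain ⟨u, hu, -⟩ := C.regular c hc
  exact ⟨u, u.2, hu⟩

theorem exists_move {x y : Ω} (hxy : x ≠ y) : ∃ g : G, g • a = x ∧ g • b = y := by
  obtain ⟨w, hwa, hwb⟩ := C.swap
  obtain ⟨g₁, hg₁⟩ : ∃ g₁ : G, g₁ • a = x := by
    by_cases hx : x = a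
    · exact ⟨1, by rw [one_smul, hx]⟩
    · obtain ⟨u, -, hu⟩ := C.exists_u hx
      exact ⟨u * w, by rw [mul_smul, hwa, hu]⟩
  have hne : g₁⁻¹ • y ≠ a := fun h => hxy (by rw [← hg₁, ← h, smul_inv_smul])
  obtain ⟨u, hu, hub⟩ := C.exists_u hne
  exact ⟨g₁ * u, by rw [mul_smul, C.U_fix u hu, hg₁], by rw [mul_smul, hub, smul_inv_smul]⟩

theorem card_Ω [Finite G] : Nat.card Ω = (p ^ n) ^ 3 + 1 := by
  have hb : Function.Bijective (fun o : Option U => o.elim a (fun u => (u : G) • b)) := by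
    constructor
    · rintro (_ | u) (_ | v) e
      · rfl
      · exact absurd (smul_left_cancel (v : G) ((C.U_fix v v.2).trans e)) C.ab
      · exact absurd (smul_left_cancel (u : G) ((C.U_fix u u.2).trans e.symm)) C.ab
      · exact congrArg some (Subtype.ext (C.eq_of_smul u.2 v.2 e))
    · intro c
      by_cases hc : c = a
      · exact ⟨none, hc.symm⟩
      · obtain ⟨u, hu, he⟩ := C.exists_u hc
        exact ⟨some ⟨u, hu⟩, he⟩
  rw [← Nat.card_congr (Equiv.ofBijective _ hb), Finite.card_option, C.cardU]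

theorem finite [Finite G] : Finite Ω := Nat.finite_of_card_ne_zero (by rw [C.card_Ω]; omega)

theorem fix_iff {h : G} (hh : h ∈ H) {u : G} (hu : u ∈ U) :
    h • u • b = u • b ↔ h * u = u * h := by
  have hb := ((C.H_iff h).1 hh).2
  constructor
  · intro e
    have h1 : (h * u * h⁻¹) • b = u • b := by
      rw [mul_smul, mul_smul, show h⁻¹ • b = b from inv_smul_eq_iff.2 hb.symm, e]
    exact mul_inv_eq_iff_eq_mul.1 (C.eq_of_smul (C.conj h hh u hu) hu h1)
  · intro e
    rw [← mul_smul, e, mul_smul, hb]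

theorem card_fixedBy [Finite G] {h : G} (hh : h ∈ H) :
    Nat.card (fixedBy Ω h) = Nat.card (Cen U h) + 1 := by
  have hb : Function.Bijective (fun o : Option (Cen U h) =>
      (o.elim ⟨a, ((C.H_iff h).1 hh).1⟩
        (fun u => ⟨(u : G) • b, (C.fix_iff hh (mem_Cen.1 u.2).1).2 (mem_Cen.1 u.2).2⟩) : fixedBy Ω h)) := by
    constructor
    · rintro (_ | u) (_ | v) e
      · rfl
      · exact absurd (smul_left_cancel (v : G) ((C.U_fix v (mem_Cen.1 v.2).1).trans (congrArg Subtype.val e))) C.ab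
      · exact absurd (smul_left_cancel (u : G) ((C.U_fix u (mem_Cen.1 u.2).1).trans (congrArg Subtype.val e).symm)) C.ab
      · exact congrArg some (Subtype.ext (C.eq_of_smul (mem_Cen.1 u.2).1 (mem_Cen.1 v.2).1
          (congrArg Subtype.val e)))
    · rintro ⟨c, hc⟩
      by_cases hca : c = a
      · exact ⟨none, Subtype.ext hca.symm⟩
      · obtain ⟨u, hu, rfl⟩ := C.exists_u hca
        exact ⟨some ⟨u, mem_Cen.2 ⟨hu, (C.fix_iff hh hu).1 hc⟩⟩, rfl⟩
  rw [← Nat.card_congr (Equiv.ofBijective _ hb), Finite.card_option]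

theorem mem_H_conj {g x : G} {c d : Ω} (hc : g • a = c) (hd : g • b = d) (hxc : x • c = c)
    (hxd : x • d = d) : g⁻¹ * x * g ∈ H := by
  rw [C.H_iff, mul_smul, mul_smul, mul_smul, mul_smul, hc, hd, hxc, hxd, ← hc, ← hd, inv_smul_smul,
    inv_smul_smul]
  exact ⟨rfl, rfl⟩

theorem zpowers_eq_of_order [Finite G] {x y : G} (hx : x ∈ H) (hy : y ∈ H) (h : y ^ orderOf x = 1) :
    y ∈ Subgroup.zpowers x := by
  classical
  haveI := C.cyclic
  haveI := Fintype.ofFinite H
  let xH : H := ⟨x, hx⟩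
  have hoe : orderOf xH = orderOf x := (Subgroup.orderOf_coe xH).symm
  have hsub : (Finset.univ.filter fun z : H => z ∈ Subgroup.zpowers xH) ⊆
      Finset.univ.filter fun z : H => z ^ orderOf xH = 1 := by
    intro z hz
    simp only [Finset.mem_filter, Finset.mem_univ, true_and] at hz ⊢
    obtain ⟨i, rfl⟩ := hz
    rw [← zpow_natCast, ← zpow_mul, mul_comm, zpow_mul, zpow_natCast, pow_orderOf_eq_one, one_zpow]
  have hc := IsCyclic.card_pow_eq_one_le (α := H) (orderOf_pos xH)
  have he := Finset.eq_of_subset_of_card_le hsub (by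
    refine hc.trans (le_of_eq ?_)
    rw [← Nat.card_zpowers, Nat.card_eq_fintype_card, Fintype.card_subtype])
  have hmem : (⟨y, hy⟩ : H) ∈ Finset.univ.filter fun z : H => z ∈ Subgroup.zpowers xH := by
    rw [he, Finset.mem_filter]
    exact ⟨Finset.mem_univ _, Subtype.ext (by rw [hoe]; simpa using h)⟩
  obtain ⟨i, hi⟩ := (Finset.mem_filter.1 hmem).2
  exact ⟨i, congrArg Subtype.val hi⟩

/-- Elements of one order fixing two common points have the same fixed points. -/
theorem fixedBy_eq [Finite G] {g g' : G} {c d : Ω} (hcd : c ≠ d) (hgc : g • c = c) (hgd : g • d = d)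
    (hgc' : g' • c = c) (hgd' : g' • d = d) (ho : orderOf g = orderOf g') :
    fixedBy Ω g = fixedBy Ω g' := by
  obtain ⟨k, hkc, hkd⟩ := C.exists_move hcd
  have key : ∀ {g g' : G}, g • c = c → g • d = d → g' • c = c → g' • d = d →
      orderOf g = orderOf g' → fixedBy Ω g ⊆ fixedBy Ω g' := by
    intro g g' h1 h2 h3 h4 ho
    have ho' : orderOf (k⁻¹ * g * k) = orderOf g := by
      have := orderOf_injective (MulAut.conj k⁻¹).toMonoidHom (MulAut.conj k⁻¹).injective g
      simpa using this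
    obtain ⟨i, hi⟩ := C.zpowers_eq_of_order (C.mem_H_conj hkc hkd h1 h2) (C.mem_H_conj hkc hkd h3 h4)
      (by
        rw [ho', ho]
        have := map_pow (MulAut.conj k⁻¹) g' (orderOf g')
        rw [pow_orderOf_eq_one, map_one] at this
        simpa using this.symm)
    have hg' : g' = g ^ i := by
      have := congrArg (MulAut.conj k) hi
      simp only [map_zpow, MulAut.conj_apply] at this
      rw [show k * (k⁻¹ * g * k) * k⁻¹ = g by group, show k * (k⁻¹ * g' * k) * k⁻¹ = g' by group]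
        at this
      exact this.symm
    intro z hz
    rw [hg']
    exact mem_stabilizer_iff.1 (Subgroup.zpow_mem (stabilizer G z) (mem_stabilizer_iff.2 hz) i)
  exact Set.Subset.antisymm (key hgc hgd hgc' hgd' ho) (key hgc' hgd' hgc hgd ho.symm)

theorem exists_conj {c d : Ω} (hcd : c ≠ d) {h : G} (hh : h ∈ H) :
    ∃ g : G, g • c = c ∧ g • d = d ∧ IsConj h g := by
  obtain ⟨k, hkc, hkd⟩ := C.exists_move hcd
  obtain ⟨ha, hb⟩ := (C.H_iff h).1 hh
  refine ⟨k * h * k⁻¹, ?_, ?_, isConj_iff.2 ⟨k, rfl⟩⟩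
  · rw [← hkc, mul_smul, mul_smul, inv_smul_smul, ha]
  · rw [← hkd, mul_smul, mul_smul, inv_smul_smul, hb]

theorem card_fixedBy_conj [Finite G] {h g : G} (hh : h ∈ H) (hg : IsConj h g) :
    Nat.card (fixedBy Ω g) = Nat.card (Cen U h) + 1 := by
  obtain ⟨k, rfl⟩ := isConj_iff.1 hg
  rw [← C.card_fixedBy hh]
  refine Nat.card_congr ((MulAction.toPerm k⁻¹).subtypeEquiv fun z => ?_)
  simp only [mem_fixedBy, MulAction.toPerm_apply]
  rw [mul_smul, mul_smul]
  constructor
  · intro e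
    conv_rhs => rw [← e]
    rw [inv_smul_smul]
  · intro e
    rw [e, smul_inv_smul]

/-- The lines of an element: the fixed points, in a subset closed under lines. -/
theorem line_dvd [Finite G] {h : G} (hh : h ∈ H) (T : Set Ω)
    (hT : ∀ c ∈ T, ∀ d ∈ T, c ≠ d → ∀ g : G, g • c = c → g • d = d → IsConj h g → fixedBy Ω g ⊆ T) :
    (Nat.card (Cen U h) + 1) * Nat.card (Cen U h) ∣ Nat.card T * (Nat.card T - 1) := by
  classical
  haveI := C.finite
  choose g hg1 hg2 hg3 using fun (c d : T) (hcd : c ≠ d) =>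
    C.exists_conj (fun e => hcd (Subtype.ext e)) hh
  have := dvd_of_lines (S := T)
    (fun c d => if hcd : c = d then ∅ else {z : T | g c d hcd • (z : Ω) = z})
    (Nat.card (Cen U h) + 1) ?_ ?_ ?_
  · simpa using this
  · intro c d hcd
    simp only [dif_neg hcd]
    exact ⟨hg1 c d hcd, hg2 c d hcd⟩
  · intro c d hcd
    simp only [dif_neg hcd]
    rw [← C.card_fixedBy_conj hh (hg3 c d hcd)]
    exact Nat.card_congr
      { toFun := fun z => ⟨(z.1 : Ω), z.2⟩
        invFun := fun z => ⟨⟨z.1, hT c c.2 d d.2 (fun e => hcd (Subtype.ext e)) _ (hg1 c d hcd)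
          (hg2 c d hcd) (hg3 c d hcd) z.2⟩, z.2⟩
        left_inv := fun _ => rfl
        right_inv := fun _ => rfl }
  · intro c d hcd c' hc' d' hd' hcd'
    simp only [dif_neg hcd] at hc' hd'
    simp only [dif_neg hcd, dif_neg hcd']
    have ho : orderOf (g c' d' hcd') = orderOf (g c d hcd) := by
      obtain ⟨k, hk⟩ := isConj_iff.1 (hg3 c' d' hcd')
      obtain ⟨k', hk'⟩ := isConj_iff.1 (hg3 c d hcd)
      rw [← hk, ← hk', ← MulAut.conj_apply, ← MulAut.conj_apply,
        MulEquiv.orderOf_eq, MulEquiv.orderOf_eq]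
    have := C.fixedBy_eq (fun e => hcd' (Subtype.ext e)) (hg1 c' d' hcd') (hg2 c' d' hcd') hc' hd' ho
    ext z
    exact Set.ext_iff.1 this z

end Cfg

end Cfsg.Agent.H36.OddU3
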