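import Cfsg.Agent.H36.OddU3.Struct

/-!
The coordinates: `U / Z` is the additive group of a field `L` of order `q ^ 2`, `Z` that of its
subfield `F`.
-/

set_option autoImplicit false
set_option linter.unusedSectionVars false
set_option linter.style.haveILetI false

namespace Cfsg.Agent.H36.OddU3

open MulAction

variable {G Ω : Type*} [Group G] [Finite G] [MulAction G Ω] [FaithfulSMul G Ω] {a b : Ω}
  {U H : Subgroup G} {p n : ℕ} {j t : G} {L : Type} [Field L] [Finite L] {F : Subfield L}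

/-- The coordinates. -/
structure Coord (a b : Ω) (U H : Subgroup G) (p n : ℕ) (j t : G) (F : Subfield L)
    (cls : G → L) (zc : F → G) (μ : G → L) (χ : G → F) : Prop where
  T : TorusData a b U H p n j t
  cen : ∀ z ∈ Cen U j, ∀ u ∈ U, z * u = u * z
  cardL : Nat.card L = (p ^ n) ^ 2
  cardF : Nat.card F = p ^ n
  memF : ∀ x : L, x ∈ F ↔ x ^ p ^ n = x
  add_q : ∀ x y : L, (x + y) ^ p ^ n = x ^ p ^ n + y ^ p ^ n
  qq : ∀ x : L, (x ^ p ^ n) ^ p ^ n = x
  two_ne : (2 : L) ≠ 0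
  cls_mul : ∀ u ∈ U, ∀ v ∈ U, cls (u * v) = cls u + cls v
  cls_surj : ∀ l, ∃ u ∈ U, cls u = l
  cls_eq_zero : ∀ u ∈ U, (cls u = 0 ↔ u ∈ Cen U j)
  zc_mem : ∀ x, zc x ∈ Cen U j
  zc_add : ∀ x y, zc (x + y) = zc x * zc y
  zc_surj : ∀ z ∈ Cen U j, ∃ x, zc x = z
  zc_inj : Function.Injective zc
  μ_mul : ∀ g ∈ H, ∀ h ∈ H, μ (g * h) = μ g * μ h
  μ_ne : ∀ h ∈ H, μ h ≠ 0
  μ_inj : ∀ g ∈ H, ∀ h ∈ H, μ g = μ h → g = h
  χ_mul : ∀ g ∈ H, ∀ h ∈ H, χ (g * h) = χ g * χ h
  cls_conj : ∀ h ∈ H, ∀ u ∈ U, cls (h * u * h⁻¹) = μ h * cls u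
  zc_conj : ∀ h ∈ H, ∀ x, h * zc x * h⁻¹ = zc (χ h * x)
  χ_surj : ∀ x : F, x ≠ 0 → ∃ h ∈ H, χ h = x

namespace Cfg

variable (C : Cfg G Ω a b U H p n)
include C

/-- Conjugation on `U`. -/
def uConj : H →* MulAut U where
  toFun h :=
    { toFun := fun u => ⟨(h : G) * u * (h : G)⁻¹, C.conj h h.2 u u.2⟩
      invFun := fun u => ⟨(h : G)⁻¹ * u * (h : G), by simpa using C.conj _ (inv_mem h.2) u u.2⟩
      left_inv := fun u => Subtype.ext (by simp [mul_assoc])
      right_inv := fun u => Subtype.ext (by simp [mul_assoc])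
      map_mul' := fun u v => Subtype.ext (by simp [mul_assoc]) }
  map_one' := MulEquiv.ext fun u => Subtype.ext (by simp)
  map_mul' h k := MulEquiv.ext fun u => Subtype.ext (by simp [MulAut.mul_apply, mul_assoc])

theorem exists_coord {j t : G} (T : TorusData a b U H p n j t) :
    ∃ (L : Type) (_ : Field L) (_ : Fintype L) (F : Subfield L) (cls : G → L) (zc : F → G)
      (μ : G → L) (χ : G → F), Coord a b U H p n j t F cls zc μ χ := by
  classical
  haveI := Fact.mk C.prime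
  set N : Subgroup U := (Cen U j).subgroupOf U with hN
  haveI : N.Normal := ⟨fun z hz u => by
    rw [hN, Subgroup.mem_subgroupOf] at hz ⊢
    rwa [Subgroup.coe_mul, Subgroup.coe_mul, Subgroup.coe_inv, ← C.Z_central T hz u.2,
      mul_inv_cancel_right]⟩
  have hmapN : ∀ h : H, N.map (C.uConj h).toMonoidHom = N := by
    intro h
    refine Subgroup.eq_of_le_of_card_ge ?_ (by rw [Subgroup.card_map_of_injective (C.uConj h).injective])
    rintro _ ⟨u, hu, rfl⟩
    exact C.Z_conj T h.2 hu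
  have hcardN : Nat.card N = p ^ n := by
    rw [← T.cardZ]
    exact Nat.card_congr (Subgroup.subgroupOfEquivOfLe inf_le_left).toEquiv
  have hcardW : Nat.card (U ⧸ N) = p ^ (2 * n) := by
    have h := N.card_eq_card_quotient_mul_card_subgroup
    rw [C.cardU, hcardN] at h
    refine Nat.eq_of_mul_eq_mul_right C.q_pos ?_
    rw [← h, ← pow_mul, ← pow_add]
    congr 1; ring
  let φ : H →* MulAut (U ⧸ N) :=
    { toFun := fun h => QuotientGroup.congr N N (C.uConj h) (hmapN h)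
      map_one' := MulEquiv.ext fun w => by
        obtain ⟨w, rfl⟩ := QuotientGroup.mk_surjective w
        show ((C.uConj 1 w : U) : U ⧸ N) = _
        rw [map_one]; rfl
      map_mul' := fun g h => MulEquiv.ext fun w => by
        obtain ⟨w, rfl⟩ := QuotientGroup.mk_surjective w
        show ((C.uConj (g * h) w : U) : U ⧸ N) = _
        rw [map_mul]; rfl }
  have hφ : ∀ (h : H) (u : U), φ h (u : U ⧸ N) = ((C.uConj h u : U) : U ⧸ N) := fun _ _ => rfl
  have hirr : ∀ B : Subgroup (U ⧸ N), (∀ h, ∀ w ∈ B, φ h w ∈ B) → B = ⊥ ∨ B = ⊤ := by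
    intro B hB
    set X := (B.comap (QuotientGroup.mk' N)).map U.subtype with hX
    have hmem : ∀ u : U, (u : G) ∈ X ↔ (u : U ⧸ N) ∈ B := fun u => by
      simp [hX, Subgroup.mem_map]
    have hXU : X ≤ U := Subgroup.map_subtype_le _
    rcases C.invariant_dichotomy T X hXU (fun h hh u hu => by
      have h1 := (hmem ⟨u, hXU hu⟩).1 hu
      exact (hmem (C.uConj ⟨h, hh⟩ ⟨u, hXU hu⟩)).2 (hB ⟨h, hh⟩ _ h1)) with h | h
    · left
      refine (Subgroup.eq_bot_iff_forall _).2 fun w hw => ?_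
      obtain ⟨u, rfl⟩ := QuotientGroup.mk_surjective w
      exact (QuotientGroup.eq_one_iff _).2 (h ((hmem u).2 hw))
    · right
      have hZX : Cen U j ≤ X := fun z hz => by
        refine (hmem ⟨z, (mem_Cen.1 hz).1⟩).2 ?_
        rw [(QuotientGroup.eq_one_iff _).2 (show (⟨z, (mem_Cen.1 hz).1⟩ : U) ∈ N from hz)]
        exact one_mem B
      rw [inf_eq_right.2 hZX, T.cardZ] at h
      have hXU' : X = U := Subgroup.eq_of_le_of_card_ge hXU (by
        rw [h, C.cardU, ← pow_mul, ← pow_add]; exact le_of_eq (by congr 1; ring))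
      refine eq_top_iff.2 fun w _ => ?_
      obtain ⟨u, rfl⟩ := QuotientGroup.mk_surjective w
      exact (hmem u).1 (hXU'.symm ▸ u.2)
  have hWp : IsPGroup p (U ⧸ N) := IsPGroup.of_card hcardW
  haveI : Nontrivial (U ⧸ N) := Finite.one_lt_card_iff_nontrivial.1 (by
    rw [hcardW]; exact Nat.one_lt_pow (by have := C.one_le; omega) C.prime.one_lt)
  have hWcomm : ∀ x y : U ⧸ N, x * y = y * x := by
    rcases hirr (Subgroup.center (U ⧸ N)) (fun h w hw => by
      refine Subgroup.mem_center_iff.2 fun v => ?_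
      rw [← (φ h).apply_symm_apply v, ← map_mul, ← map_mul, Subgroup.mem_center_iff.1 hw]) with h | h
    · exact absurd h ((Subgroup.nontrivial_iff_ne_bot _).1 hWp.center_nontrivial)
    · exact fun x y => Subgroup.mem_center_iff.1 (h ▸ Subgroup.mem_top y) x
  obtain ⟨e, μ0, heb, head, hemul⟩ :=
    exists_field_coord (M := H) (k := 2 * n) hWcomm hcardW (by have := C.one_le; omega) φ
      (fun g h => Subtype.ext (C.H_comm g.2 h.2)) hirr
  obtain ⟨z₁, hz₁, hz₁1⟩ := C.exists_mem_ne_one T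
  obtain ⟨ez, χ0, hezb, hezad, hezmul⟩ :=
    exists_field_coord (A := Cen U j) (M := H) (k := n) (fun x y => Subtype.ext (T.Zcomm x x.2 y y.2))
      T.cardZ (by have := C.one_le; omega) (C.zConj T.jH)
      (fun g h => Subtype.ext (C.H_comm g.2 h.2)) (fun B hB => by
        rcases eq_or_ne B ⊥ with h | h
        · exact Or.inl h
        · right
          obtain ⟨⟨w, hwB⟩, hw⟩ := Subgroup.ne_bot_iff_exists_ne_one.1 h
          refine eq_top_iff.2 fun v _ => ?_
          by_cases hv : v = 1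
          · exact hv ▸ one_mem B
          · obtain ⟨g, hg, e'⟩ := T.Ztrans w w.2 (fun e => hw (Subtype.ext (Subtype.ext e))) v v.2
              (fun e => hv (Subtype.ext e))
            exact (Subtype.ext e' : C.zConj T.jH ⟨g, hg⟩ w = v) ▸ hB ⟨g, hg⟩ w hwB)
  let L := GaloisField p (2 * n)
  haveI : Fintype L := Fintype.ofFinite L
  have hcardL : Nat.card L = (p ^ n) ^ 2 := by
    rw [GaloisField.card p (2 * n) (by have := C.one_le; omega), ← pow_mul, mul_comm]
  have hqq : ∀ x : L, (x ^ p ^ n) ^ p ^ n = x := fun x => by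
    rw [← pow_mul, ← sq, ← hcardL, Nat.card_eq_fintype_card]
    exact FiniteField.pow_card x
  -- the subfield
  let fr : L →+* L := iterateFrobenius L p n
  have hfr : ∀ x, fr x = x ^ p ^ n := fun x => iterateFrobenius_def p n x
  let F : Subfield L := RingHom.eqLocusField fr (RingHom.id L)
  have hmemF : ∀ x : L, x ∈ F ↔ x ^ p ^ n = x := fun x => by
    rw [← hfr]; rfl
  have hF : Nat.card F = p ^ n := by
    haveI : Fintype F := Fintype.ofFinite F
    obtain ⟨g, hg⟩ := IsCyclic.exists_generator (α := Lˣ)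
    have hog : orderOf g = (p ^ n) ^ 2 - 1 := by
      rw [orderOf_eq_card_of_forall_mem_zpowers hg, Nat.card_units, hcardL]
    refine le_antisymm ?_ ?_
    · have hle : ∀ x : F, (x : L) ∈ ((Polynomial.X ^ (p ^ n) - Polynomial.X : Polynomial L)).roots.toFinset := by
        intro x
        rw [Multiset.mem_toFinset, Polynomial.mem_roots
          (FiniteField.X_pow_card_pow_sub_X_ne_zero L (by have := C.one_le; omega) C.prime.one_lt)]
        simp [(hmemF x).1 x.2]
      calc Nat.card F ≤ ((Polynomial.X ^ (p ^ n) - Polynomial.X : Polynomial L)).roots.toFinset.card := by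
            rw [← Nat.card_eq_finsetCard]
            exact Nat.card_le_card_of_injective (fun x => ⟨(x : L), hle x⟩)
              fun x y e => Subtype.ext (congrArg (fun z => z.1) e)
        _ ≤ _ := (Multiset.toFinset_card_le _).trans ((Polynomial.card_roots' _).trans
            (le_of_eq (FiniteField.X_pow_card_pow_sub_X_natDegree_eq L (by have := C.one_le; omega) C.prime.one_lt)))
    · -- the powers of `g ^ (q + 1)` and zero
      let k := (g ^ (p ^ n + 1) : Lˣ)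
      have hk : ∀ i : ℕ, ((k ^ i : Lˣ) : L) ∈ F := fun i => by
        rw [hmemF, ← Units.val_pow_eq_pow_val]
        congr 1
        show ((g ^ (p ^ n + 1)) ^ i) ^ p ^ n = (g ^ (p ^ n + 1)) ^ i
        rw [← pow_mul, ← pow_mul, ← pow_mul, pow_eq_pow_iff_modEq, hog]
        refine Nat.ModEq.symm ((Nat.modEq_iff_dvd' (Nat.mul_le_mul_left _ (Nat.le_mul_of_pos_right i C.q_pos))).2 ⟨i, ?_⟩)
        rw [← one_pow 2, Nat.sq_sub_sq, ← Nat.mul_sub, ← Nat.mul_sub_one]
        ring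
      have hok : orderOf k = p ^ n - 1 := by
        rw [orderOf_pow' _ (by omega), hog, Nat.gcd_eq_right ⟨p ^ n - 1, by rw [← one_pow 2, Nat.sq_sub_sq, mul_comm]; ring⟩,
          ← one_pow 2, Nat.sq_sub_sq, one_pow, Nat.mul_div_cancel_left _ (by omega : 0 < p ^ n + 1)]
      have h := Nat.card_le_card_of_injective
        (fun o : Option (Fin (p ^ n - 1)) => o.elim (0 : F) fun i => ⟨((k ^ (i : ℕ) : Lˣ) : L), hk i⟩) ?_
      · rw [Finite.card_option, Nat.card_fin] at h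
        have := C.q_pos
        omega
      · rintro (_ | i) (_ | i') e
        · rfl
        · exact absurd (congrArg Subtype.val e).symm (Units.ne_zero (k ^ (i' : ℕ)))
        · exact absurd (congrArg Subtype.val e) (Units.ne_zero (k ^ (i : ℕ)))
        · refine congrArg some (Fin.ext (pow_injOn_Iio_orderOf ?_ ?_ (Units.ext (congrArg Subtype.val e))))
          · rw [Set.mem_Iio, hok]; exact i.2
          · rw [Set.mem_Iio, hok]; exact i'.2
  haveI : Fintype F := Fintype.ofFinite F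
  haveI : Fintype (GaloisField p n) := Fintype.ofFinite _
  obtain ⟨θ⟩ : Nonempty (GaloisField p n ≃+* F) := ⟨FiniteField.ringEquivOfCardEq (by
    rw [← Nat.card_eq_fintype_card, ← Nat.card_eq_fintype_card, hF,
      GaloisField.card p n (by have := C.one_le; omega)])⟩
  let ze := Equiv.ofBijective ez hezb
  let cls : G → L := fun u => if hu : u ∈ U then e ((⟨u, hu⟩ : U) : U ⧸ N) else 0
  have hcls : ∀ u (hu : u ∈ U), cls u = e ((⟨u, hu⟩ : U) : U ⧸ N) := fun u hu => dif_pos hu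
  let μ : G → L := fun h => if hh : h ∈ H then μ0 ⟨h, hh⟩ else 0
  have hμ : ∀ h (hh : h ∈ H), μ h = μ0 ⟨h, hh⟩ := fun h hh => dif_pos hh
  let χ : G → F := fun h => if hh : h ∈ H then θ (χ0 ⟨h, hh⟩) else 0
  have hχ : ∀ h (hh : h ∈ H), χ h = θ (χ0 ⟨h, hh⟩) := fun h hh => dif_pos hh
  let zc : F → G := fun x => ((ze.symm (θ.symm x) : Cen U j) : G)
  have hzc : ∀ x, ez (ze.symm (θ.symm x)) = θ.symm x := fun x => ze.apply_symm_apply _
  have he1 : e 1 = 0 := by
    have := head 1 1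
    rwa [mul_one, left_eq_add] at this
  have hzero : ∀ u (hu : u ∈ U), cls u = 0 ↔ u ∈ Cen U j := fun u hu => by
    rw [hcls u hu, ← he1, heb.1.eq_iff, QuotientGroup.eq_one_iff]
    rfl
  obtain ⟨w₀, hw₀⟩ := exists_ne (1 : U ⧸ N)
  have hew : e w₀ ≠ 0 := fun h => hw₀ (heb.1 (h.trans he1.symm))
  have hez1 : ez 1 = 0 := by
    have := hezad 1 1
    rwa [mul_one, left_eq_add] at this
  have hezne : ez ⟨z₁, hz₁⟩ ≠ 0 := fun h => hz₁1 (congrArg Subtype.val (hezb.1 (h.trans hez1.symm)))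
  refine ⟨L, inferInstance, inferInstance, F, cls, zc, μ, χ, T, fun z hz u hu => C.Z_central T hz hu,
    hcardL, hF, hmemF, fun x y => add_pow_char_pow x y p n, hqq, ?_, ?_, ?_, hzero, fun x => Subtype.mem _,
    ?_, ?_, ?_, ?_, ?_, ?_, ?_, ?_, ?_, ?_⟩
  · intro h
    have h1 : ((2 : ℕ) : L) = 0 := by exact_mod_cast h
    rw [CharP.cast_eq_zero_iff L p] at h1
    exact C.odd ((Nat.prime_dvd_prime_iff_eq C.prime Nat.prime_two).1 h1)
  · intro u hu v hv
    rw [hcls _ (mul_mem hu hv), hcls u hu, hcls v hv, ← head]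
    rfl
  · intro l
    obtain ⟨w, rfl⟩ := heb.2 l
    obtain ⟨u, rfl⟩ := QuotientGroup.mk_surjective w
    exact ⟨u, u.2, hcls u u.2⟩
  · intro x y
    have : ze.symm (θ.symm (x + y)) = ze.symm (θ.symm x) * ze.symm (θ.symm y) :=
      hezb.1 (by rw [hzc, map_add, hezad, hzc, hzc])
    exact congrArg Subtype.val this
  · intro z hz
    exact ⟨θ (ez ⟨z, hz⟩), by simp [zc, ze]⟩
  · intro x y h
    exact θ.symm.injective (ze.symm.injective (Subtype.ext h))
  · intro g hg h hh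
    rw [hμ _ (mul_mem hg hh), hμ g hg, hμ h hh]
    refine mul_right_cancel₀ hew ?_
    rw [← hemul, mul_assoc, ← hemul, ← hemul, ← MulAut.mul_apply, ← map_mul]
    rfl
  · intro h hh h0
    rw [hμ h hh] at h0
    have := hemul ⟨h, hh⟩ w₀
    rw [h0, zero_mul, ← he1] at this
    exact hw₀ ((φ ⟨h, hh⟩).injective ((heb.1 this).trans (map_one _).symm))
  · intro g hg h hh hgh
    rw [hμ g hg, hμ h hh] at hgh
    -- `h⁻¹ g` acts trivially modulo `Z`
    by_contra hne
    have hx1 : h⁻¹ * g ≠ 1 := fun e' => hne (inv_mul_eq_one.1 e').symm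
    have hxH : h⁻¹ * g ∈ H := mul_mem (inv_mem hh) hg
    have htriv : ∀ u : U, φ ⟨h⁻¹ * g, hxH⟩ (u : U ⧸ N) = (u : U ⧸ N) := by
      intro u
      apply (φ ⟨h, hh⟩).injective
      rw [← MulAut.mul_apply, ← map_mul, show (⟨h, hh⟩ : H) * ⟨h⁻¹ * g, hxH⟩ = ⟨g, hg⟩ from
        Subtype.ext (mul_inv_cancel_left h g)]
      exact heb.1 (by rw [hemul, hemul, hgh])
    have hf : ∀ u : U, (h⁻¹ * g) * u * (h⁻¹ * g)⁻¹ * (u : G)⁻¹ ∈ Cen U j := by
      intro u
      have h0 : (u : U ⧸ N) = ((C.uConj ⟨h⁻¹ * g, hxH⟩ u : U) : U ⧸ N) := (htriv u).symm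
      have h2' := QuotientGroup.eq.1 h0
      have h2 : (u : G)⁻¹ * ((h⁻¹ * g) * u * (h⁻¹ * g)⁻¹) ∈ Cen U j := h2'
      have h3 := C.Z_central T h2 u.2
      rw [show (h⁻¹ * g) * u * (h⁻¹ * g)⁻¹ * (u : G)⁻¹
        = (u : G) * ((u : G)⁻¹ * ((h⁻¹ * g) * u * (h⁻¹ * g)⁻¹)) * (u : G)⁻¹ by group, ← h3,
        mul_inv_cancel_right]
      exact h2
    let ψ : U →* Cen U j :=
      MonoidHom.mk' (fun u => ⟨_, hf u⟩) (fun u v => by
        refine Subtype.ext ?_
        show (h⁻¹ * g) * ((u : G) * v) * (h⁻¹ * g)⁻¹ * ((u : G) * v)⁻¹ =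
          (h⁻¹ * g) * u * (h⁻¹ * g)⁻¹ * (u : G)⁻¹ * ((h⁻¹ * g) * v * (h⁻¹ * g)⁻¹ * (v : G)⁻¹)
        calc (h⁻¹ * g) * ((u : G) * v) * (h⁻¹ * g)⁻¹ * ((u : G) * v)⁻¹
            = (h⁻¹ * g) * u * (h⁻¹ * g)⁻¹ * ((h⁻¹ * g) * v * (h⁻¹ * g)⁻¹ * (v : G)⁻¹) * (u : G)⁻¹ := by
              group
          _ = _ := by
              rw [mul_assoc _ _ (u : G)⁻¹, C.Z_central T (hf v) (inv_mem u.2), ← mul_assoc])
    have hker : ∀ u : U, u ∈ ψ.ker → (u : G) ∈ Cen U (h⁻¹ * g) := fun u hu => by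
      have := congrArg Subtype.val (MonoidHom.mem_ker.1 hu)
      exact mem_Cen.2 ⟨u.2, mul_inv_eq_iff_eq_mul.1 (mul_inv_eq_one.1 this)⟩
    have h1 : Nat.card ψ.ker ≤ p ^ n :=
      (Nat.card_le_card_of_injective (fun u => (⟨_, hker u.1 u.2⟩ : Cen U (h⁻¹ * g)))
        fun u v e' => Subtype.ext (Subtype.ext (congrArg (fun z => z.1) e'))).trans (C.Cen_le hxH hx1)
    have h2 := Subgroup.card_mul_index ψ.ker
    rw [Subgroup.index_ker, C.cardU] at h2
    have h3 : Nat.card ψ.range ≤ p ^ n := T.cardZ ▸ Subgroup.card_le_card_group _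
    have h4 : (p ^ n) ^ 3 ≤ p ^ n * p ^ n := h2 ▸ Nat.mul_le_mul h1 h3
    have := C.q_three
    nlinarith [Nat.mul_le_mul this (le_refl (p ^ n * p ^ n))]
  · intro g hg h hh
    rw [hχ _ (mul_mem hg hh), hχ g hg, hχ h hh, ← map_mul]
    congr 1
    refine mul_right_cancel₀ hezne ?_
    rw [← hezmul, mul_assoc, ← hezmul, ← hezmul, ← MulAut.mul_apply, ← map_mul]
    rfl
  · intro h hh u hu
    rw [hcls _ (C.conj h hh u hu), hμ h hh, hcls u hu, ← hemul]
    rfl
  · intro h hh x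
    have : C.zConj T.jH ⟨h, hh⟩ (ze.symm (θ.symm x)) = ze.symm (θ.symm (χ h * x)) :=
      hezb.1 (by rw [hezmul, hzc, hzc, hχ h hh, map_mul, RingEquiv.symm_apply_apply])
    exact congrArg Subtype.val this
  · intro x hx
    obtain ⟨⟨z, hz⟩, hze⟩ := hezb.2 (θ.symm x * ez ⟨z₁, hz₁⟩)
    have hz1 : z ≠ 1 := fun e' => by
      have : (⟨z, hz⟩ : Cen U j) = 1 := Subtype.ext e'
      rw [this, hez1] at hze
      exact mul_ne_zero ((map_ne_zero θ.symm).2 hx) hezne hze.symm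
    obtain ⟨g, hg, e'⟩ := T.Ztrans z₁ hz₁ hz₁1 z hz hz1
    refine ⟨g, hg, ?_⟩
    have h3 := hezmul ⟨g, hg⟩ ⟨z₁, hz₁⟩
    rw [show C.zConj T.jH ⟨g, hg⟩ ⟨z₁, hz₁⟩ = ⟨z, hz⟩ from Subtype.ext e', hze] at h3
    rw [hχ g hg, ← mul_right_cancel₀ hezne h3, RingEquiv.apply_symm_apply]

end Cfg

end Cfsg.Agent.H36.OddU3
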