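import Mathlib

/-!
An abelian group of exponent `p` with an irreducible commutative group of automorphisms is the
additive group of a field, the automorphisms being multiplications.
-/

set_option autoImplicit false
set_option linter.style.haveILetI false
set_option linter.unusedSectionVars false

namespace Cfsg.Agent.H36.OddU3

open Classical in
theorem exists_field_coord {p k : ℕ} [Fact p.Prime] {A : Type*} [Group A] [Finite A]
    (hA : ∀ x y : A, x * y = y * x) (hcard : Nat.card A = p ^ k) (hk : k ≠ 0) {M : Type*} [Group M]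
    (φ : M →* MulAut A) (hcomm : ∀ m m' : M, m * m' = m' * m)
    (hirr : ∀ B : Subgroup A, (∀ m, ∀ x ∈ B, φ m x ∈ B) → B = ⊥ ∨ B = ⊤) :
    ∃ (e : A → GaloisField p k) (μ : M → GaloisField p k), Function.Bijective e ∧
      (∀ x y, e (x * y) = e x + e y) ∧ ∀ m x, e (φ m x) = μ m * e x := by
  letI : CommGroup A := { ‹Group A› with mul_comm := hA }
  let act : M → AddMonoid.End (Additive A) := fun m => MonoidHom.toAdditive (φ m).toMonoidHom
  have hact : ∀ m x, act m (Additive.ofMul x) = Additive.ofMul (φ m x) := fun _ _ => rfl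
  let R : Subring (AddMonoid.End (Additive A)) := Subring.closure (Set.range act)
  haveI hRc : IsMulCommutative R := Subring.isMulCommutative_closure (by
    rintro _ ⟨m, rfl⟩ _ ⟨m', rfl⟩
    refine AddMonoidHom.ext fun x => ?_
    show act m (act m' x) = act m' (act m x)
    rw [← Additive.ofMul.apply_symm_apply x, hact, hact, hact, hact, ← MulAut.mul_apply,
      ← MulAut.mul_apply, ← map_mul, ← map_mul, hcomm])
  let gen : M → R := fun m => ⟨act m, Subring.subset_closure ⟨m, rfl⟩⟩
  have hker : ∀ (r : R) (x : Additive A), r.1 x = 0 → x ≠ 0 → r = 0 := by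
    intro r x hx hx0
    let B : Subgroup A :=
      { carrier := {y | r.1 (Additive.ofMul y) = 0}
        one_mem' := r.1.map_zero
        mul_mem' := fun {y z} hy hz => by
          show r.1 (Additive.ofMul y + Additive.ofMul z) = 0
          rw [map_add, hy, hz, add_zero]
        inv_mem' := fun {y} hy => by
          show r.1 (-Additive.ofMul y) = 0
          rw [map_neg, hy, neg_zero] }
    have hB := hirr B (fun m y hy => by
      show r.1 (Additive.ofMul (φ m y)) = 0
      rw [← hact]
      have := congrArg (fun s : R => s.1 (Additive.ofMul y)) (mul_comm' r (gen m))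
      simp only [Subring.coe_mul] at this
      refine this.trans ?_
      show act m (r.1 (Additive.ofMul y)) = 0
      rw [show r.1 (Additive.ofMul y) = 0 from hy, map_zero])
    rcases hB with h | h
    · exfalso
      apply hx0
      have : Additive.toMul x ∈ B := hx
      rw [h, Subgroup.mem_bot] at this
      exact this
    · refine Subtype.ext (AddMonoidHom.ext fun y => ?_)
      exact (show Additive.toMul y ∈ B from h ▸ Subgroup.mem_top _)
  haveI : Nontrivial A := Finite.one_lt_card_iff_nontrivial.1 (by
    rw [hcard]; exact Nat.one_lt_pow hk (Fact.out : p.Prime).one_lt)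
  obtain ⟨a0, ha0⟩ := exists_ne (0 : Additive A)
  haveI : Nontrivial R := ⟨⟨0, 1, fun e => ha0 (congrArg (fun s : R => s.1 a0) e).symm⟩⟩
  haveI : NoZeroDivisors R := ⟨fun {r s} h => by
    by_contra hc
    push Not at hc
    have h1 : r.1 (s.1 a0) = 0 := congrArg (fun u : R => u.1 a0) h
    exact hc.1 (hker r _ h1 fun e => hc.2 (hker s _ e ha0))⟩
  have hev : Function.Bijective (fun r : R => r.1 a0) := by
    refine ⟨fun r s e => sub_eq_zero.1 (hker (r - s) a0 ?_ ha0), ?_⟩
    · show r.1 a0 - s.1 a0 = 0
      exact sub_eq_zero.2 e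
    · let B : Subgroup A :=
        { carrier := {y | ∃ r : R, r.1 a0 = Additive.ofMul y}
          one_mem' := ⟨0, rfl⟩
          mul_mem' := by
            rintro y z ⟨r, hr⟩ ⟨s, hs⟩
            refine ⟨r + s, ?_⟩
            show r.1 a0 + s.1 a0 = _
            rw [hr, hs]; rfl
          inv_mem' := by
            rintro y ⟨r, hr⟩
            refine ⟨-r, ?_⟩
            show -(r.1 a0) = _
            rw [hr]; rfl }
      rcases hirr B (fun m y ⟨r, hr⟩ => ⟨gen m * r, by
          show act m (r.1 a0) = _
          rw [hr, hact]⟩) with h | h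
      · exfalso
        apply ha0
        have : Additive.toMul a0 ∈ B := ⟨1, rfl⟩
        rw [h, Subgroup.mem_bot] at this
        exact this
      · exact fun y => (show Additive.toMul y ∈ B from h ▸ Subgroup.mem_top _)
  haveI : Finite R := Finite.of_injective _ hev.1
  haveI : Fintype R := Fintype.ofFinite R
  letI : CommRing R := { (inferInstance : Ring R) with mul_comm := fun r s => mul_comm' r s }
  haveI : IsDomain R := NoZeroDivisors.to_isDomain R
  letI : Field R := Fintype.fieldOfDomain R
  haveI : Fintype (GaloisField p k) := Fintype.ofFinite _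
  have hc : Fintype.card R = Fintype.card (GaloisField p k) := by
    rw [← Nat.card_eq_fintype_card, ← Nat.card_eq_fintype_card, GaloisField.card p k hk, ← hcard,
      Nat.card_congr (Equiv.ofBijective _ hev)]
    exact Nat.card_congr Additive.toMul
  obtain ⟨θ⟩ : Nonempty (R ≃+* GaloisField p k) := ⟨FiniteField.ringEquivOfCardEq hc⟩
  obtain ⟨F, hF⟩ : ∃ F : A → R, ∀ x, (F x).1 a0 = Additive.ofMul x :=
    ⟨fun x => (hev.2 (Additive.ofMul x)).choose, fun x => (hev.2 (Additive.ofMul x)).choose_spec⟩
  have hu : ∀ (r : R) (x : A), r.1 a0 = Additive.ofMul x → F x = r := fun r x h =>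
    hev.1 ((hF x).trans h.symm)
  have hFb : Function.Bijective F := by
    refine ⟨fun x y e => Additive.ofMul.injective (((hF x).symm.trans (by rw [e])).trans (hF y)),
      fun r => ⟨Additive.toMul (r.1 a0), hu _ _ rfl⟩⟩
  have hadd : ∀ x y, F (x * y) = F x + F y := fun x y => hu _ _ (by
    show (F x).1 a0 + (F y).1 a0 = _
    rw [hF, hF, ofMul_mul])
  have hmul : ∀ m x, F (φ m x) = gen m * F x := fun m x => hu _ _ (by
    show act m ((F x).1 a0) = _
    rw [hF, hact])
  refine ⟨fun x => θ (F x), fun m => θ (gen m), ?_, ?_, ?_⟩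
  · exact Function.Bijective.comp (EquivLike.bijective θ) hFb
  · intro x y
    show θ (F (x * y)) = θ (F x) + θ (F y)
    rw [hadd, map_add]
  · intro m x
    show θ (F (φ m x)) = θ (gen m) * θ (F x)
    rw [hmul, map_mul]

end Cfsg.Agent.H36.OddU3
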