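import Cfsg.Agent.H36.OddU3.Base

/-!
The involution of a two-point stabiliser: its centraliser in `U` has order `q`, and two points
are exchanged by exactly `q - 1` of its conjugates.
-/

set_option autoImplicit false
set_option linter.unusedSectionVars false
set_option linter.style.haveILetI false

namespace Cfsg.Agent.H36.OddU3

open MulAction

theorem card_ne_pairs (T : Type*) [Finite T] :
    Nat.card {pr : T × T // pr.1 ≠ pr.2} = Nat.card T * (Nat.card T - 1) := by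
  classical
  haveI := Fintype.ofFinite T
  rw [Nat.card_eq_fintype_card, Nat.card_eq_fintype_card, Fintype.card_subtype,
    show (Finset.univ.filter fun pr : T × T => pr.1 ≠ pr.2) = Finset.univ.offDiag by ext; simp,
    Finset.offDiag_card, Finset.card_univ, Nat.mul_sub, mul_one]

theorem inv_eq_of_orderOf_two {G : Type*} [Group G] {j : G} (hj : orderOf j = 2) : j⁻¹ = j := by
  rw [inv_eq_iff_mul_eq_one, ← sq, ← hj, pow_orderOf_eq_one]

variable {G Ω : Type*} [Group G] [Finite G] [MulAction G Ω] [FaithfulSMul G Ω] {a b : Ω}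
  {U H : Subgroup G} {p n : ℕ}

namespace Cfg

variable (C : Cfg G Ω a b U H p n)
include C

theorem isPGroupU : IsPGroup p U := IsPGroup.of_card (n := n * 3) (by rw [C.cardU, ← pow_mul])

theorem cardH_pos : 0 < Nat.card H := Nat.card_pos

theorem cardH_le : Nat.card H ≤ p ^ (2 * n) - 1 := by
  obtain ⟨g, hg, -, hcard⟩ := C.cardH
  rw [← hcard]
  exact Nat.le_mul_of_pos_left _ (by omega)

theorem exists_invol : ∃ j ∈ H, orderOf j = 2 := by
  haveI := Fact.mk Nat.prime_two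
  have h2 : 2 ∣ Nat.card H := by
    have hodd : Odd (p ^ (2 * n)) := (C.prime.odd_of_ne_two C.odd).pow
    obtain ⟨g, hg, -, hcard⟩ := C.cardH
    have h : 2 ∣ g * Nat.card H := by
      rw [hcard]
      obtain ⟨t, ht⟩ := hodd
      exact ⟨t, by omega⟩
    rcases Nat.prime_two.dvd_mul.1 h with h | h
    · rcases hg with e | e <;> rw [e] at h <;> norm_num at h
    · exact h
  obtain ⟨j, hj⟩ := exists_prime_orderOf_dvd_card' (G := H) 2 h2
  exact ⟨j, j.2, by rw [Subgroup.orderOf_coe]; exact hj⟩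

theorem eq_one_of_Cen_eq {h : G} (hh : h ∈ H) (hU : U ≤ Cen U h) : h = 1 := by
  refine eq_of_smul_eq_smul (α := Ω) fun c => ?_
  rw [one_smul]
  by_cases hc : c = a
  · rw [hc]; exact ((C.H_iff h).1 hh).1
  · obtain ⟨u, hu, rfl⟩ := C.exists_u hc
    exact (C.fix_iff hh hu).2 (mem_Cen.1 (hU hu)).2

theorem exists_exponent {h : G} (hh : h ∈ H) (h1 : h ≠ 1) :
    ∃ e, e < 3 * n ∧ Nat.card (Cen U h) = p ^ e := by
  haveI := Fact.mk C.prime
  obtain ⟨e, he, hc⟩ := (Nat.dvd_prime_pow C.prime).1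
    (show Nat.card (Cen U h) ∣ p ^ (n * 3) by
      rw [pow_mul, ← C.cardU]; exact Subgroup.card_dvd_of_le inf_le_left)
  refine ⟨e, lt_of_le_of_ne (by omega) fun e3 => h1 (C.eq_one_of_Cen_eq hh ?_), hc⟩
  refine (Subgroup.eq_of_le_of_card_ge inf_le_left ?_).ge
  rw [show U ⊓ Subgroup.centralizer {h} = Cen U h from rfl, hc, C.cardU, ← pow_mul, e3, mul_comm n 3]

/-- Every centraliser in `U`: `p ^ e + 1` divides `q ^ 3 + 1`. -/
theorem exponent_dvd {h : G} (hh : h ∈ H) {e : ℕ} (he : Nat.card (Cen U h) = p ^ e) :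
    p ^ e + 1 ∣ p ^ (3 * n) + 1 := by
  haveI := C.finite
  have h := C.line_dvd hh (Set.univ : Set Ω) (fun _ _ _ _ _ _ _ _ _ => Set.subset_univ _)
  rw [Nat.card_congr (Equiv.Set.univ Ω), C.card_Ω, he, Nat.add_sub_cancel, ← pow_mul, mul_comm n 3]
    at h
  have hco : (p ^ e + 1).Coprime (p ^ (3 * n)) := by
    refine Nat.Coprime.pow_right _ ((Nat.Prime.coprime_iff_not_dvd C.prime).2 ?_).symm
    intro hd
    by_cases e0 : e = 0
    · subst e0
      rw [pow_zero] at hd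
      exact C.odd ((Nat.prime_dvd_prime_iff_eq C.prime Nat.prime_two).1 hd)
    · exact C.prime.not_dvd_one ((Nat.dvd_add_right (dvd_pow_self p e0)).1 hd)
  exact hco.dvd_of_dvd_mul_right ((dvd_mul_right _ _).trans h)

theorem not_two_le {h : G} (hh : h ∈ H) (h1 : h ≠ 1) : Nat.card (Cen U h) < p ^ (2 * n) := by
  obtain ⟨e, he3, he⟩ := C.exists_exponent hh h1
  rw [he]
  refine Nat.pow_lt_pow_right C.prime.one_lt ?_
  by_contra hle
  have := C.one_le
  obtain ⟨i, hi⟩ := exists_odd_mul_of_dvd C.three_le (by omega) _ (C.exponent_dvd hh he)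
  rcases i with _ | i
  · omega
  · have : 3 * e ≤ e * (2 * (i + 1) + 1) := by nlinarith
    omega

theorem eq_of_invol {j i i' : G} (hj : orderOf j = 2) (hi : IsConj j i) (hi' : IsConj j i')
    {x y : Ω} (hxy : x ≠ y) (h1 : i • x = x) (h2 : i • y = y) (h3 : i' • x = x) (h4 : i' • y = y) :
    i = i' := by
  obtain ⟨k, hkx, hky⟩ := C.exists_move hxy
  obtain ⟨l, hl⟩ := isConj_iff.1 hi
  obtain ⟨l', hl'⟩ := isConj_iff.1 hi'
  have ho : ∀ m z : G, orderOf z = 2 → orderOf (m * z * m⁻¹) = 2 := fun m z hz => by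
    rw [← MulAut.conj_apply, MulEquiv.orderOf_eq, hz]
  have o1 : orderOf (k⁻¹ * i * k) = 2 := by
    have := ho k⁻¹ i (hl ▸ ho l j hj); simpa using this
  have o2 : orderOf (k⁻¹ * i' * k) = 2 := by
    have := ho k⁻¹ i' (hl' ▸ ho l' j hj); simpa using this
  have hm := C.zpowers_eq_of_order (C.mem_H_conj hkx hky h1 h2) (C.mem_H_conj hkx hky h3 h4)
    (by rw [o1, ← o2, pow_orderOf_eq_one])
  obtain ⟨z, hz⟩ := Subgroup.mem_zpowers_iff.1 hm
  have : k⁻¹ * i' * k = k⁻¹ * i * k := by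
    rcases Int.emod_two_eq_zero_or_one z with h0 | h0
    · exfalso
      have h' : k⁻¹ * i' * k = 1 := by
        rw [← hz, ← zpow_mod_orderOf, o1, show z % ((2 : ℕ) : ℤ) = 0 from h0, zpow_zero]
      rw [h', orderOf_one] at o2
      norm_num at o2
    · rw [← hz, ← zpow_mod_orderOf, o1, show z % ((2 : ℕ) : ℤ) = 1 from h0, zpow_one]
  exact (mul_left_cancel (mul_right_cancel this)).symm

/-- The double count for the conjugates of the involution. -/
theorem invol_count {j : G} (hjH : j ∈ H) (hj : orderOf j = 2) {x₀ y₀ : Ω} (hxy : x₀ ≠ y₀) :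
    ((p ^ n) ^ 3 - Nat.card (Cen U j)) =
      (Nat.card (Cen U j) + 1) * Nat.card (Cen U j) *
        Nat.card {i : G // IsConj j i ∧ i • x₀ = y₀} := by
  classical
  haveI := C.finite
  set k := Nat.card (Cen U j) + 1 with hk
  set v := Nat.card Ω with hv
  let I := {i : G // IsConj j i}
  haveI := Fintype.ofFinite I
  haveI := Fintype.ofFinite {pr : Ω × Ω // pr.1 ≠ pr.2}
  have hsq : ∀ i : I, ∀ z : Ω, i.1 • i.1 • z = z := by
    rintro ⟨i, hi⟩ z
    obtain ⟨l, hl⟩ := isConj_iff.1 hi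
    have h2 : i * i = 1 := by
      rw [← hl, show l * j * l⁻¹ * (l * j * l⁻¹) = l * (j * j) * l⁻¹ by group, ← sq, ← hj,
        pow_orderOf_eq_one, mul_one, mul_inv_cancel]
    rw [← mul_smul, h2, one_smul]
  have hfix : ∀ i : I, Nat.card (fixedBy Ω i.1) = k := fun i => C.card_fixedBy_conj hjH i.2
  -- pairs of fixed points
  have h1 : Nat.card I * (k * (k - 1)) = v * (v - 1) := by
    have hb : Function.Bijective (fun z : Σ i : I, {pr : fixedBy Ω i.1 × fixedBy Ω i.1 // pr.1 ≠ pr.2} =>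
        (⟨(z.2.1.1.1, z.2.1.2.1), fun e => z.2.2 (Subtype.ext e)⟩ : {pr : Ω × Ω // pr.1 ≠ pr.2})) := by
      constructor
      · rintro ⟨i, ⟨⟨x, y⟩, hne⟩⟩ ⟨i', ⟨⟨x', y'⟩, hne'⟩⟩ e
        simp only [Subtype.mk.injEq, Prod.mk.injEq] at e
        obtain rfl : i = i' := Subtype.ext (C.eq_of_invol hj i.2 i'.2 (fun h => hne (Subtype.ext h))
          x.2 y.2 (e.1 ▸ x'.2) (e.2 ▸ y'.2))
        obtain rfl : x = x' := Subtype.ext e.1
        obtain rfl : y = y' := Subtype.ext e.2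
        rfl
      · rintro ⟨⟨x, y⟩, hne⟩
        obtain ⟨i, hix, hiy, hi⟩ := C.exists_conj hne hjH
        exact ⟨⟨⟨i, hi⟩, ⟨⟨⟨x, hix⟩, ⟨y, hiy⟩⟩, fun e => hne (congrArg Subtype.val e)⟩⟩, rfl⟩
    rw [hv, ← card_ne_pairs Ω, ← Nat.card_congr (Equiv.ofBijective _ hb), Nat.card_sigma,
      Finset.sum_congr rfl (fun i _ => (card_ne_pairs (fixedBy Ω i.1)).trans (by rw [hfix i])),
      Finset.sum_const, smul_eq_mul, Finset.card_univ, Nat.card_eq_fintype_card]
  -- moved pairs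
  set s := Nat.card {i : G // IsConj j i ∧ i • x₀ = y₀} with hs
  have hconst : ∀ pr : {pr : Ω × Ω // pr.1 ≠ pr.2},
      Nat.card {i : I // i.1 • pr.1.1 = pr.1.2} = s := by
    rintro ⟨⟨x, y⟩, hne⟩
    obtain ⟨g₀, hg₀a, hg₀b⟩ := C.exists_move hxy
    obtain ⟨g₁, hg₁a, hg₁b⟩ := C.exists_move hne
    set g := g₁ * g₀⁻¹ with hg
    have hgx : g • x₀ = x := by rw [hg, mul_smul, ← hg₀a, inv_smul_smul, hg₁a]
    have hgy : g • y₀ = y := by rw [hg, mul_smul, ← hg₀b, inv_smul_smul, hg₁b]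
    exact Nat.card_congr
      { toFun := fun i => ⟨g⁻¹ * i.1.1 * g,
          i.1.2.trans (isConj_iff.2 ⟨g⁻¹, by rw [inv_inv]⟩), by
            rw [mul_smul, mul_smul, hgx]
            exact inv_smul_eq_iff.2 (i.2.trans hgy.symm)⟩
        invFun := fun i => ⟨⟨g * i.1 * g⁻¹, i.2.1.trans (isConj_iff.2 ⟨g, rfl⟩)⟩, by
            show (g * i.1 * g⁻¹) • x = y
            rw [mul_smul, mul_smul, ← hgx, inv_smul_smul, i.2.2, hgy]⟩
        left_inv := fun i => Subtype.ext (Subtype.ext (by simp [mul_assoc]))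
        right_inv := fun i => Subtype.ext (by simp [mul_assoc]) }
  have h2 : Nat.card I * (v - k) = v * (v - 1) * s := by
    let e : (Σ i : I, {z : Ω // i.1 • z ≠ z}) ≃
        (Σ pr : {pr : Ω × Ω // pr.1 ≠ pr.2}, {i : I // i.1 • pr.1.1 = pr.1.2}) :=
      { toFun := fun z => ⟨⟨(z.2.1, z.1.1 • z.2.1), fun e => z.2.2 e.symm⟩, ⟨z.1, rfl⟩⟩
        invFun := fun z => ⟨z.2.1, ⟨z.1.1.1, fun e => z.1.2 (e.symm.trans z.2.2)⟩⟩
        left_inv := fun _ => rfl
        right_inv := by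
          rintro ⟨⟨⟨x, y⟩, hne⟩, ⟨i, hi⟩⟩
          simp only at hi
          subst hi
          rfl }
    have hmoved : ∀ i : I, Nat.card {z : Ω // i.1 • z ≠ z} = v - k := by
      intro i
      haveI := Fintype.ofFinite Ω
      rw [hv, ← hfix i, Nat.card_eq_fintype_card, Nat.card_eq_fintype_card, Nat.card_eq_fintype_card]
      exact Fintype.card_subtype_compl (fun z => i.1 • z = z)
    have := Nat.card_congr e
    rw [Nat.card_sigma, Nat.card_sigma, Finset.sum_congr rfl (fun i _ => hmoved i),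
      Finset.sum_congr rfl (fun i _ => hconst i), Finset.sum_const, Finset.sum_const, smul_eq_mul,
      smul_eq_mul, Finset.card_univ, Finset.card_univ, ← Nat.card_eq_fintype_card,
      ← Nat.card_eq_fintype_card, card_ne_pairs] at this
    exact this
  have hIpos : 0 < Nat.card I := by
    haveI : Nonempty I := ⟨⟨j, IsConj.refl j⟩⟩
    exact Nat.card_pos
  rw [← h1, mul_assoc] at h2
  have h3 := Nat.eq_of_mul_eq_mul_left hIpos h2
  rw [hk, hv, C.card_Ω, Nat.add_sub_cancel] at h3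
  rw [← h3]
  omega

/-- A swapper is a coset representative. -/
theorem swappers_le {j : G} {x₀ y₀ : Ω} (hxy : x₀ ≠ y₀) :
    Nat.card {i : G // IsConj j i ∧ i • x₀ = y₀ ∧ i • y₀ = x₀} ≤ Nat.card H := by
  obtain ⟨k, hkx, hky⟩ := C.exists_move hxy
  obtain ⟨w, hwa, hwb⟩ := C.swap
  refine Nat.card_le_card_of_injective
    (fun i => (⟨w * (k⁻¹ * i.1 * k), ?_⟩ : H)) fun i i' e => ?_
  · rw [C.H_iff]
    obtain ⟨_, _, hx, hy⟩ := i
    simp only [mul_smul, hkx, hky, hx, hy]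
    rw [← hky, inv_smul_smul, ← hkx, inv_smul_smul]
    exact ⟨hwb, hwa⟩
  · have := congrArg Subtype.val e
    simp only [mul_right_inj] at this
    exact Subtype.ext (mul_left_cancel (mul_right_cancel this))

theorem swappers_eq {j : G} (hj : orderOf j = 2) (x₀ y₀ : Ω) :
    Nat.card {i : G // IsConj j i ∧ i • x₀ = y₀} =
      Nat.card {i : G // IsConj j i ∧ i • x₀ = y₀ ∧ i • y₀ = x₀} := by
  refine Nat.card_congr (Equiv.subtypeEquivRight fun i => ⟨fun ⟨h1, h2⟩ => ⟨h1, h2, ?_⟩,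
    fun ⟨h1, h2, _⟩ => ⟨h1, h2⟩⟩)
  obtain ⟨l, hl⟩ := isConj_iff.1 h1
  have h3 : i⁻¹ = i := inv_eq_of_orderOf_two (by rw [← hl, ← MulAut.conj_apply, MulEquiv.orderOf_eq, hj])
  rw [← h2]
  nth_rw 1 [← h3]
  rw [inv_smul_smul]

theorem card_Cen_prime {r : ℕ} (hr : r.Prime) (hrp : r ≠ p)
    (hk : ∀ k, 0 < k → k < 2 * n → ¬ r ∣ p ^ k - 1) (hr1 : r ∣ p ^ n + 1) {x : G} (hx : x ∈ H)
    (hxr : orderOf x = r) : Nat.card (Cen U x) = p ^ n := by
  have hco : r.Coprime p := (Nat.coprime_primes hr C.prime).2 hrp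
  obtain ⟨c, hc3, hc⟩ := C.exists_exponent hx (fun h => by rw [h, orderOf_one] at hxr; exact hr.ne_one hxr.symm)
  have h := card_modEq_fixed hr hxr U (fun u hu => C.conj x hx u hu)
  rw [C.cardU, hc, ← pow_mul] at h
  rcases pow_eq_of_modEq C.prime.one_lt hk hco (c := c) (a := n * 3) (by omega) (by omega) h with e | e
  · omega
  have hn3 : p ^ (n * 3) ≡ p ^ n [MOD r] := by
    refine Nat.ModEq.symm ((Nat.modEq_iff_dvd' (Nat.pow_le_pow_right C.prime.pos (by omega))).2 ?_)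
    have h2 : p ^ (n * 3) - p ^ n = p ^ n * ((p ^ n + 1) * (p ^ n - 1)) := by
      rw [← Nat.sq_sub_sq, one_pow, Nat.mul_sub, mul_one]
      ring_nf
    rw [h2]
    exact dvd_mul_of_dvd_right (dvd_mul_of_dvd_left hr1 _) _
  rcases pow_eq_of_modEq C.prime.one_lt hk hco (c := c) (a := n) (by omega) (by omega)
    (hn3.symm.trans h) with e' | e'
  · rw [hc, e']
  · omega

theorem card_Cen_invol {j : G} (hjH : j ∈ H) (hj : orderOf j = 2) :
    Nat.card (Cen U j) = p ^ n := by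
  haveI := C.finite
  have hj1 : j ≠ 1 := fun h => by rw [h, orderOf_one] at hj; norm_num at hj
  obtain ⟨e, he3, he⟩ := C.exists_exponent hjH hj1
  have hineq : p ^ (3 * n) - p ^ e ≤ (p ^ (2 * n) - 1) * ((p ^ e + 1) * p ^ e) := by
    have h := C.invol_count hjH hj C.ab
    rw [he, C.swappers_eq hj, ← pow_mul, mul_comm n 3] at h
    rw [h, mul_comm (p ^ (2 * n) - 1)]
    exact Nat.mul_le_mul_left _ ((C.swappers_le C.ab).trans C.cardH_le)
  rcases exponent_cases C.three_le C.one_le he3 (C.exponent_dvd hjH he) hineq with rfl | ⟨l, hl, hn, hel⟩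
  · exact he
  exfalso
  obtain ⟨r, hr, hr5, hrp, hr1, hk⟩ := exists_prime C.prime C.odd (n := n) (by omega)
  haveI := Fact.mk hr
  have hrH : r ∣ Nat.card H := by
    obtain ⟨g, hg, -, hcard⟩ := C.cardH
    have h : r ∣ g * Nat.card H := by
      rw [hcard, show p ^ (2 * n) - 1 = (p ^ n + 1) * (p ^ n - 1) by
        rw [← Nat.sq_sub_sq, one_pow, ← pow_mul, mul_comm n 2]]
      exact dvd_mul_of_dvd_left hr1 _
    rcases hr.dvd_mul.1 h with h | h
    · rcases hg with e' | e' <;> rw [e'] at h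
      · exact absurd h hr.not_dvd_one
      · exact absurd (Nat.le_of_dvd (by norm_num) h) (by omega)
    · exact h
  obtain ⟨x, hxr⟩ := exists_prime_orderOf_dvd_card' (G := H) r hrH
  have hco : r.Coprime p := (Nat.coprime_primes hr C.prime).2 hrp
  -- centralisers of the involution lie in those of the elements of order `r`
  have hin : ∀ x ∈ H, orderOf x = r → Cen U j ≤ Cen U x := by
    intro x hx hxr
    have hinv : ∀ u ∈ Cen U j, x * u * x⁻¹ ∈ Cen U j := by
      intro u hu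
      obtain ⟨huU, huj⟩ := mem_Cen.1 hu
      refine mem_Cen.2 ⟨C.conj x hx u huU, ?_⟩
      have hxj : Commute x j := C.H_comm hx hjH
      have h1 : Commute j (x * u * x⁻¹) := (hxj.symm.mul_right huj).mul_right hxj.symm.inv_right
      exact h1
    have h := card_modEq_fixed hr hxr (Cen U j) hinv
    obtain ⟨f, hf, hcf⟩ := (Nat.dvd_prime_pow C.prime).1
      (show Nat.card (Cen (Cen U j) x) ∣ p ^ e by rw [← he]; exact Subgroup.card_dvd_of_le inf_le_left)
    rw [he, hcf] at h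
    rcases pow_eq_of_modEq C.prime.one_lt hk hco (c := f) (a := e) hf he3.le h with e' | e'
    · have heq : Cen (Cen U j) x = Cen U j :=
        Subgroup.eq_of_le_of_card_ge inf_le_left (le_of_eq (by rw [he, e', ← hcf]))
      intro u hu
      rw [← heq] at hu
      obtain ⟨hu1, hu2⟩ := mem_Cen.1 hu
      exact mem_Cen.2 ⟨(mem_Cen.1 hu1).1, hu2⟩
    · omega
  -- the fixed points of `x` are closed under lines
  have hx2 : orderOf (x : G) = r := by rw [Subgroup.orderOf_coe]; exact hxr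
  have hd := C.line_dvd hjH (fixedBy Ω (x : G)) (by
    intro c hc d hd hcd g hgc hgd hg
    obtain ⟨k, hkc, hkd⟩ := C.exists_move hcd
    have hx' : orderOf (k⁻¹ * (x : G) * k) = r := by
      rw [← hx2]
      simpa using MulEquiv.orderOf_eq (MulAut.conj k⁻¹) (x : G)
    have hxH := C.mem_H_conj hkc hkd hc hd
    have hgj : k * j * k⁻¹ = g := C.eq_of_invol hj (isConj_iff.2 ⟨k, rfl⟩) hg hcd
      (by rw [mul_smul, mul_smul, ← hkc, inv_smul_smul, ((C.H_iff j).1 hjH).1])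
      (by rw [mul_smul, mul_smul, ← hkd, inv_smul_smul, ((C.H_iff j).1 hjH).2]) hgc hgd
    intro z hz
    rw [mem_fixedBy, ← hgj, mul_smul, mul_smul] at hz
    have hw : j • (k⁻¹ • z) = k⁻¹ • z := eq_inv_smul_iff.2 hz
    have hgoal : (k⁻¹ * (x : G) * k) • (k⁻¹ • z) = k⁻¹ • z := by
      by_cases hwa : k⁻¹ • z = a
      · rw [hwa]; exact ((C.H_iff _).1 hxH).1
      · obtain ⟨u, hu, hub⟩ := C.exists_u hwa
        rw [← hub] at hw ⊢
        exact (C.fix_iff hxH hu).2
          (mem_Cen.1 (hin _ hxH hx' (mem_Cen.2 ⟨hu, (C.fix_iff hjH hu).1 hw⟩))).2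
    rw [mem_fixedBy]
    rw [mul_smul, mul_smul, smul_inv_smul] at hgoal
    exact smul_left_cancel _ hgoal)
  rw [C.card_fixedBy x.2, C.card_Cen_prime hr hrp hk hr1 x.2 hx2, he, Nat.add_sub_cancel] at hd
  refine not_dvd_of_five C.three_le hl ?_
  rw [← hel, ← hn]
  have hco2 : (p ^ e + 1).Coprime (p ^ n) := by
    refine Nat.Coprime.pow_right _ ((Nat.Prime.coprime_iff_not_dvd C.prime).2 fun hd' => ?_).symm
    exact C.prime.not_dvd_one ((Nat.dvd_add_right (dvd_pow_self p (by omega))).1 hd')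
  exact hco2.dvd_of_dvd_mul_right ((dvd_mul_right _ _).trans hd)

/-- Exactly `q - 1` conjugates of the involution exchange two points. -/
theorem card_swappers {j : G} (hjH : j ∈ H) (hj : orderOf j = 2) {x y : Ω} (hxy : x ≠ y) :
    Nat.card {i : G // IsConj j i ∧ i • x = y} = p ^ n - 1 := by
  have h := C.invol_count hjH hj hxy
  rw [C.card_Cen_invol hjH hj] at h
  have hq : 0 < (p ^ n + 1) * p ^ n := Nat.mul_pos (Nat.succ_pos _) C.q_pos
  refine Nat.eq_of_mul_eq_mul_left hq ?_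
  rw [← h, mul_assoc, Nat.mul_sub, Nat.mul_sub, mul_one]
  have e1 : (p ^ n + 1) * (p ^ n * p ^ n) = (p ^ n) ^ 3 + (p ^ n) ^ 2 := by ring
  have e2 : (p ^ n + 1) * p ^ n = (p ^ n) ^ 2 + p ^ n := by ring
  omega

end Cfg

end Cfsg.Agent.H36.OddU3
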