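import Cfsg.Agent.H36.OddU3.Sys

/-!
The laws in coordinates.
-/

set_option autoImplicit false
set_option linter.unusedSectionVars false
set_option linter.style.haveILetI false

namespace Cfsg.Agent.H36.OddU3

open MulAction

variable {G Ω : Type*} [Group G] [Finite G] [MulAction G Ω] [FaithfulSMul G Ω] {a b : Ω}
  {U H : Subgroup G} {p n : ℕ} {j t : G} {L : Type} [Field L] [Finite L] {F : Subfield L}
  {cls : G → L} {zc : F → G} {μ : G → L} {χ : G → F} {f g k : G → G}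

namespace Sys

variable {a b : Ω} (S : Sys a b U H p n j t F cls zc μ χ f g k)
include S

theorem zU (x : F) : zc x ∈ U := (mem_Cen.1 (S.X.zc_mem x)).1

theorem zc_zero : zc 0 = 1 := by
  have h := S.X.zc_add 0 0
  rwa [add_zero, left_eq_mul] at h

theorem zc_neg (x : F) : zc (-x) = (zc x)⁻¹ := by
  have h := S.X.zc_add x (-x)
  rw [add_neg_cancel, S.zc_zero] at h
  exact eq_inv_of_mul_eq_one_right h.symm

theorem zc_ne {x : F} (hx : x ≠ 0) : zc x ≠ 1 := fun e =>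
  hx (S.X.zc_inj (e.trans S.zc_zero.symm))

theorem zc_comm (x : F) {u : G} (hu : u ∈ U) : zc x * u = u * zc x := S.X.cen _ (S.X.zc_mem x) u hu

theorem cls_one : cls 1 = 0 := (S.X.cls_eq_zero 1 (one_mem U)).2 (one_mem _)

theorem cls_inv {u : G} (hu : u ∈ U) : cls u⁻¹ = -cls u := by
  have h := S.X.cls_mul u hu u⁻¹ (inv_mem hu)
  rw [mul_inv_cancel, S.cls_one] at h
  exact eq_neg_of_add_eq_zero_right h.symm

theorem cls_zc (x : F) : cls (zc x) = 0 := (S.X.cls_eq_zero _ (S.zU x)).2 (S.X.zc_mem x)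

theorem cls_mul_zc {u : G} (hu : u ∈ U) (x : F) : cls (u * zc x) = cls u := by
  rw [S.X.cls_mul u hu _ (S.zU x), S.cls_zc, add_zero]

theorem exists_zc {u v : G} (hu : u ∈ U) (hv : v ∈ U) (h : cls u = cls v) : ∃ x, v = u * zc x := by
  obtain ⟨x, hx⟩ := S.X.zc_surj (u⁻¹ * v) ((S.X.cls_eq_zero _ (mul_mem (inv_mem hu) hv)).1 (by
    rw [S.X.cls_mul _ (inv_mem hu) v hv, S.cls_inv hu, h, neg_add_cancel]))
  exact ⟨x, by rw [hx, mul_inv_cancel_left]⟩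

theorem exists_zc_of_cls {u : G} (hu : u ∈ U) (h : cls u = 0) : ∃ x, u = zc x :=
  let ⟨x, hx⟩ := S.X.zc_surj u ((S.X.cls_eq_zero u hu).1 h); ⟨x, hx.symm⟩

theorem μ_one : μ 1 = 1 := by
  have h := S.X.μ_mul 1 (one_mem H) 1 (one_mem H)
  rw [mul_one] at h
  exact mul_left_cancel₀ (S.X.μ_ne 1 (one_mem H)) (h.symm.trans (mul_one _).symm)

theorem μ_inv {h : G} (hh : h ∈ H) : μ h⁻¹ = (μ h)⁻¹ := by
  refine (inv_eq_of_mul_eq_one_right ?_).symm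
  rw [← S.X.μ_mul h hh _ (inv_mem hh), mul_inv_cancel, S.μ_one]

theorem μ_pow {h : G} (hh : h ∈ H) (i : ℕ) : μ (h ^ i) = μ h ^ i := by
  induction i with
  | zero => simp [S.μ_one]
  | succ i ih => rw [pow_succ, S.X.μ_mul _ (Subgroup.pow_mem _ hh i) _ hh, ih, pow_succ]

theorem χ_ne {h : G} (hh : h ∈ H) : χ h ≠ 0 := fun e => by
  have h1 := S.X.zc_conj h hh 1
  rw [e, zero_mul, S.zc_zero, conj_eq_one_iff] at h1
  exact S.zc_ne one_ne_zero h1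

theorem χ_one : χ 1 = 1 := by
  have h := S.X.χ_mul 1 (one_mem H) 1 (one_mem H)
  rw [mul_one] at h
  exact mul_left_cancel₀ (S.χ_ne (one_mem H)) (h.symm.trans (mul_one _).symm)

theorem χ_inv {h : G} (hh : h ∈ H) : χ h⁻¹ = (χ h)⁻¹ := by
  refine (inv_eq_of_mul_eq_one_right ?_).symm
  rw [← S.X.χ_mul h hh _ (inv_mem hh), mul_inv_cancel, S.χ_one]

theorem χ_pow {h : G} (hh : h ∈ H) (i : ℕ) : χ (h ^ i) = χ h ^ i := by
  induction i with
  | zero => simp [S.χ_one]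
  | succ i ih => rw [pow_succ, S.X.χ_mul _ (Subgroup.pow_mem _ hh i) _ hh, ih, pow_succ]

theorem F_pow_q (x : F) : x ^ p ^ n = x := Subtype.ext (by simpa using (S.X.memF x).1 x.2)

theorem μ_t {h : G} (hh : h ∈ H) : μ (t * h * t) = (μ h ^ p ^ n)⁻¹ := by
  rw [S.X.T.tconj h hh, S.μ_inv (Subgroup.pow_mem _ hh _), S.μ_pow hh]

theorem χ_t {h : G} (hh : h ∈ H) : χ (t * h * t) = (χ h)⁻¹ := by
  rw [S.X.T.tconj h hh, S.χ_inv (Subgroup.pow_mem _ hh _), S.χ_pow hh, S.F_pow_q]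

theorem χ_j : χ j = 1 := by
  have h := S.X.zc_conj j S.X.T.jH 1
  rw [(mem_Cen.1 (S.X.zc_mem 1)).2, mul_inv_cancel_right] at h
  simpa using (S.X.zc_inj h).symm

theorem μ_j : μ j = -1 := by
  have hj2 : j * j = 1 := by rw [← sq, ← S.X.T.j_ord, pow_orderOf_eq_one]
  have h := S.X.μ_mul j S.X.T.jH j S.X.T.jH
  rw [hj2, S.μ_one] at h
  rcases mul_self_eq_one_iff.1 h.symm with e | e
  · exfalso
    have h1 := S.X.T.j_ord
    rw [S.X.μ_inj j S.X.T.jH 1 (one_mem H) (e.trans S.μ_one.symm), orderOf_one] at h1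
    norm_num at h1
  · exact e

theorem tjt : t * j * t = j := by rw [S.X.T.tj, mul_assoc, S.tt, mul_one]

theorem fz_mem {x : F} (hx : x ≠ 0) : f (zc x) ∈ Cen U j ∧ g (zc x) ∈ Cen U j := by
  have h := S.conj_rule S.X.T.jH (S.zU x) (S.zc_ne hx)
  rw [(mem_Cen.1 (S.X.zc_mem x)).2, mul_inv_cancel_right, S.tjt] at h
  exact ⟨mem_Cen.2 ⟨S.f_mem _, (eq_mul_inv_iff_mul_eq.1 h.1).symm⟩,
    mem_Cen.2 ⟨S.g_mem _, (eq_mul_inv_iff_mul_eq.1 h.2.2).symm⟩⟩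

theorem ne_one_of_cls {u : G} (hc : cls u ≠ 0) : u ≠ 1 := fun e => hc (e ▸ S.cls_one)

theorem cls_f_ne {u : G} (hu : u ∈ U) (hc : cls u ≠ 0) : cls (f u) ≠ 0 := by
  intro e
  obtain ⟨x, hx⟩ := S.exists_zc_of_cls (S.f_mem u) e
  have hff := (S.ff_rule hu (S.ne_one_of_cls hc)).1
  have hx0 : x ≠ 0 := fun h => S.f_ne_one hu (S.ne_one_of_cls hc) (by rw [hx, h, S.zc_zero])
  refine hc ?_
  rw [← hff, hx]
  exact (S.X.cls_eq_zero _ (S.f_mem _)).2 (S.fz_mem hx0).1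

theorem cls_g_ne {u : G} (hu : u ∈ U) (hc : cls u ≠ 0) : cls (g u) ≠ 0 := by
  have h := S.cls_f_ne (inv_mem hu) (by rw [S.cls_inv hu]; exact neg_ne_zero.2 hc)
  rw [(S.inv_rule hu (S.ne_one_of_cls hc)).1, S.cls_inv (S.g_mem u)] at h
  exact neg_ne_zero.1 h

theorem exists_κ : ∃ κ : F, κ ≠ 0 ∧ ∀ x : F, x ≠ 0 →
    f (zc x) = zc (κ / x) ∧ g (zc x) = zc (κ / x) ∧ χ (k (zc x)) = -(κ / x ^ 2) := by
  obtain ⟨κ, hκ⟩ := S.X.zc_surj _ (S.fz_mem one_ne_zero).1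
  have hκ0 : κ ≠ 0 := fun e =>
    S.f_ne_one (S.zU 1) (S.zc_ne one_ne_zero) (by rw [← hκ, e, S.zc_zero])
  set c := χ (k (zc 1)) with hc
  have hconj : ∀ x : F, x ≠ 0 → f (zc x) = zc (κ / x) ∧ χ (k (zc x)) = c / x ^ 2 := by
    intro x hx
    obtain ⟨h, hh, hhx⟩ := S.X.χ_surj x hx
    have hz := S.X.zc_conj h hh 1
    rw [hhx, mul_one] at hz
    have r := S.conj_rule hh (S.zU 1) (S.zc_ne one_ne_zero)
    rw [hz, ← hκ, S.X.zc_conj _ (S.tHt hh) κ, S.χ_t hh, hhx] at r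
    refine ⟨r.1.trans (congrArg zc (by rw [div_eq_mul_inv, mul_comm])), ?_⟩
    rw [r.2.1, S.X.χ_mul _ (mul_mem (S.tHt hh) (S.k_mem _)) _ (inv_mem hh),
      S.X.χ_mul _ (S.tHt hh) _ (S.k_mem _), S.χ_t hh, S.χ_inv hh, hhx, ← hc]
    field_simp
  have hg : ∀ x : F, x ≠ 0 → g (zc x) = zc (κ / x) := by
    intro x hx
    have h := (S.inv_rule (S.zU x) (S.zc_ne hx)).1
    rw [← S.zc_neg, (hconj (-x) (neg_ne_zero.2 hx)).1, ← inv_inj, inv_inv, ← S.zc_neg, div_neg,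
      neg_neg] at h
    exact h.symm
  have h2 : (2 : F) ≠ 0 := fun e => S.X.two_ne (by
    have := congrArg F.subtype e; rwa [map_ofNat, map_zero] at this)
  have hck : c = -κ := by
    have h11 : (1 : F) + 1 ≠ 0 := by rw [one_add_one_eq_two]; exact h2
    have hne : zc 1 * zc 1 ≠ 1 := by rw [← S.X.zc_add]; exact S.zc_ne h11
    have h := (S.mul_rule (S.zU 1) (S.zc_ne one_ne_zero) (S.zU 1) (S.zc_ne one_ne_zero) hne).1
    rw [← S.X.zc_add, (hconj _ h11).1, (hconj 1 one_ne_zero).1, hg 1 one_ne_zero, div_one,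
      ← S.X.zc_add, (hconj _ (by rw [← two_mul]; exact mul_ne_zero h2 hκ0)).1,
      S.X.zc_conj _ (S.k_mem _), ← S.X.zc_add, ← hc] at h
    have h' := S.X.zc_inj h
    field_simp at h'
    linear_combination (-1 : F) * h'
  refine ⟨κ, hκ0, fun x hx => ⟨(hconj x hx).1, hg x hx, ?_⟩⟩
  rw [(hconj x hx).2, hck, neg_div]

theorem mem_line {h : G} (hh : h ∈ H) :
    (∀ z ∈ Cen U j, h * z = z * h) ↔ χ h = 1 := by
  constructor
  · intro e
    have h1 := S.X.zc_conj h hh 1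
    rw [e _ (S.X.zc_mem 1), mul_inv_cancel_right] at h1
    simpa using (S.X.zc_inj h1).symm
  · intro e z hz
    obtain ⟨x, rfl⟩ := S.X.zc_surj z hz
    have h1 := S.X.zc_conj h hh x
    rw [e, one_mul] at h1
    exact mul_inv_eq_iff_eq_mul.1 h1

theorem norm_eq_one_iff {h : G} (hh : h ∈ H) : μ h ^ (p ^ n + 1) = 1 ↔ χ h = 1 := by
  obtain ⟨g', d, hg', -, hde, hdg, hm⟩ := S.C.cardH_fact
  haveI := Fact.mk S.C.prime
  rw [← S.mem_line hh]
  constructor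
  · intro e
    have e1 : h ^ (p ^ n + 1) = 1 := S.X.μ_inj _ (Subgroup.pow_mem _ hh _) 1 (one_mem H)
      (by rw [S.μ_pow hh, e, S.μ_one])
    have e2 : h ^ ((p ^ n - 1) * d) = 1 := by
      rw [← hm]
      exact congrArg Subtype.val (pow_card_eq_one' (x := (⟨h, hh⟩ : H)))
    have hgcd : Nat.gcd (p ^ n + 1) ((p ^ n - 1) * d) = d := by
      rw [← hdg, Nat.gcd_mul_right]
      have hcop : Nat.gcd g' (p ^ n - 1) = 1 := by
        rcases hg' with e' | e'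
        · rw [e', Nat.gcd_one_left]
        · rw [e']
          refine Nat.prime_three.coprime_iff_not_dvd.2 fun h3 => ?_
          have h4 : 3 ∣ p ^ n + 1 := ⟨d, by rw [← e', hdg]⟩
          omega
      rw [hcop, one_mul]
    have hd : h ^ d = 1 := hgcd ▸ pow_gcd_eq_one.2 ⟨e1, e2⟩
    exact (mem_Kz.1 (S.C.mem_Kz_of_pow S.X.T hm hh hd)).2
  · intro e
    have hd : h ^ d = 1 := by
      have := congrArg Subtype.val (pow_card_eq_one' (x := (⟨h, mem_Kz.2 ⟨hh, e⟩⟩ : Kz U H j)))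
      rwa [S.C.card_Kz S.X.T hm] at this
    rw [← S.μ_pow hh, ← hdg, mul_comm, pow_mul, hd, one_pow, S.μ_one]

theorem norm_mem (l : L) : l ^ (p ^ n + 1) ∈ F := by
  rw [S.X.memF, ← pow_mul, add_mul, one_mul, pow_add, pow_mul, S.X.qq, ← pow_succ']

theorem exists_ρ : ∃ ρ : F → F, Function.Bijective ρ ∧ (∀ x y, ρ (x * y) = ρ x * ρ y) ∧
    ∀ h ∈ H, (ρ (χ h) : L) = μ h ^ (p ^ n + 1) := by
  classical
  choose hf hf1 hf2 using S.X.χ_surj
  let ρ : F → F := fun x => if hx : x = 0 then 0 else ⟨μ (hf x hx) ^ (p ^ n + 1), S.norm_mem _⟩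
  have hval : ∀ h ∈ H, (ρ (χ h) : L) = μ h ^ (p ^ n + 1) := by
    intro h hh
    simp only [ρ, dif_neg (S.χ_ne hh)]
    have hne := S.χ_ne hh
    obtain ⟨h', hh', e'⟩ : ∃ h', h' ∈ H ∧ h' = hf (χ h) hne := ⟨_, hf1 _ hne, rfl⟩
    have hc : χ h' = χ h := e' ▸ hf2 _ hne
    rw [← e']
    have := (S.norm_eq_one_iff (mul_mem (inv_mem hh) hh')).2 (by
      rw [S.X.χ_mul _ (inv_mem hh) _ hh', S.χ_inv hh, hc, inv_mul_cancel₀ hne])
    rw [S.X.μ_mul _ (inv_mem hh) _ hh', S.μ_inv hh, mul_pow, inv_pow,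
      inv_mul_eq_one₀ (pow_ne_zero _ (S.X.μ_ne h hh))] at this
    exact this.symm
  have hzero : ρ 0 = 0 := dif_pos rfl
  refine ⟨ρ, Finite.injective_iff_bijective.1 fun x y e => ?_, fun x y => ?_, hval⟩
  · by_cases hx : x = 0
    · by_cases hy : y = 0
      · rw [hx, hy]
      · exfalso
        obtain ⟨h', hh', rfl⟩ := S.X.χ_surj y hy
        have := hval h' hh'
        rw [← e, hx, hzero] at this
        exact pow_ne_zero _ (S.X.μ_ne h' hh') this.symm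
    · by_cases hy : y = 0
      · exfalso
        obtain ⟨h', hh', rfl⟩ := S.X.χ_surj x hx
        have := hval h' hh'
        rw [e, hy, hzero] at this
        exact pow_ne_zero _ (S.X.μ_ne h' hh') this.symm
      · obtain ⟨h1, hh1, rfl⟩ := S.X.χ_surj x hx
        obtain ⟨h2, hh2, rfl⟩ := S.X.χ_surj y hy
        have e1 := hval h1 hh1
        rw [e, hval h2 hh2] at e1
        have := (S.norm_eq_one_iff (mul_mem (inv_mem hh2) hh1)).1 (by
          rw [S.X.μ_mul _ (inv_mem hh2) _ hh1, S.μ_inv hh2, mul_pow, inv_pow, e1,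
            inv_mul_cancel₀ (pow_ne_zero _ (S.X.μ_ne h1 hh1))])
        rw [S.X.χ_mul _ (inv_mem hh2) _ hh1, S.χ_inv hh2, inv_mul_eq_one₀ (S.χ_ne hh2)] at this
        exact this.symm
  · by_cases hx : x = 0
    · rw [hx, zero_mul, hzero, zero_mul]
    by_cases hy : y = 0
    · rw [hy, mul_zero, hzero, mul_zero]
    obtain ⟨h1, hh1, rfl⟩ := S.X.χ_surj x hx
    obtain ⟨h2, hh2, rfl⟩ := S.X.χ_surj y hy
    refine Subtype.ext ?_
    rw [← S.X.χ_mul _ hh1 _ hh2, Subfield.coe_mul, hval _ (mul_mem hh1 hh2), hval _ hh1, hval _ hh2,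
      S.X.μ_mul _ hh1 _ hh2, mul_pow]

theorem exists_M {κ : F} {ρ : F → F} (hκ : κ ≠ 0) (hz : ∀ x : F, x ≠ 0 → f (zc x) = zc (κ / x))
    (hρ : Function.Bijective ρ) (hmul : ∀ x y, ρ (x * y) = ρ x * ρ y)
    (hval : ∀ h ∈ H, (ρ (χ h) : L) = μ h ^ (p ^ n + 1)) :
    ∃ M1 : L, M1 ≠ 0 ∧ M1 ^ p ^ n = -M1 ∧ M1 ^ 2 * (ρ κ : L) = 1 ∧
      ∀ x : F, x ≠ 0 → (μ (k (zc x)))⁻¹ = M1 * (ρ x : L) := by
  have h1 := S.zc_ne (one_ne_zero (α := F))
  obtain ⟨M1, hM1⟩ : ∃ M1, M1 = (μ (k (zc 1)))⁻¹ := ⟨_, rfl⟩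
  have hM0 : M1 ≠ 0 := hM1 ▸ inv_ne_zero (S.X.μ_ne _ (S.k_mem _))
  have hform : ∀ x : F, x ≠ 0 → (μ (k (zc x)))⁻¹ = M1 * (ρ x : L) := by
    intro x hx
    obtain ⟨h, hh, rfl⟩ := S.X.χ_surj x hx
    have r := (S.conj_rule hh (S.zU 1) h1).2.1
    rw [S.X.zc_conj h hh 1, mul_one] at r
    rw [r, hval h hh, S.X.μ_mul _ (mul_mem (S.tHt hh) (S.k_mem _)) _ (inv_mem hh),
      S.X.μ_mul _ (S.tHt hh) _ (S.k_mem _), S.μ_t hh, S.μ_inv hh, hM1, pow_succ]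
    simp only [mul_inv_rev, inv_inv]
    ring
  refine ⟨M1, hM0, ?_, ?_, hform⟩
  · have hρn1 : ρ (-1) = -1 := by
      have hρ1 : ρ 1 = 1 := by
        have h := hval 1 (one_mem H)
        rw [S.χ_one, S.μ_one, one_pow] at h
        exact Subtype.ext h
      have h : ρ (-1) * ρ (-1) = 1 := by rw [← hmul, neg_one_mul, neg_neg, hρ1]
      rcases mul_self_eq_one_iff.1 h with e | e
      · exfalso
        have h2 : (2 : F) = 0 := by
          have := hρ.1 (e.trans hρ1.symm)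
          linear_combination (-1 : F) * this
        exact S.X.two_ne (by have := congrArg F.subtype h2; rwa [map_ofNat, map_zero] at this)
      · exact e
    have r := (S.inv_rule (S.zU 1) h1).2.1
    rw [← S.zc_neg] at r
    have h2 := hform (-1) (neg_ne_zero.2 one_ne_zero)
    rw [r, S.μ_t (inv_mem (S.k_mem _)), S.μ_inv (S.k_mem _), ← hM1, inv_inv, hρn1] at h2
    rw [h2]
    simp
  · have r := (S.ff_rule (S.zU 1) h1).2.1
    rw [hz 1 one_ne_zero, div_one] at r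
    have h2 := hform κ hκ
    rw [r, S.μ_inv (S.k_mem _), ← hM1] at h2
    rw [sq, mul_assoc, ← h2, mul_inv_cancel₀ hM0]

/-- (II). -/
theorem cls_f_mul_zc {κ : F} (hκ : ∀ x : F, x ≠ 0 → f (zc x) = zc (κ / x)) {u : G} (hu : u ∈ U)
    (hc : cls u ≠ 0) {x : F} (hx : x ≠ 0) :
    cls (f (u * zc x)) = cls (f u) + μ (k u) * cls (f (g u * zc (κ / x))) := by
  have hne : u * zc x ≠ 1 := S.ne_one_of_cls (by rwa [S.cls_mul_zc hu])
  rw [(S.mul_rule hu (S.ne_one_of_cls hc) (S.zU x) (S.zc_ne hx) hne).1, hκ x hx,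
    S.X.cls_mul _ (S.f_mem u) _ (S.C.conj _ (S.k_mem u) _ (S.f_mem _)),
    S.X.cls_conj _ (S.k_mem u) _ (S.f_mem _)]

/-- (I). -/
theorem cls_f_f_mul_zc {κ : F} (hκ : ∀ x : F, x ≠ 0 → f (zc x) = zc (κ / x))
    (hg : ∀ x : F, x ≠ 0 → g (zc x) = zc (κ / x)) {u : G} (hu : u ∈ U) (hc : cls u ≠ 0) {e : F}
    (he : e ≠ 0) :
    cls (f (f u * zc (κ / e))) = (μ (k (zc e)))⁻¹ * cls (f (u * zc e)) := by
  have hne : zc e * u ≠ 1 := S.ne_one_of_cls (by rwa [S.zc_comm e hu, S.cls_mul_zc hu])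
  have h := (S.mul_rule (S.zU e) (S.zc_ne he) hu (S.ne_one_of_cls hc) hne).1
  rw [S.zc_comm e hu, hg e he, S.zc_comm _ (S.f_mem u)] at h
  rw [h, hκ e he, S.X.cls_mul _ (S.zU _) _ (S.C.conj _ (S.k_mem _) _ (S.f_mem _)),
    S.cls_zc, zero_add, S.X.cls_conj _ (S.k_mem _) _ (S.f_mem _), inv_mul_cancel_left₀
    (S.X.μ_ne _ (S.k_mem _))]

/-- (A). -/
theorem row_eqn {κ : F} {M : F → L} (hκ0 : κ ≠ 0) (hκ : ∀ x : F, x ≠ 0 → f (zc x) = zc (κ / x))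
    (hg : ∀ x : F, x ≠ 0 → g (zc x) = zc (κ / x)) (hM : ∀ x : F, x ≠ 0 → (μ (k (zc x)))⁻¹ = M x)
    {u : G} (hu : u ∈ U) (hc : cls u ≠ 0) {s : F} (hs : u⁻¹ = j * u * j⁻¹ * zc s) (d : F) {e : F}
    (he : e ≠ 0) : ∃ c, c ≠ 0 ∧
      M e * cls (f (u * zc (d + e))) + M c * cls (f (u * zc (s - d + c))) = cls u := by
  obtain ⟨v, hv⟩ : ∃ v, v = u * zc d := ⟨_, rfl⟩
  have hvU : v ∈ U := hv ▸ mul_mem hu (S.zU d)
  have hvc : cls v ≠ 0 := by rwa [hv, S.cls_mul_zc hu]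
  have hv1 := S.ne_one_of_cls hvc
  have hfv := S.cls_f_ne hvU hvc
  have hkH := S.k_mem v
  have hτ := S.tHt hkH
  have hyc : cls v⁻¹ ≠ 0 := by rw [S.cls_inv hvU]; exact neg_ne_zero.2 hvc
  obtain ⟨r1, r2, r3⟩ := S.ff_rule hvU hv1
  obtain ⟨i1, -, -⟩ := S.inv_rule hvU hv1
  -- the first row
  have A := S.cls_f_f_mul_zc hκ hg hvU hvc he
  rw [S.cls_f_mul_zc hκ (S.f_mem v) hfv (div_ne_zero hκ0 he), r1, r2, r3,
    div_div_cancel₀ hκ0, ← i1, S.μ_inv hkH] at A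
  obtain ⟨e', he'⟩ : ∃ e', e' = (χ (t * k v * t))⁻¹ * e := ⟨_, rfl⟩
  have he'0 : e' ≠ 0 := he' ▸ mul_ne_zero (inv_ne_zero (S.χ_ne hτ)) he
  have hz : zc e = (t * k v * t) * zc e' * (t * k v * t)⁻¹ := by
    rw [S.X.zc_conj _ hτ, he', mul_inv_cancel_left₀ (S.χ_ne hτ)]
  have hne : f v⁻¹ * zc e' ≠ 1 :=
    S.ne_one_of_cls (by rw [S.cls_mul_zc (S.f_mem _)]; exact S.cls_f_ne (inv_mem hvU) hyc)
  have hin : f (t * k v * t * f v⁻¹ * (t * k v * t)⁻¹ * zc e) =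
      k v * f (f v⁻¹ * zc e') * (k v)⁻¹ := by
    rw [hz, show t * k v * t * f v⁻¹ * (t * k v * t)⁻¹ *
      (t * k v * t * zc e' * (t * k v * t)⁻¹) = t * k v * t * (f v⁻¹ * zc e') * (t * k v * t)⁻¹ by
        group, (S.conj_rule hτ (mul_mem (S.f_mem _) (S.zU _)) hne).1]
    have : t * (t * k v * t) * t = k v := by
      simp only [mul_assoc]; rw [S.tt, mul_one, ← mul_assoc, S.tt, one_mul]
    rw [this]
  rw [hin, S.X.cls_conj _ hkH _ (S.f_mem _), inv_mul_cancel_left₀ (S.X.μ_ne _ hkH)] at A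
  -- the second row
  obtain ⟨c, hc'⟩ : ∃ c, c = κ / e' := ⟨_, rfl⟩
  have hc0 : c ≠ 0 := hc' ▸ div_ne_zero hκ0 he'0
  have B := S.cls_f_f_mul_zc hκ hg (inv_mem hvU) hyc hc0
  rw [show κ / c = e' by rw [hc', div_div_cancel₀ hκ0]] at B
  have hy : v⁻¹ * zc c = j * (u * zc (s - d + c)) * j⁻¹ := by
    have hjz : j * zc (s - d + c) * j⁻¹ = zc (s - d + c) := by
      rw [(mem_Cen.1 (S.X.zc_mem _)).2, mul_inv_cancel_right]
    calc v⁻¹ * zc c = zc (-d) * u⁻¹ * zc c := by rw [hv, mul_inv_rev, S.zc_neg]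
      _ = u⁻¹ * (zc (-d) * zc c) := by rw [S.zc_comm _ (inv_mem hu), mul_assoc]
      _ = j * u * j⁻¹ * zc (s - d + c) := by
          rw [hs, mul_assoc, ← S.X.zc_add, ← S.X.zc_add]; congr 2; ring
      _ = _ := by nth_rw 1 [← hjz]; group
  have hne2 : u * zc (s - d + c) ≠ 1 := S.ne_one_of_cls (by rwa [S.cls_mul_zc hu])
  rw [hy, (S.conj_rule S.X.T.jH (mul_mem hu (S.zU _)) hne2).1, S.tjt,
    S.X.cls_conj _ S.X.T.jH _ (S.f_mem _), S.μ_j] at B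
  refine ⟨c, hc0, ?_⟩
  rw [← hM e he, ← hM c hc0]
  rw [B, show f (v * zc e) = f (u * zc (d + e)) by rw [hv, mul_assoc, ← S.X.zc_add],
    show cls v = cls u by rw [hv, S.cls_mul_zc hu]] at A
  linear_combination (-1 : L) * A

end Sys

end Cfsg.Agent.H36.OddU3
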