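import Cfsg.Agent.H36.OddU3.Product
import Cfsg.Agent.H99.RankOne.UnitaryModel

/-!
The recognition of `PSU₃(q)`, `q` odd.
-/

set_option autoImplicit false
set_option linter.unusedSectionVars false
set_option linter.style.haveILetI false

namespace Cfsg.Agent.H36.OddU3

open MulAction

variable {G Ω : Type*} [Group G] [Finite G] [MulAction G Ω] [FaithfulSMul G Ω] {a b : Ω}
  {U H : Subgroup G} {p n : ℕ}

/-- The subgroup generated by `U` and `t` is everything. -/
theorem closure_eq_top (hs : IsSimpleGroup G) {j t : G} {L : Type} [Field L] [Finite L] {F : Subfield L}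
    {cls : G → L} {zc : F → G} {μ : G → L} {χ : G → F} {f g k : G → G}
    (S : Sys a b U H p n j t F cls zc μ χ f g k) :
    Subgroup.closure ((U : Set G) ∪ {t}) = ⊤ := by
  set W := Subgroup.closure ((U : Set G) ∪ {t}) with hW
  have hUW : ∀ u ∈ U, u ∈ W := fun u hu => Subgroup.subset_closure (Or.inl hu)
  have htW : t ∈ W := Subgroup.subset_closure (Or.inr rfl)
  have hkW : ∀ u ∈ U, u ≠ 1 → k u ∈ W := by
    intro u hu hu1
    have h : k u = (f u)⁻¹ * (t * u * t) * (g u)⁻¹ * t := by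
      rw [S.eqn u hu hu1, mul_assoc (_ * k u) t, ← mul_assoc _ (f u * k u), ← mul_assoc (f u)⁻¹,
        inv_mul_cancel, one_mul]
      simp [mul_assoc, S.tt]
    rw [h]
    exact mul_mem (mul_mem (mul_mem (inv_mem (hUW _ (S.f_mem u)))
      (mul_mem (mul_mem htW (hUW u hu)) htW)) (inv_mem (hUW _ (S.g_mem u)))) htW
  have hz : zc (1 : F) ≠ 1 := S.zc_ne one_ne_zero
  have hsh : ∀ h ∈ H, t * h * t * h⁻¹ ∈ W := by
    intro h hh
    have hu : h * zc 1 * h⁻¹ ∈ U := S.C.conj h hh _ (S.zU 1)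
    have h1 := hkW _ hu (fun e => hz (conj_eq_one_iff.1 e))
    rw [(S.conj_rule hh (S.zU 1) hz).2.1] at h1
    have h2 := mul_mem h1 (inv_mem (hkW _ (S.zU 1) hz))
    have hc : k (zc 1) * h⁻¹ * (k (zc 1))⁻¹ = h⁻¹ := by
      rw [S.C.H_comm (S.k_mem _) (inv_mem hh), mul_inv_cancel_right]
    rwa [mul_assoc (t * h * t), mul_assoc (t * h * t), hc] at h2
  -- every element is `u h` or `u h t u'`
  have hdec : ∀ x : G, ∃ w ∈ W, w⁻¹ * x ∈ H := by
    intro x
    obtain ⟨y, hyW, hya⟩ : ∃ y ∈ W, y • a = x • a := by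
      by_cases hx : x • a = a
      · exact ⟨1, one_mem _, by rw [one_smul, hx]⟩
      · obtain ⟨u, hu, hub⟩ := S.C.exists_u hx
        exact ⟨u * t, mul_mem (hUW u hu) htW, by rw [mul_smul, S.X.T.ta, hub]⟩
    have hfix : (y⁻¹ * x) • a = a := by rw [mul_smul, ← hya, inv_smul_smul]
    obtain ⟨u, hu, hub⟩ := S.C.exists_u (show (y⁻¹ * x) • b ≠ a from fun e =>
      S.C.ab (smul_left_cancel _ (hfix.trans e.symm)))
    refine ⟨y * u, mul_mem hyW (hUW u hu), (S.C.H_iff _).2 ⟨?_, ?_⟩⟩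
    · rw [mul_inv_rev, mul_assoc, mul_smul, hfix]
      exact inv_smul_eq_iff.2 (S.C.U_fix u hu).symm
    · rw [mul_inv_rev, mul_assoc, mul_smul, ← hub, inv_smul_smul]
  have hnorm : W.Normal := by
    refine ⟨fun z hz' x => ?_⟩
    obtain ⟨w, hwW, hh⟩ := hdec x
    set h := w⁻¹ * x with hdef
    have hconj : W ≤ W.comap (MulAut.conj h).toMonoidHom := by
      rw [hW, Subgroup.closure_le]
      rintro s (hs' | hst)
      · exact hUW _ (S.C.conj h hh s hs')
      · rw [Set.mem_singleton_iff] at hst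
        subst s
        show h * t * h⁻¹ ∈ W
        have e : h * t * h⁻¹ = t * (t * h * t * h⁻¹) := by
          rw [← mul_assoc, ← mul_assoc, ← mul_assoc, S.tt, one_mul]
        rw [e]
        exact mul_mem htW (hsh h hh)
    have e : x * z * x⁻¹ = w * (h * z * h⁻¹) * w⁻¹ := by rw [hdef]; group
    rw [e]
    exact mul_mem (mul_mem hwW (hconj hz')) (inv_mem hwW)
  rcases hs.eq_bot_or_eq_top_of_normal W hnorm with h | h
  · exact absurd ((Subgroup.eq_bot_iff_forall _).1 h _ (hUW _ (S.zU 1))) hz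
  · exact h

theorem Cfg.iso_psu (C : Cfg G Ω a b U H p n) (hs : IsSimpleGroup G) :
    ∃ (F : Type) (_ : Field F) (_ : Fintype F), Fintype.card F = (p ^ n) ^ 2 ∧
      Nonempty (G ≃* Cfsg.PSU 3 F (p ^ n)) := by
  classical
  obtain ⟨j, t, T⟩ := C.exists_torusData hs
  obtain ⟨L, _, _, F, cls, zc, μ, χ, X⟩ := C.exists_coord T
  obtain ⟨f, g, k, S0⟩ := exists_sys C X
  obtain ⟨zc', χ', κ, M1, N⟩ := S0.exists_nsys
  obtain ⟨β, hβz, hβf⟩ := N.exists_beta
  have B : BSys a b U H p n j t F cls zc' μ χ' f g k κ M1 β := ⟨N, hβz, hβf⟩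
  have S := N.S
  obtain ⟨lam, hl0, hok, hmul⟩ := B.exists_mul
  have hcard : Fintype.card L = (p ^ n) ^ 2 := by rw [← Nat.card_eq_fintype_card, X.cardL]
  refine ⟨L, inferInstance, inferInstance, hcard, ?_⟩
  have hpt : Cfsg.Agent.H99.RankOne.IsPointed G Ω a t U :=
    { mul_self := S.tt
      move := by rw [S.X.T.ta]; exact C.ab.symm
      fix := C.U_fix
      regular := fun c hc => by rw [S.X.T.ta]; exact C.regular c hc }
  let co : U → {p' : L × L // Cfsg.Agent.H52.SUThree.Ok (p ^ n) p'.1 p'.2} :=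
    fun u => ⟨(lam * cls u, β u), hok u u.2⟩
  have hco : Function.Bijective co := by
    constructor
    · intro u v e
      have e' := congrArg Subtype.val e
      simp only [co, Prod.mk.injEq] at e'
      obtain ⟨x, hx⟩ := S.exists_zc u.2 v.2 (mul_left_cancel₀ hl0 e'.1)
      have h := e'.2
      rw [hx, B.β_mul_zc u.2, left_eq_add, B.β_zc, neg_eq_zero] at h
      have hx0 : x = 0 := by simpa [N.M_ne] using h
      exact Subtype.ext (by rw [hx, hx0, S.zc_zero, mul_one])
    · rintro ⟨⟨c, γ⟩, hcγ⟩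
      obtain ⟨u, hu, hcu⟩ := S.X.cls_surj (c / lam)
      have hc : lam * cls u = c := by rw [hcu, mul_div_cancel₀ _ hl0]
      have hM := N.M_ne
      have hmem : (β u - γ) / M1 ∈ F := by
        have h1 := hok u hu
        have h2 : γ + γ ^ p ^ n + c * c ^ p ^ n = 0 := hcγ
        rw [hc] at h1
        rw [S.X.memF, div_pow, N.sub_q, N.M_q, div_eq_div_iff (neg_ne_zero.2 hM) hM]
        linear_combination M1 * (h1 - h2)
      refine ⟨⟨u * zc' ⟨_, hmem⟩, mul_mem hu (S.zU _)⟩, Subtype.ext (Prod.ext ?_ ?_)⟩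
      · show lam * cls (u * zc' _) = c
        rw [S.cls_mul_zc hu, hc]
      · show β (u * zc' _) = γ
        rw [B.β_mul_zc hu, B.β_zc]
        show β u + -(M1 * ((β u - γ) / M1)) = γ
        rw [mul_div_cancel₀ _ hM]
        ring
  obtain ⟨i⟩ := Cfsg.Agent.H99.RankOne.iso_psu hpt hcard S.C.q_three (Equiv.ofBijective co hco)
    (fun x y => Prod.ext (by
      show lam * cls ((x : G) * y) = lam * cls x + lam * cls y
      rw [S.X.cls_mul _ x.2 _ y.2, mul_add]) (hmul _ x.2 _ y.2))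
    (fun x y e => by
      rw [S.X.T.ta] at e
      have hx1 : (x : G) ≠ 1 := fun h => by
        rw [h, one_smul, S.X.T.tb] at e
        exact C.ab (smul_left_cancel (y : G) ((C.U_fix y y.2).trans e))
      have hy : (y : G) = f x := C.eq_of_smul y.2 (S.f_mem _) (by
        have h : (t * (x : G) * t) • a = f x • b := by
          rw [S.eqn x x.2 hx1, mul_smul, C.U_fix _ (S.g_mem _), mul_smul, S.X.T.ta, mul_smul,
            ((C.H_iff _).1 (S.k_mem _)).2]
        rw [mul_smul, mul_smul, S.X.T.ta, e] at h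
        exact h)
      obtain ⟨e1, e2⟩ := B.f_mul_β x.2 hx1
      have hb := B.β_ne_one x.2 hx1
      refine Prod.ext ?_ ?_
      · show lam * cls y = -(lam * cls x / β x)
        rw [hy, ← neg_div, eq_div_iff hb, mul_assoc, e1, mul_neg]
      · show β y = (β x)⁻¹
        rw [hy]
        exact eq_inv_of_mul_eq_one_left e2)
  exact ⟨((MulEquiv.subgroupCongr (closure_eq_top hs S)).trans Subgroup.topEquiv).symm.trans i⟩

end Cfsg.Agent.H36.OddU3
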