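import Cfsg.Agent.H36.OddU3.Shape

/-!
The second coordinate and the product.
-/

set_option autoImplicit false
set_option linter.unusedSectionVars false
set_option linter.style.haveILetI false

namespace Cfsg.Agent.H36.OddU3

open MulAction

variable {G Ω : Type*} [Group G] [Finite G] [MulAction G Ω] [FaithfulSMul G Ω] {a b : Ω}
  {U H : Subgroup G} {p n : ℕ} {j t : G} {L : Type} [Field L] [Finite L] {F : Subfield L}
  {cls : G → L} {zc : F → G} {μ : G → L} {χ : G → F} {f g k : G → G}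

namespace NSys

variable {a b : Ω} {κ : F} {M1 : L} (N : NSys a b U H p n j t F cls zc μ χ f g k κ M1)
include N

theorem q_ne : p ^ n ≠ 0 := N.S.C.q_pos.ne'

theorem sub_q (x y : L) : (x - y) ^ p ^ n = x ^ p ^ n - y ^ p ^ n := by
  have h := N.S.X.add_q (x - y) y
  rw [sub_add_cancel] at h
  linear_combination (-1 : L) * h

theorem neg_q (x : L) : (-x) ^ p ^ n = -x ^ p ^ n :=
  ((N.S.C.prime.odd_of_ne_two N.S.C.odd).pow).neg_pow x

theorem coe_q (x : F) : (x : L) ^ p ^ n = x := (N.S.X.memF _).1 x.2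

theorem exists_beta : ∃ β : G → L, (∀ y : F, β (zc y) = -(M1 * (y : L))) ∧
    ∀ u ∈ U, cls u ≠ 0 → cls (f u) * β u = -cls u := by
  classical
  refine ⟨fun u => if h : u ∈ Cen U j then -(M1 * ((N.S.X.zc_surj u h).choose : L))
    else -cls u / cls (f u), fun y => ?_, fun u hu hc => ?_⟩
  · simp only [dif_pos (N.S.X.zc_mem y)]
    rw [N.S.X.zc_inj (N.S.X.zc_surj _ (N.S.X.zc_mem y)).choose_spec]
  · simp only [dif_neg (fun h => hc ((N.S.X.cls_eq_zero u hu).2 h))]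
    rw [mul_div_cancel₀ _ (N.S.cls_f_ne hu hc)]

end NSys

/-- The system with its second coordinate. -/
structure BSys (a b : Ω) (U H : Subgroup G) (p n : ℕ) (j t : G) (F : Subfield L)
    (cls : G → L) (zc : F → G) (μ : G → L) (χ : G → F) (f g k : G → G) (κ : F) (M1 : L)
    (β : G → L) : Prop where
  N : NSys a b U H p n j t F cls zc μ χ f g k κ M1
  β_zc : ∀ y : F, β (zc y) = -(M1 * (y : L))
  β_f : ∀ u ∈ U, cls u ≠ 0 → cls (f u) * β u = -cls u

namespace BSys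

variable {a b : Ω} {κ : F} {M1 : L} {β : G → L}
  (B : BSys a b U H p n j t F cls zc μ χ f g k κ M1 β)
include B

theorem β_ne {u : G} (hu : u ∈ U) (hc : cls u ≠ 0) : β u ≠ 0 := fun e => hc (by
  have h := B.β_f u hu hc
  rw [e, mul_zero] at h
  exact neg_eq_zero.1 h.symm)

theorem line {u : G} (hu : u ∈ U) (hc : cls u ≠ 0) :
    (∀ y : F, β (u * zc y) = β u - M1 * (y : L)) ∧ β u⁻¹ = β u ^ p ^ n ∧
      β u + β u ^ p ^ n ≠ 0 := by
  have S := B.N.S
  obtain ⟨s, hs⟩ := S.exists_shift hu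
  obtain ⟨u0, hu0⟩ : ∃ u0, u0 = u * zc (s / 2) := ⟨_, rfl⟩
  have hu0U : u0 ∈ U := hu0 ▸ mul_mem hu (S.zU _)
  have hu0c : cls u0 ≠ 0 := by rwa [hu0, S.cls_mul_zc hu]
  have hjz : ∀ x : F, j * zc x * j⁻¹ = zc x := fun x => by
    rw [(mem_Cen.1 (S.X.zc_mem x)).2, mul_inv_cancel_right]
  have hs0 : u0⁻¹ = j * u0 * j⁻¹ := by
    have h2 := S.two_ne'
    calc u0⁻¹ = zc (-(s / 2)) * u⁻¹ := by rw [hu0, mul_inv_rev, S.zc_neg]
      _ = j * u * j⁻¹ * zc (s / 2) := by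
          rw [S.zc_comm _ (inv_mem hu), hs, mul_assoc, ← S.X.zc_add]; congr 2; field_simp; ring
      _ = _ := by rw [hu0]; nth_rw 1 [← hjz (s / 2)]; group
  obtain ⟨D, hD, hDq, hrow⟩ := B.N.base_row hu0U hu0c hs0
  have huy : ∀ y : F, u * zc y = u0 * zc (y - s / 2) := fun y => by
    rw [hu0, mul_assoc, ← S.X.zc_add, add_sub_cancel]
  have hval : ∀ y : F, β (u * zc y) = M1 * (D - ((y - s / 2 : F) : L)) := fun y => by
    have hyU := mul_mem hu0U (S.zU (y - s / 2))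
    have hyc : cls (u0 * zc (y - s / 2)) ≠ 0 := by rwa [S.cls_mul_zc hu0U]
    have h := B.β_f _ hyU hyc
    rw [huy]
    refine mul_left_cancel₀ (S.cls_f_ne hyU hyc) ?_
    rw [h, S.cls_mul_zc hu0U, ← hrow (y - s / 2)]
    ring
  have h0 := hval 0
  rw [S.zc_zero, mul_one] at h0
  have hq : β u ^ p ^ n = M1 * (D + ((0 - s / 2 : F) : L)) := by
    rw [h0, mul_pow, B.N.sub_q, B.N.M_q, hDq, B.N.coe_q]
    ring
  refine ⟨fun y => ?_, ?_, ?_⟩
  · rw [hval, h0]; push_cast; ring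
  · have hinv : u⁻¹ = j * (u * zc s) * j⁻¹ := by
      rw [hs]; nth_rw 1 [← hjz s]; group
    have hsU := mul_mem hu (S.zU s)
    have hsc : cls (u * zc s) ≠ 0 := by rwa [S.cls_mul_zc hu]
    have hic : cls u⁻¹ ≠ 0 := by rw [S.cls_inv hu]; exact neg_ne_zero.2 hc
    have h := B.β_f _ (inv_mem hu) hic
    have h' := B.β_f _ hsU hsc
    refine mul_left_cancel₀ (S.cls_f_ne (inv_mem hu) hic) ?_
    rw [h]
    rw [show f u⁻¹ = j * f (u * zc s) * j⁻¹ by
        rw [hinv, (S.conj_rule S.X.T.jH hsU (S.ne_one_of_cls hsc)).1, S.tjt],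
      S.cls_inv hu, S.X.cls_conj _ S.X.T.jH _ (S.f_mem _), S.μ_j]
    rw [S.cls_mul_zc hu, hval s] at h'
    have h2 := S.two_ne'
    have hkey : M1 * (D - ((s - s / 2 : F) : L)) = β u ^ p ^ n := by
      rw [hq, show (0 - s / 2 : F) = -(s - s / 2) by field_simp; ring]
      push_cast; ring
    rw [hkey] at h'
    linear_combination h'
  · rw [hq, h0]
    intro e
    have e' : (2 : L) * (M1 * D) = 0 := by linear_combination e
    rcases mul_eq_zero.1 e' with h | h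
    · exact S.X.two_ne h
    · rcases mul_eq_zero.1 h with h | h
      · exact B.N.M_ne h
      · exact hD (h ▸ zero_mem F)

theorem β_one : β 1 = 0 := by
  rw [← B.N.S.zc_zero, B.β_zc]; simp

theorem β_mul_zc {u : G} (hu : u ∈ U) (y : F) : β (u * zc y) = β u + β (zc y) := by
  by_cases hc : cls u = 0
  · obtain ⟨x, rfl⟩ := B.N.S.exists_zc_of_cls hu hc
    rw [← B.N.S.X.zc_add, B.β_zc, B.β_zc, B.β_zc]
    push_cast; ring
  · rw [(B.line hu hc).1 y, B.β_zc]; ring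

theorem β_inv {u : G} (hu : u ∈ U) : β u⁻¹ = β u ^ p ^ n := by
  by_cases hc : cls u = 0
  · obtain ⟨x, rfl⟩ := B.N.S.exists_zc_of_cls hu hc
    rw [← B.N.S.zc_neg, B.β_zc, B.β_zc, B.N.neg_q, mul_pow, B.N.M_q, B.N.coe_q]
    push_cast; ring
  · exact (B.line hu hc).2.1

theorem β_ne_one {u : G} (hu : u ∈ U) (h1 : u ≠ 1) : β u ≠ 0 := by
  by_cases hc : cls u = 0
  · obtain ⟨x, rfl⟩ := B.N.S.exists_zc_of_cls hu hc
    rw [B.β_zc, neg_ne_zero]
    refine mul_ne_zero B.N.M_ne fun e => h1 ?_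
    rw [show x = 0 by simpa using e, B.N.S.zc_zero]
  · exact B.β_ne hu hc

theorem f_mul_β {u : G} (hu : u ∈ U) (h1 : u ≠ 1) :
    cls (f u) * β u = -cls u ∧ β (f u) * β u = 1 := by
  have S := B.N.S
  by_cases hc : cls u = 0
  · obtain ⟨x, rfl⟩ := S.exists_zc_of_cls hu hc
    have hx : x ≠ 0 := fun e => h1 (by rw [e, S.zc_zero])
    rw [B.N.fz x hx, S.cls_zc, S.cls_zc, B.β_zc, B.β_zc, zero_mul, neg_zero]
    refine ⟨rfl, ?_⟩
    have hxL : (x : L) ≠ 0 := by simpa using hx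
    have h := B.N.M_sq
    push_cast
    field_simp
    linear_combination h
  · have hfc := S.cls_f_ne hu hc
    have hA := B.β_f u hu hc
    have hB := B.β_f (f u) (S.f_mem u) hfc
    rw [(S.ff_rule hu h1).1] at hB
    refine ⟨hA, mul_left_cancel₀ hc ?_⟩
    linear_combination β u * hB - hA

theorem β_g {u : G} (hu : u ∈ U) (hc : cls u ≠ 0) :
    β (g u) * β u = 1 ∧ cls (g u) * β u ^ p ^ n = -cls u := by
  have S := B.N.S
  have h1 := S.ne_one_of_cls hc
  have hg : g u = (f u⁻¹)⁻¹ := by rw [(S.inv_rule hu h1).1, inv_inv]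
  obtain ⟨e1, e2⟩ := B.f_mul_β (inv_mem hu) (inv_ne_one.2 h1)
  rw [B.β_inv hu] at e1 e2
  rw [S.cls_inv hu] at e1
  rw [hg, S.cls_inv (S.f_mem _), B.β_inv (S.f_mem _)]
  refine ⟨?_, by linear_combination (-1 : L) * e1⟩
  have h := congrArg (· ^ p ^ n) e2
  simp only [mul_pow, one_pow] at h
  rwa [S.X.qq] at h

theorem μ_k {u : G} (hu : u ∈ U) (hc : cls u ≠ 0) : μ (k u) * β u ^ 2 = β u ^ p ^ n := by
  have S := B.N.S
  have h1 := S.ne_one_of_cls hc
  have h := S.cls_f_mul_zc B.N.fz hu hc (one_ne_zero (α := F))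
  rw [div_one] at h
  have hy1 : cls (u * zc 1) ≠ 0 := by rwa [S.cls_mul_zc hu]
  have hu1U := mul_mem hu (S.zU 1)
  have a1 := B.β_f _ hu1U hy1
  rw [S.cls_mul_zc hu, B.β_mul_zc hu, B.β_zc] at a1
  have a0 := B.β_f u hu hc
  obtain ⟨g1, g2⟩ := B.β_g hu hc
  have hgc := S.cls_g_ne hu hc
  have hgκ : cls (g u * zc κ) ≠ 0 := by rwa [S.cls_mul_zc (S.g_mem u)]
  have a2 := B.β_f _ (mul_mem (S.g_mem u) (S.zU κ)) hgκ
  rw [S.cls_mul_zc (S.g_mem u), B.β_mul_zc (S.g_mem u), B.β_zc] at a2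
  simp only [OneMemClass.coe_one, mul_one] at a1
  have hne : β u - M1 ≠ 0 := by
    intro e
    have h := B.β_ne hu1U hy1
    rw [B.β_mul_zc hu, B.β_zc, OneMemClass.coe_one, mul_one, ← sub_eq_add_neg] at h
    exact h e
  refine mul_left_cancel₀ (mul_ne_zero hc hne) ?_
  -- eliminate the values of `f`
  have key : cls (f (g u * zc κ)) * ((1 - M1 * (κ : L) * β u) * β u ^ p ^ n) = cls u * β u := by
    linear_combination (β u * β u ^ p ^ n) * a2 - (cls (f (g u * zc κ)) * β u ^ p ^ n) * g1 - β u * g2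
  have h3 : μ (k u) * cls (f (g u * zc κ)) * (β u * (β u - M1)) = -(cls u * M1) := by
    linear_combination (-(β u * (β u - M1))) * h + β u * a1 - (β u - M1) * a0
  linear_combination (1 - M1 * (κ : L) * β u) * β u ^ p ^ n * h3
    - μ (k u) * (β u * (β u - M1)) * key + cls u * β u ^ p ^ n * β u * B.N.M_sq

theorem β_conj {h u : G} (hh : h ∈ H) (hu : u ∈ U) :
    β (h * u * h⁻¹) = μ h ^ (p ^ n + 1) * β u := by
  have S := B.N.S
  by_cases hc : cls u = 0
  · obtain ⟨x, rfl⟩ := S.exists_zc_of_cls hu hc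
    rw [S.X.zc_conj h hh, B.β_zc, B.β_zc, Subfield.coe_mul, B.N.norm h hh]
    ring
  · have hU := S.C.conj h hh u hu
    have hc' : cls (h * u * h⁻¹) ≠ 0 := by
      rw [S.X.cls_conj h hh u hu]; exact mul_ne_zero (S.X.μ_ne h hh) hc
    have e := B.β_f _ hU hc'
    have e0 := B.β_f u hu hc
    refine mul_left_cancel₀ (S.cls_f_ne hU hc') ?_
    rw [e, S.X.cls_conj h hh u hu, (S.conj_rule hh hu (S.ne_one_of_cls hc)).1,
      S.X.cls_conj _ (S.tHt hh) _ (S.f_mem u), S.μ_t hh, pow_succ]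
    have := pow_ne_zero (p ^ n) (S.X.μ_ne h hh)
    field_simp
    linear_combination (-(μ h)) * e0

omit B in
theorem cube_classes {Q : Type*} [Group Q] [Finite Q] (hQ : Nat.card Q = 3) {u v : Q} (hu : u ≠ 1)
    (hv : v ≠ 1) : u = v ∨ u = v⁻¹ := by
  haveI : Fact (Nat.Prime 3) := ⟨Nat.prime_three⟩
  have hv3 : orderOf v = 3 := orderOf_eq_prime (by rw [← hQ]; exact pow_card_eq_one') hv
  have htop : Subgroup.zpowers v = ⊤ := Subgroup.eq_top_of_card_eq _ (by
    rw [Nat.card_zpowers, hv3, hQ])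
  obtain ⟨i, rfl⟩ := Subgroup.mem_zpowers_iff.1 (show u ∈ Subgroup.zpowers v from htop ▸ Subgroup.mem_top u)
  rw [← zpow_mod_orderOf, hv3] at hu ⊢
  have h : i % ((3 : ℕ) : ℤ) = 0 ∨ i % ((3 : ℕ) : ℤ) = 1 ∨ i % ((3 : ℕ) : ℤ) = 2 := by omega
  rcases h with h | h | h <;> rw [h] at hu ⊢
  · simp at hu
  · left; simp
  · right
    refine eq_inv_of_mul_eq_one_left ?_
    rw [show (2 : ℤ) = ((2 : ℕ) : ℤ) from rfl, zpow_natCast, ← pow_succ,
      show (2 + 1 : ℕ) = orderOf v from hv3.symm, pow_orderOf_eq_one]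

omit B in
theorem three_points {Q : Type*} [CommGroup Q] (h3 : ∀ z : Q, z ^ 3 = 1) {x y γ δ : Q}
    (hγ : γ = x⁻¹ * y ∨ γ = (x⁻¹ * y)⁻¹) (hδ : δ = x⁻¹ * y ∨ δ = (x⁻¹ * y)⁻¹) :
    γ * x = y ∨ δ * y = x ∨ γ * x = δ * y := by
  rcases hγ with rfl | rfl
  · left; rw [mul_comm, mul_inv_cancel_left]
  rcases hδ with rfl | rfl
  · right; right
    rw [mul_inv_rev, inv_inv]
    refine div_eq_one.1 (Eq.trans ?_ (inv_eq_one.2 (h3 (x⁻¹ * y))))
    simp [div_eq_mul_inv, pow_succ, mul_comm, mul_left_comm, mul_assoc]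
  · right; left; rw [mul_inv_rev, inv_inv, mul_comm, mul_inv_cancel_left]

theorem exists_trace : ∃ c : F, c ≠ 0 ∧
    ∀ u ∈ U, β u + β u ^ p ^ n = (c : L) * cls u ^ (p ^ n + 1) := by
  classical
  have S := B.N.S
  let μH : H →* Lˣ := MonoidHom.mk' (fun h => Units.mk0 (μ h) (S.X.μ_ne _ h.2))
    (fun g h => Units.ext (S.X.μ_mul _ g.2 _ h.2))
  have hμinj : Function.Injective μH := fun g h e =>
    Subtype.ext (S.X.μ_inj _ g.2 _ h.2 (congrArg Units.val e))
  choose rep hrepU hrep using S.X.cls_surj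
  let θ : L → L := fun X => (β (rep X) + β (rep X) ^ p ^ n) / X ^ (p ^ n + 1)
  have htr : ∀ u ∈ U, ∀ y : F, β (u * zc y) + β (u * zc y) ^ p ^ n = β u + β u ^ p ^ n := by
    intro u hu y
    rw [B.β_mul_zc hu, B.β_zc, ← sub_eq_add_neg, B.N.sub_q, mul_pow, B.N.M_q, B.N.coe_q]
    ring
  have hθ : ∀ u ∈ U, θ (cls u) = (β u + β u ^ p ^ n) / cls u ^ (p ^ n + 1) := by
    intro u hu
    obtain ⟨x, hx⟩ := S.exists_zc hu (hrepU _) (hrep (cls u)).symm
    show (β (rep (cls u)) + β (rep (cls u)) ^ p ^ n) / _ = _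
    rw [hx, htr u hu]
  have hHinv : ∀ X : L, ∀ h ∈ H, θ (μ h * X) = θ X := by
    intro X h hh
    have hN := (S.X.memF _).1 (S.norm_mem (μ h))
    rw [← hrep X, ← S.X.cls_conj h hh _ (hrepU X), hθ _ (S.C.conj h hh _ (hrepU X)), hθ _ (hrepU X),
      B.β_conj hh (hrepU X), S.X.cls_conj h hh _ (hrepU X), mul_pow (μ h ^ (p ^ n + 1)), hN,
      ← mul_add, mul_pow, mul_div_mul_left _ _ (pow_ne_zero _ (S.X.μ_ne h hh))]
  have hconst : ∀ X Y : Lˣ, θ X = θ Y := by
    obtain ⟨g', d, hg', hgH, hde, hdg, hm⟩ := S.C.cardH_fact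
    have hrg : Nat.card μH.range = Nat.card H :=
      Nat.card_congr (MonoidHom.ofInjective hμinj).toEquiv.symm
    have hidx : Nat.card (Lˣ ⧸ μH.range) = g' := by
      have h := μH.range.card_eq_card_quotient_mul_card_subgroup
      rw [Nat.card_units, S.X.cardL, hrg, ← pow_mul, mul_comm n 2, ← hgH] at h
      exact (Nat.eq_of_mul_eq_mul_right S.C.cardH_pos h).symm
    have hrel : ∀ X Y : Lˣ, (X : Lˣ ⧸ μH.range) = Y → θ X = θ Y := by
      intro X Y e
      obtain ⟨h, hh⟩ := QuotientGroup.eq.1 e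
      have : (Y : L) = μ h * X := by
        rw [show (μ h : L) = ((μH h : Lˣ) : L) from rfl, hh]
        push_cast
        field_simp
      rw [this, hHinv _ _ h.2]
    rcases hg' with hg | hg
    · intro X Y
      haveI : Subsingleton (Lˣ ⧸ μH.range) := Finite.card_le_one_iff_subsingleton.1 (by rw [hidx, hg])
      exact hrel X Y (Subsingleton.elim _ _)
    have hstep : ∀ X : Lˣ, ∃ γ : Lˣ, (γ : Lˣ ⧸ μH.range) ≠ 1 ∧ θ ((γ * X : Lˣ) : L) = θ X := by
      intro X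
      obtain ⟨u, hu, hcu⟩ := S.X.cls_surj (X : L)
      have hc : cls u ≠ 0 := hcu ▸ X.ne_zero
      have hyc : ∀ y : F, cls (u * zc y) ≠ 0 := fun y => by rwa [S.cls_mul_zc hu]
      have hne : ∀ y : F, β (u * zc y) ≠ 0 := fun y => B.β_ne (mul_mem hu (S.zU y)) (hyc y)
      obtain ⟨y, hy⟩ : ∃ y : F, ((-(Units.mk0 _ (hne y))⁻¹ : Lˣ) : Lˣ ⧸ μH.range) ≠ 1 := by
        by_contra hall
        push Not at hall
        have hmem : ∀ y : F, Units.mk0 _ (hne y) ∈ μH.range := by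
          intro y
          have h1 := (QuotientGroup.eq_one_iff _).1 (hall y)
          have hm1 : (-1 : Lˣ) ∈ μH.range := ⟨⟨j, S.X.T.jH⟩, Units.ext (by simp [μH, S.μ_j])⟩
          have h2 := inv_mem (mul_mem hm1 h1)
          simpa using h2
        have hc_mem : ∀ c : Fˣ, (Units.mk0 ((c : F) : L) (by simp) : Lˣ) ∈ μH.range := by
          intro c
          obtain ⟨h, hh, he⟩ := S.X.χ_surj c c.ne_zero
          refine ⟨⟨h, hh⟩ ^ (p ^ n + 1), Units.ext ?_⟩
          show μ (h ^ (p ^ n + 1)) = ((c : F) : L)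
          rw [S.μ_pow hh, ← B.N.norm h hh, he]
        have hle : Nat.card (Fˣ × F) ≤ Nat.card μH.range :=
          Nat.card_le_card_of_injective
            (fun cy => ⟨_, mul_mem (hc_mem cy.1) (hmem cy.2)⟩) (by
          rintro ⟨c, y⟩ ⟨c', y'⟩ e
          have e1 : ((c : F) : L) * β (u * zc y) = ((c' : F) : L) * β (u * zc y') :=
            congrArg (fun z => ((z.1 : Lˣ) : L)) e
          have e2 := congrArg (· ^ p ^ n) e1
          simp only [mul_pow, B.N.coe_q] at e2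
          have e3 : ((c : F) : L) = ((c' : F) : L) := by
            refine mul_right_cancel₀ (B.line hu hc).2.2 ?_
            linear_combination e1 + e2 - ((c : F) : L) * htr u hu y + ((c' : F) : L) * htr u hu y'
          obtain rfl : c = c' := Units.ext (Subtype.ext e3)
          have e4 := mul_left_cancel₀ (by simp : ((c : F) : L) ≠ 0) e1
          rw [(B.line hu hc).1 y, (B.line hu hc).1 y', sub_right_inj] at e4
          rw [show y = y' from Subtype.ext (mul_left_cancel₀ B.N.M_ne e4)])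
        rw [Nat.card_prod, Nat.card_units, S.X.cardF, hrg, hm] at hle
        have hq := S.C.q_three
        have := Nat.le_of_mul_le_mul_left hle (by omega : 0 < p ^ n - 1)
        rw [hg] at hdg
        omega
      refine ⟨-(Units.mk0 _ (hne y))⁻¹, hy, ?_⟩
      have hyU := mul_mem hu (S.zU y)
      obtain ⟨e1, e2⟩ := B.f_mul_β hyU (S.ne_one_of_cls (hyc y))
      rw [S.cls_mul_zc hu, hcu] at e1
      have hcl : ((-(Units.mk0 _ (hne y))⁻¹ * X : Lˣ) : L) = cls (f (u * zc y)) := by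
        refine mul_right_cancel₀ (hne y) ?_
        rw [e1]
        push_cast
        field_simp
        simp [hne y]
      rw [hcl, hθ _ (S.f_mem _), show (X : L) = cls (u * zc y) by rw [S.cls_mul_zc hu, hcu],
        hθ _ hyU]
      have hb : β (f (u * zc y)) = (β (u * zc y))⁻¹ := eq_inv_of_mul_eq_one_left e2
      have hf : cls (f (u * zc y)) = -(cls (u * zc y)) / β (u * zc y) := by
        rw [eq_div_iff (hne y), e1, S.cls_mul_zc hu, hcu]
      rw [hb, hf, inv_pow, div_pow,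
        Even.neg_pow (((S.C.prime.odd_of_ne_two S.C.odd).pow).add_one)]
      have := hne y
      have := hyc y
      rw [pow_succ]
      rw [pow_succ]
      field_simp
      ring
    intro X Y
    by_cases e : (X : Lˣ ⧸ μH.range) = Y
    · exact hrel X Y e
    obtain ⟨γ, hγ, hγX⟩ := hstep X
    obtain ⟨δ, hδ, hδY⟩ := hstep Y
    have hy : ((X⁻¹ * Y : Lˣ) : Lˣ ⧸ μH.range) ≠ 1 := fun h =>
      e (QuotientGroup.eq.2 ((QuotientGroup.eq_one_iff _).1 h))
    have hQ3 : Nat.card (Lˣ ⧸ μH.range) = 3 := hidx.trans hg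
    have h1 := cube_classes hQ3 hγ hy
    have h2 := cube_classes hQ3 hδ hy
    rw [QuotientGroup.mk_mul, QuotientGroup.mk_inv] at h1 h2
    rcases three_points (fun z => hQ3 ▸ pow_card_eq_one') h1 h2 with h | h | h
    · rw [← hγX]; exact hrel _ _ ((QuotientGroup.mk_mul ..).trans h)
    · rw [← hδY]; exact hrel _ _ (((QuotientGroup.mk_mul ..).trans h).symm)
    · rw [← hγX, ← hδY]
      exact hrel _ _ ((QuotientGroup.mk_mul ..).trans (h.trans (QuotientGroup.mk_mul ..).symm))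
  obtain ⟨u1, hu1, hu11⟩ := S.X.cls_surj 1
  have hc1 : θ 1 = β u1 + β u1 ^ p ^ n := by rw [← hu11, hθ u1 hu1, hu11]; simp
  have hc1F : θ 1 ∈ F := by
    rw [hc1, S.X.memF, S.X.add_q, S.X.qq, add_comm]
  refine ⟨⟨θ 1, hc1F⟩, fun e => ?_, fun u hu => ?_⟩
  · exact (B.line hu1 (by rw [hu11]; exact one_ne_zero)).2.2 (hc1 ▸ congrArg Subtype.val e)
  · by_cases hc : cls u = 0
    · obtain ⟨x, rfl⟩ := S.exists_zc_of_cls hu hc
      rw [S.cls_zc, zero_pow (Nat.succ_ne_zero _), mul_zero, B.β_zc, B.N.neg_q, mul_pow, B.N.M_q,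
        B.N.coe_q]
      ring
    · have h := hconst 1 (Units.mk0 _ hc)
      simp only [Units.val_one, Units.val_mk0] at h
      show _ = θ 1 * _
      rw [h, hθ u hu, div_mul_cancel₀ _ (pow_ne_zero _ hc)]

/-- The product rule in coordinates. -/
theorem exists_mul : ∃ lam : L, lam ≠ 0 ∧
    (∀ u ∈ U, β u + β u ^ p ^ n + lam * cls u * (lam * cls u) ^ p ^ n = 0) ∧
    ∀ u ∈ U, ∀ v ∈ U, β (u * v) = β u + β v - lam * cls v * (lam * cls u) ^ p ^ n := by
  classical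
  have S := B.N.S
  obtain ⟨c, hc0, htr⟩ := B.exists_trace
  obtain ⟨h, hh, hχ⟩ := S.X.χ_surj (-c) (neg_ne_zero.2 hc0)
  obtain ⟨lam, hlam⟩ : ∃ lam, lam = μ h := ⟨_, rfl⟩
  have hl0 : lam ≠ 0 := hlam ▸ S.X.μ_ne h hh
  have hN : lam ^ (p ^ n + 1) = -(c : L) := by
    rw [hlam, ← B.N.norm h hh, hχ]; push_cast; rfl
  have hok : ∀ u ∈ U, β u + β u ^ p ^ n + lam * cls u * (lam * cls u) ^ p ^ n = 0 := by
    intro u hu
    rw [← pow_succ', mul_pow, hN, htr u hu]; ring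
  refine ⟨lam, hl0, hok, ?_⟩
  obtain ⟨bb, hbb⟩ : ∃ bb : G → L, ∀ u, bb u = lam * cls u := ⟨fun u => lam * cls u, fun _ => rfl⟩
  simp only [← hbb] at hok ⊢
  obtain ⟨Dl, hDl⟩ : ∃ Dl : G → G → L, ∀ u v, Dl u v = β (u * v) - β u - β v + bb v * bb u ^ p ^ n :=
    ⟨fun u v => β (u * v) - β u - β v + bb v * bb u ^ p ^ n, fun _ _ => rfl⟩
  suffices hD : ∀ u ∈ U, ∀ v ∈ U, Dl u v = 0 by
    intro u hu v hv
    have := hD u hu v hv
    rw [hDl] at this
    linear_combination this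
  have hbmul : ∀ u ∈ U, ∀ v ∈ U, bb (u * v) = bb u + bb v := fun u hu v hv => by
    rw [hbb, hbb, hbb, S.X.cls_mul u hu v hv, mul_add]
  have hbz : ∀ y : F, bb (zc y) = 0 := fun y => by rw [hbb, S.cls_zc, mul_zero]
  have himag : ∀ u ∈ U, ∀ v ∈ U, Dl u v ^ p ^ n = -Dl u v := by
    intro u hu v hv
    have h1 := hok (u * v) (mul_mem hu hv)
    rw [hbmul u hu v hv, S.X.add_q] at h1
    have h2 := hok u hu
    have h3 := hok v hv
    rw [hDl, S.X.add_q, B.N.sub_q, B.N.sub_q, mul_pow, S.X.qq]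
    linear_combination h1 - h2 - h3
  have hshift : ∀ u ∈ U, ∀ v ∈ U, ∀ x y : F, Dl (u * zc x) (v * zc y) = Dl u v := by
    intro u hu v hv x y
    have e : u * zc x * (v * zc y) = u * v * zc (x + y) := by
      rw [S.X.zc_add, mul_assoc, ← mul_assoc (zc x), S.zc_comm x hv]; simp only [mul_assoc]
    rw [hDl, hDl, e, B.β_mul_zc (mul_mem hu hv), B.β_mul_zc hu, B.β_mul_zc hv, B.β_zc, B.β_zc,
      B.β_zc, hbmul u hu _ (S.zU x), hbmul v hv _ (S.zU y), hbz, hbz, add_zero, add_zero]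
    push_cast; ring
  -- the relation coming from `f (u v)`
  have hrel : ∀ u ∈ U, ∀ v ∈ U, cls u ≠ 0 → cls v ≠ 0 → cls (u * v) ≠ 0 →
      Dl (g u) (f v) * (β v * (bb v * β u ^ p ^ n + bb u * β v + bb u * Dl u v)) =
        -((bb u + bb v) * Dl u v) := by
    intro u hu v hv huc hvc huvc
    have hu1 := S.ne_one_of_cls huc
    have hv1 := S.ne_one_of_cls hvc
    have huv1 := S.ne_one_of_cls huvc
    obtain ⟨w, hw⟩ : ∃ w, w = g u * f v := ⟨_, rfl⟩
    have hwU : w ∈ U := hw ▸ mul_mem (S.g_mem u) (S.f_mem v)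
    have hw1 : w ≠ 1 := hw ▸ S.mid_ne_one hu hu1 hv hv1 huv1
    have hb : ∀ z ∈ U, z ≠ 1 → bb (f z) * β z = -bb z := fun z hz hz1 => by
      rw [hbb, hbb, mul_assoc, (B.f_mul_β hz hz1).1, mul_neg]
    have p0 := hb _ (mul_mem hu hv) huv1
    have p1 := hb u hu hu1
    have p2 := hb v hv hv1
    have p3 := hb w hwU hw1
    have p4 : bb (f (u * v)) = bb (f u) + μ (k u) * bb (f w) := by
      rw [(S.mul_rule hu hu1 hv hv1 huv1).1, ← hw,
        hbmul _ (S.f_mem u) _ (S.C.conj _ (S.k_mem u) _ (S.f_mem w)), hbb (k u * f w * (k u)⁻¹),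
        S.X.cls_conj _ (S.k_mem u) _ (S.f_mem w), hbb (f w)]
      ring
    have p5 := B.μ_k hu huc
    obtain ⟨g1, g2⟩ := B.β_g hu huc
    have g2' : bb (g u) * β u ^ p ^ n = -bb u := by rw [hbb, hbb, mul_assoc, g2, mul_neg]
    have g3 : bb (g u) ^ p ^ n * β u = -bb u ^ p ^ n := by
      have := congrArg (· ^ p ^ n) g2'
      simpa [mul_pow, S.X.qq, B.N.neg_q] using this
    have f1 := (B.f_mul_β hv hv1).2
    have d1 := hDl u v
    have d2 := hDl (g u) (f v)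
    rw [← hw] at d2
    have p6 : bb w = bb (g u) + bb (f v) := hw ▸ hbmul _ (S.g_mem u) _ (S.f_mem v)
    rw [hbmul u hu v hv] at p0
    have hBu := hok u hu
    obtain ⟨E, hE⟩ : ∃ E, E = β u * β v * Dl (g u) (f v) := ⟨_, rfl⟩
    obtain ⟨T, hT⟩ : ∃ T, T = β u + β v - bb v * bb u ^ p ^ n := ⟨_, rfl⟩
    have w1 : β w * (β u * β v) = T + E := by
      rw [hE, hT, d2]
      linear_combination β v * g1 + β u * f1 - bb (f v) * β v * g3 + bb u ^ p ^ n * p2
    have w2 : β (u * v) = T + Dl u v := by rw [hT, d1]; ring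
    have hq0 := pow_ne_zero (p ^ n) (B.β_ne hu huc)
    have w3 : μ (k u) * bb (f w) * (β u * (T + E)) = bb u * β v + bb v * β u ^ p ^ n := by
      refine mul_left_cancel₀ (B.β_ne hu huc) ?_
      linear_combination (β u * bb (f w) * β w * β v) * p5
        - (μ (k u) * β u ^ 2 * bb (f w)) * w1
        + (β u ^ p ^ n * β u * β v) * p3 - (β u ^ p ^ n * β u * β v) * p6
        - (β u * β v) * g2' - (β u ^ p ^ n * β u) * p2
    refine mul_left_cancel₀ (B.β_ne hu huc) ?_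
    linear_combination (β u * (T + E) * bb (f (u * v))) * w2 - (β u * (T + E)) * p0
      + ((T + Dl u v) * (T + E)) * p1 + (T + Dl u v) * w3 + (β u * (T + E) * (T + Dl u v)) * p4
      + (bb v * (E + T + Dl u v)) * hBu - (bb u * (E + T + Dl u v)) * hT
      - (bb v * β u ^ p ^ n + bb u * β v + bb u * Dl u v) * hE
  intro u hu v hv
  by_cases huc : cls u = 0
  · obtain ⟨x, rfl⟩ := S.exists_zc_of_cls hu huc
    rw [hDl, S.zc_comm x hv, B.β_mul_zc hv, hbz, zero_pow B.N.q_ne]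
    ring
  by_cases hvc : cls v = 0
  · obtain ⟨x, rfl⟩ := S.exists_zc_of_cls hv hvc
    rw [hDl, B.β_mul_zc hu, hbz]; ring
  by_cases huvc : cls (u * v) = 0
  · obtain ⟨x, hx⟩ := S.exists_zc_of_cls (mul_mem hu hv) huvc
    have : v = u⁻¹ * zc x := by rw [← hx, inv_mul_cancel_left]
    rw [this, show Dl u (u⁻¹ * zc x) = Dl (u * zc 0) (u⁻¹ * zc x) by rw [S.zc_zero, mul_one],
      hshift u hu _ (inv_mem hu), hDl, mul_inv_cancel, B.β_one, B.β_inv hu]
    have hinv : bb u⁻¹ = -bb u := by rw [hbb, hbb, S.cls_inv hu, mul_neg]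
    rw [hinv]
    linear_combination (-1 : L) * hok u hu
  by_contra hne
  obtain ⟨Q, hQ⟩ : ∃ Q : L → L → L, ∀ x y, Q x y =
      y * (bb v * x ^ p ^ n + bb u * y + bb u * Dl u v) / (bb u + bb v) :=
    ⟨fun x y => y * (bb v * x ^ p ^ n + bb u * y + bb u * Dl u v) / (bb u + bb v), fun _ _ => rfl⟩
  have hs0 : bb u + bb v ≠ 0 := by
    rw [← hbmul u hu v hv, hbb]; exact mul_ne_zero hl0 huvc
  have hreal : ∀ x y : F, Q (β (u * zc x)) (β (v * zc y)) ^ p ^ n = Q (β (u * zc x)) (β (v * zc y)) := by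
    intro x y
    have hxU := mul_mem hu (S.zU x)
    have hyU := mul_mem hv (S.zU y)
    have h := hrel _ hxU _ hyU (by rwa [S.cls_mul_zc hu]) (by rwa [S.cls_mul_zc hv]) (by
      rwa [S.X.cls_mul _ hxU _ hyU, S.cls_mul_zc hu, S.cls_mul_zc hv, ← S.X.cls_mul u hu v hv])
    rw [hshift u hu v hv, hbmul u hu _ (S.zU x), hbmul v hv _ (S.zU y), hbz, hbz, add_zero,
      add_zero] at h
    obtain ⟨D', hD'⟩ : ∃ D', D' = Dl (g (u * zc x)) (f (v * zc y)) := ⟨_, rfl⟩
    have hD'q := himag (g (u * zc x)) (S.g_mem _) (f (v * zc y)) (S.f_mem _)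
    rw [← hD'] at h hD'q
    have hQD : D' * Q (β (u * zc x)) (β (v * zc y)) = -Dl u v := by
      rw [hQ, ← mul_div_assoc, h]; field_simp
    have hD'0 : D' ≠ 0 := fun e => hne (by
      rw [e, zero_mul] at hQD; exact neg_eq_zero.1 hQD.symm)
    have h2 := congrArg (· ^ p ^ n) hQD
    simp only [mul_pow, hD'q, B.N.neg_q, himag u hu v hv, neg_neg] at h2
    refine mul_left_cancel₀ hD'0 ?_
    linear_combination (-1 : L) * h2 - hQD
  have r00 := hreal 0 0
  have r10 := hreal 1 0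
  have r01 := hreal 0 1
  have r11 := hreal 1 1
  simp only [B.β_mul_zc hu, B.β_mul_zc hv, B.β_zc, ZeroMemClass.coe_zero, mul_zero, neg_zero,
    add_zero, OneMemClass.coe_one, mul_one, ← sub_eq_add_neg] at r00 r10 r01 r11
  have hdiff : ∀ y, Q (β u - M1) y - Q (β u) y = y * (M1 * (bb v / (bb u + bb v))) := fun y => by
    rw [hQ, hQ, B.N.sub_q, B.N.M_q]; field_simp; ring
  obtain ⟨cc, hcc⟩ : ∃ cc, cc = bb v / (bb u + bb v) := ⟨_, rfl⟩
  rw [← hcc] at hdiff
  have e1 : β v ^ p ^ n * (M1 ^ p ^ n * cc ^ p ^ n) = β v * (M1 * cc) := by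
    rw [← mul_pow, ← mul_pow, ← hdiff, B.N.sub_q, r10, r00]
  have e2 : (β v - M1) ^ p ^ n * (M1 ^ p ^ n * cc ^ p ^ n) = (β v - M1) * (M1 * cc) := by
    rw [← mul_pow, ← mul_pow, ← hdiff, B.N.sub_q, r11, r01]
  rw [B.N.sub_q, B.N.M_q] at e2
  rw [B.N.M_q] at e1
  have hcq : cc ^ p ^ n = cc := by
    refine mul_left_cancel₀ (mul_ne_zero B.N.M_ne B.N.M_ne) ?_
    linear_combination e1 - e2
  rw [hcq] at e1
  have hcc0 : cc ≠ 0 := hcc ▸ div_ne_zero (by rw [hbb]; exact mul_ne_zero hl0 hvc) hs0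
  refine (B.line hv hvc).2.2 (mul_left_cancel₀ (mul_ne_zero B.N.M_ne hcc0) ?_)
  linear_combination (-1 : L) * e1

end BSys

end Cfsg.Agent.H36.OddU3
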