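import Mathlib

/-!
The functional equation of the classes `[f (x z)]` in odd characteristic.
-/

set_option autoImplicit false
set_option linter.unusedSectionVars false

namespace Cfsg.Agent.H36.OddU3

variable {F : Type*} [Field F] [Finite F]

/-- A multiplicative bijection satisfying the functional equation is additive. -/
theorem additive_of_eqn (h2 : (2 : F) ≠ 0) (ρ : F → F) (hρ : Function.Bijective ρ)
    (hmul : ∀ a b, ρ (a * b) = ρ a * ρ b) (Ψ P : F → F) (hΨ : Function.Bijective Ψ) (hΨ0 : Ψ 0 = 0)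
    (heq : ∀ v w, ρ (v - w) * (Ψ v + Ψ w) = P v - P w) :
    (∀ a b, ρ (a + b) = ρ a + ρ b) ∧ ∃ l, l ≠ 0 ∧ ∀ v, Ψ v = l * ρ v := by
  have hρ0 : ρ 0 = 0 := by
    obtain ⟨z, hz⟩ := hρ.2 0
    have := hmul 0 z
    rw [zero_mul, hz, mul_zero] at this
    exact this
  have hρne : ∀ {a}, a ≠ 0 → ρ a ≠ 0 := fun ha e => ha (hρ.1 (e.trans hρ0.symm))
  have hρ1 : ρ 1 = 1 := by
    have := hmul 1 1
    rw [one_mul] at this
    exact mul_left_cancel₀ (hρne one_ne_zero) (this.symm.trans (mul_one _).symm)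
  have hn1 : (-1 : F) ≠ 1 := fun e => h2 (by linear_combination (-1 : F) * e)
  have hρn1 : ρ (-1) = -1 := by
    have h : ρ (-1) * ρ (-1) = 1 := by rw [← hmul, neg_one_mul, neg_neg, hρ1]
    rcases mul_self_eq_one_iff.1 h with e | e
    · exact absurd (hρ.1 (e.trans hρ1.symm)) hn1
    · exact e
  have hρneg : ∀ a, ρ (-a) = -ρ a := fun a => by rw [← neg_one_mul, hmul, hρn1, neg_one_mul]
  have hE : ∀ v w, ρ (v - w) * (Ψ v + Ψ w) = ρ v * Ψ v - ρ w * Ψ w := by
    intro v w
    have a := heq v 0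
    have b := heq w 0
    rw [sub_zero, hΨ0, add_zero] at a b
    rw [heq, a, b]; ring
  have hodd : ∀ v, Ψ (-v) = -Ψ v := by
    intro v
    by_cases hv : v = 0
    · subst hv; rw [neg_zero, hΨ0, neg_zero]
    have h := hE v (-v)
    rw [sub_neg_eq_add, hρneg, ← two_mul, hmul] at h
    have h' : (ρ 2 - 1) * (ρ v * (Ψ v + Ψ (-v))) = 0 := by linear_combination h
    have h2' : ρ 2 - 1 ≠ 0 := fun e => by
      have := hρ.1 ((sub_eq_zero.1 e).trans hρ1.symm)
      exact one_ne_zero (α := F) (by linear_combination this)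
    have h3 := (mul_eq_zero.1 ((mul_eq_zero.1 h').resolve_left h2')).resolve_left (hρne hv)
    linear_combination h3
  have hl : Ψ 1 ≠ 0 := fun e => one_ne_zero (hΨ.1 (e.trans hΨ0.symm))
  -- multiplicativity
  have hPm : ∀ t v, Ψ (t * v) * Ψ 1 = Ψ v * Ψ t := by
    intro t v
    by_cases ht : t = 0
    · subst ht; simp [hΨ0]
    have a := hE v 1
    rw [hρ1, one_mul] at a
    have b := hE (t * v) t
    rw [show t * v - t = t * (v - 1) by ring, hmul, hmul] at b
    have b' : ρ (v - 1) * (Ψ (t * v) + Ψ t) = ρ v * Ψ (t * v) - Ψ t :=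
      mul_left_cancel₀ (hρne ht) (by linear_combination b)
    have hd : ρ (v - 1) - ρ v ≠ 0 := fun e => by
      have := hρ.1 (sub_eq_zero.1 e)
      exact one_ne_zero (α := F) (by linear_combination (-1 : F) * this)
    refine mul_left_cancel₀ hd ?_
    linear_combination Ψ 1 * b' - Ψ t * a
  have key : ∀ v, Ψ v = Ψ 1 * ρ v := by
    intro v
    by_cases hv : v = 0
    · subst hv; rw [hΨ0, hρ0, mul_zero]
    by_cases hv1 : v = 1
    · subst hv1; rw [hρ1, mul_one]
    by_cases hvn : v = -1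
    · subst hvn; rw [hodd, hρn1, mul_neg_one]
    obtain ⟨η, hη⟩ : ∃ η, η = Ψ v / Ψ 1 := ⟨_, rfl⟩
    have hΨv : Ψ v = Ψ 1 * η := by rw [hη]; field_simp
    have a := hE v 1
    have b := hE v (-1)
    rw [hρ1, hΨv] at a
    rw [sub_neg_eq_add, hodd, hρn1, hΨv] at b
    have a' : ρ (v - 1) * (η + 1) = ρ v * η - 1 := mul_left_cancel₀ hl (by linear_combination a)
    have b' : ρ (v + 1) * (η - 1) = ρ v * η - 1 := mul_left_cancel₀ hl (by linear_combination b)
    have hv2 : Ψ (v * v) = Ψ 1 * (η * η) :=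
      mul_right_cancel₀ hl (by rw [hPm, hΨv]; ring)
    have c := hE (v * v) 1
    rw [hρ1, hv2, hmul v v] at c
    have c' : ρ (v * v - 1) * (η * η + 1) = ρ v * ρ v * (η * η) - 1 :=
      mul_left_cancel₀ hl (by linear_combination c)
    have hsq : ρ (v * v - 1) = ρ (v - 1) * ρ (v + 1) := by rw [← hmul]; ring_nf
    have hne : η - 1 ≠ 0 := fun e => hv1 (hΨ.1 (by rw [hΨv, sub_eq_zero.1 e, mul_one]))
    have hab : ρ v * η - 1 ≠ 0 := by
      rw [← b']; exact mul_ne_zero (hρne fun e => hvn (eq_neg_of_add_eq_zero_left e)) hne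
    have e1 : (ρ v * η - 1) * (η * η + 1) = (ρ v * η + 1) * (η * η - 1) := by
      refine mul_left_cancel₀ hab ?_
      rw [hsq] at c'
      linear_combination ((η * η - 1)) * c'
        - (η * η + 1) * (ρ (v + 1) * (η - 1)) * a' - (η * η + 1) * (ρ v * η - 1) * b'
    have hη0 : η ≠ 0 := fun e => hv (hΨ.1 (by rw [hΨv, e, mul_zero, hΨ0]))
    have e2 : ρ v = η := by
      refine mul_left_cancel₀ (mul_ne_zero h2 hη0) ?_
      linear_combination e1
    rw [hΨv, e2]
  have hadd1 : ∀ v, ρ (v + 1) = ρ v + 1 := by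
    intro v
    by_cases hv1 : v = 1
    · subst hv1
      have h := hE (1 + 1) 1
      rw [key (1 + 1), add_sub_cancel_right, hρ1] at h
      have h' : (ρ (1 + 1) + 1) * (ρ (1 + 1) - (1 + 1)) = 0 :=
        mul_left_cancel₀ hl (by linear_combination (-1 : F) * h)
      rcases mul_eq_zero.1 h' with e | e
      · have e' := hρ.1 ((eq_neg_of_add_eq_zero_left e).trans hρn1.symm)
        rw [e', hρn1, hρ1]; linear_combination (-1 : F) * e'
      · rw [sub_eq_zero.1 e, hρ1]
    have b := hE v (-1)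
    rw [sub_neg_eq_add, hodd, hρn1, key v] at b
    have b' : ρ (v + 1) * (ρ v - 1) = (ρ v + 1) * (ρ v - 1) :=
      mul_left_cancel₀ hl (by linear_combination b)
    exact mul_right_cancel₀ (fun e => hv1 (hρ.1 ((sub_eq_zero.1 e).trans hρ1.symm))) b'
  refine ⟨fun a b => ?_, Ψ 1, hl, key⟩
  by_cases hb : b = 0
  · subst hb; rw [hρ0, add_zero, add_zero]
  · rw [show a + b = b * (a / b + 1) by field_simp, hmul, hadd1, mul_add, ← hmul, mul_one,
      show b * (a / b) = a by field_simp]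

variable {L : Type*} [Field L] [Algebra F L]

local notation "ι" => algebraMap F L

theorem exists_coeff [Finite L] (hcard : Nat.card L = Nat.card F ^ 2) {δ : L} (hδ : δ ∉ Set.range ι) :
    Function.Bijective (fun ab : F × F => ι ab.1 + ι ab.2 * δ) := by
  refine (Nat.bijective_iff_injective_and_card _).2 ⟨?_, by rw [Nat.card_prod, hcard, sq]⟩
  rintro ⟨a, b⟩ ⟨a', b'⟩ e
  simp only at e
  by_cases hb : b = b'
  · subst hb
    exact Prod.ext ((algebraMap F L).injective (add_right_cancel e)) rfl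
  · exfalso
    refine hδ ⟨(a' - a) / (b - b'), ?_⟩
    have hne : ι b - ι b' ≠ 0 := sub_ne_zero.2 fun h => hb ((algebraMap F L).injective h)
    rw [map_div₀, map_sub, map_sub, div_eq_iff hne]
    linear_combination (-1 : L) * e

theorem eq_zero_of_coeff {δ : L} (hδ : δ ∉ Set.range ι) {a b : F} (e : ι a + ι b * δ = 0) :
    a = 0 ∧ b = 0 := by
  by_cases hb : b = 0
  · subst hb
    simp at e
    exact ⟨e, rfl⟩
  · exfalso
    refine hδ ⟨-a / b, ?_⟩
    have hne : ι b ≠ 0 := by simpa using hb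
    rw [map_div₀, map_neg, div_eq_iff hne]
    linear_combination (-1 : L) * e

/-- The shape of a row. -/
theorem row_shape [Finite L] (hcard : Nat.card L = Nat.card F ^ 2) (h2 : (2 : F) ≠ 0) (ρ : F → F)
    (hρ : Function.Bijective ρ) (hmul : ∀ a b, ρ (a * b) = ρ a * ρ b) (P : F → L)
    (hP : ∀ y, P y ≠ 0) (s : F)
    (hA : ∀ d e, e ≠ 0 → ∃ c, c ≠ 0 ∧ ι (ρ e) * P (d + e) + ι (ρ c) * P (s - d + c) = 1) :
    (∀ a b, ρ (a + b) = ρ a + ρ b) ∧ ((∀ a, ρ a = a) →
      ∃ (D : L) (P0 : F), D ∉ Set.range ι ∧ ∀ y, (y - s / 2) ^ 2 + P0 ≠ 0 ∧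
        P y = (ι (y - s / 2) + D) / ι ((y - s / 2) ^ 2 + P0)) := by
  classical
  obtain ⟨δ, hδ⟩ : ∃ δ : L, δ ∉ Set.range ι := by
    by_contra h
    push Not at h
    have h1 : Nat.card L ≤ Nat.card F :=
      Nat.card_le_card_of_surjective (algebraMap F L) h
    have h2 : 1 < Nat.card F := Finite.one_lt_card
    nlinarith [hcard]
  let co := (Equiv.ofBijective _ (exists_coeff hcard hδ)).symm
  let A : F → F := fun y => (co (P y)).1
  let B : F → F := fun y => (co (P y)).2
  have hAB : ∀ y, P y = ι (A y) + ι (B y) * δ := fun y =>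
    ((Equiv.ofBijective _ (exists_coeff hcard hδ)).apply_symm_apply (P y)).symm
  have hρ0 : ρ 0 = 0 := by
    obtain ⟨z, hz⟩ := hρ.2 0
    have := hmul 0 z
    rw [zero_mul, hz, mul_zero] at this
    exact this
  have hρne : ∀ {a}, a ≠ 0 → ρ a ≠ 0 := fun ha e => ha (hρ.1 (e.trans hρ0.symm))
  have hrel : ∀ d e, e ≠ 0 → ∃ c, c ≠ 0 ∧ ρ e * A (d + e) + ρ c * A (s - d + c) = 1 ∧
      ρ e * B (d + e) + ρ c * B (s - d + c) = 0 := by
    intro d e he
    obtain ⟨c, hc, h⟩ := hA d e he
    rw [hAB, hAB] at h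
    have h0 := eq_zero_of_coeff hδ (a := ρ e * A (d + e) + ρ c * A (s - d + c) - 1)
      (b := ρ e * B (d + e) + ρ c * B (s - d + c)) (by
        simp only [map_sub, map_add, map_mul, map_one]
        linear_combination h)
    exact ⟨c, hc, sub_eq_zero.1 h0.1, h0.2⟩
  have hB : ∀ y, B y ≠ 0 := by
    intro y h
    have hA0 : A y ≠ 0 := fun h' => hP y (by rw [hAB, h, h', map_zero, zero_mul, add_zero])
    obtain ⟨e, he⟩ := hρ.2 (A y)⁻¹
    have he0 : e ≠ 0 := fun e' => inv_ne_zero hA0 (by rw [← he, e', hρ0])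
    obtain ⟨c, hc, ha, hb⟩ := hrel (y - e) e he0
    rw [sub_add_cancel, he, inv_mul_cancel₀ hA0] at ha
    rw [sub_add_cancel, h, mul_zero, zero_add] at hb
    have ha' := (mul_eq_zero.1 (add_eq_left.1 ha)).resolve_left (hρne hc)
    exact hP _ (by rw [hAB, ha', (mul_eq_zero.1 hb).resolve_left (hρne hc), map_zero, zero_mul,
      add_zero])
  let u : F → F := fun y => A y / B y
  have hAu : ∀ y, A y = u y * B y := fun y => by simp [u, hB y]
  have hsol : ∀ y v, v ≠ u y → ∃ e c, e ≠ 0 ∧ c ≠ 0 ∧ ρ e * (B y * (u y - v)) = 1 ∧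
      u (s - (y - e) + c) = v ∧ ρ c * (B (s - (y - e) + c) * (v - u y)) = 1 := by
    intro y v hv
    have hne : B y * (u y - v) ≠ 0 := mul_ne_zero (hB y) (sub_ne_zero.2 (Ne.symm hv))
    obtain ⟨e, he⟩ := hρ.2 (B y * (u y - v))⁻¹
    have he0 : e ≠ 0 := fun e' => inv_ne_zero hne (by rw [← he, e', hρ0])
    obtain ⟨c, hc, ha, hb⟩ := hrel (y - e) e he0
    rw [sub_add_cancel] at ha hb
    set y' := s - (y - e) + c with hy'
    rw [hAu y, hAu y'] at ha
    have h1 : ρ e * (B y * (u y - v)) = 1 := by rw [he, inv_mul_cancel₀ hne]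
    have h3 : ρ e * B y * (u y - u y') = 1 := by linear_combination ha - u y' * hb
    have h2' : u y' = v := by
      have h4 : ρ e * B y * (v - u y') = 0 := by linear_combination h3 - h1
      exact (sub_eq_zero.1 ((mul_eq_zero.1 h4).resolve_left (mul_ne_zero (hρne he0) (hB y)))).symm
    refine ⟨e, c, he0, hc, h1, h2', ?_⟩
    rw [h2'] at h3 ha
    linear_combination ha - u y * hb
  have hu : Function.Bijective u := by
    refine Finite.injective_iff_bijective.1 (Finite.injective_iff_surjective.2 fun v => ?_)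
    by_cases hv : v = u 0
    · exact ⟨0, hv.symm⟩
    · obtain ⟨e, c, -, -, -, h, -⟩ := hsol 0 v hv
      exact ⟨_, h⟩
  let eu := Equiv.ofBijective u hu
  let Φ : F → F := eu.symm
  have huΦ : ∀ v, u (Φ v) = v := eu.apply_symm_apply
  let er := Equiv.ofBijective ρ hρ
  let ri : F → F := er.symm
  have hri : Function.Bijective ri := er.symm.bijective
  have hρri : ∀ a, ρ (ri a) = a := er.apply_symm_apply
  have hriρ : ∀ a, ri (ρ a) = a := er.symm_apply_apply
  have hrim : ∀ a b, ri (a * b) = ri a * ri b := fun a b => hρ.1 (by rw [hmul, hρri, hρri, hρri])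
  have hrin : ∀ a, ri (-a) = -ri a := by
    have h0 : ρ 1 = 1 := by
      have := hmul 1 1
      rw [one_mul] at this
      exact mul_left_cancel₀ (hρne one_ne_zero) (this.symm.trans (mul_one _).symm)
    have h1 : ρ (-1) = -1 := by
      have h : ρ (-1) * ρ (-1) = 1 := by rw [← hmul, neg_one_mul, neg_neg, h0]
      rcases mul_self_eq_one_iff.1 h with e | e
      · exact absurd (hρ.1 (e.trans h0.symm)) fun e' => h2 (by linear_combination (-1 : F) * e')
      · exact e
    intro a
    refine hρ.1 ?_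
    rw [hρri, ← neg_one_mul (ri a), hmul, h1, hρri, neg_one_mul]
  let Q : F → F := fun v => ri (B (Φ v))⁻¹
  have heq : ∀ v w, ri (v - w) * (Φ v + Φ w - s) = Q v - Q w := by
    intro v w
    by_cases hvw : v = w
    · subst hvw; simp [show ri 0 = 0 from hρ.1 (by rw [hρri, hρ0])]
    obtain ⟨e, c, -, -, he, hy, hc⟩ := hsol (Φ v) w (by rw [huΦ]; exact Ne.symm hvw)
    have hy' : s - (Φ v - e) + c = Φ w := hu.1 (by rw [hy, huΦ])
    rw [huΦ] at he hc
    rw [hy'] at hc
    have key : ∀ a B', B' ≠ 0 → ∀ t, ρ a * (B' * t) = 1 → a * ri t = ri B'⁻¹ := by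
      intro a B' hB' t ht
      rw [← hriρ a, ← hrim]
      congr 1
      field_simp
      linear_combination ht
    have k1 := key e _ (hB _) _ he
    have k2 := key c _ (hB _) _ hc
    rw [← neg_sub v w, hrin] at k2
    have hsum : Φ v + Φ w - s = e + c := by linear_combination (-1 : F) * hy'
    rw [hsum]
    simp only [Q]
    linear_combination k1 - k2
  let v0 := u (s / 2)
  have hΦv0 : Φ v0 = s / 2 := eu.symm_apply_apply _
  obtain ⟨hadd, l, hl, hlin⟩ := additive_of_eqn h2 ri hri hrim (fun v => Φ (v + v0) - s / 2)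
    (fun v => Q (v + v0))
    ⟨fun a b e => add_right_cancel (eu.symm.injective (sub_left_injective e)), fun t =>
      ⟨u (t + s / 2) - v0, by simp [Φ, eu]⟩⟩
    (by simp [hΦv0]) (by
      intro v w
      have h := heq (v + v0) (w + v0)
      rw [add_sub_add_right_eq_sub] at h
      have hs : (2 : F) * (s / 2) = s := by field_simp
      linear_combination h - ri (v - w) * hs)
  refine ⟨fun a b => hri.1 (by rw [hriρ, hadd, hriρ, hriρ]), fun hid => ?_⟩
  have hriid : ∀ a, ri a = a := fun a => hρ.1 (by rw [hρri, hid])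
  refine ⟨ι l * (ι v0 + δ), l * Q v0, ?_, fun y => ?_⟩
  · rintro ⟨a, ha⟩
    refine hδ ⟨a / l - v0, ?_⟩
    have : ι l ≠ 0 := by simpa using hl
    rw [map_sub, map_div₀, ha]
    field_simp
    ring
  · obtain ⟨v, hv⟩ : ∃ v, v = u y - v0 := ⟨_, rfl⟩
    have hΦ : Φ (v + v0) = y := by rw [hv, sub_add_cancel]; exact eu.symm_apply_apply y
    have hz : y - s / 2 = l * v := by
      have := hlin v
      simp only [hriid, hΦ] at this
      exact this
    have hQ : (B y)⁻¹ = Q v0 + l * v * v := by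
      have h := heq (v + v0) v0
      rw [hΦv0, add_sub_cancel_right, hriid, hΦ] at h
      simp only [Q, hriid, hΦ, hΦv0] at h ⊢
      have hs : (2 : F) * (s / 2) = s := by field_simp
      linear_combination (-1 : F) * h + v * hz + v * hs
    have hden : (l * v) ^ 2 + l * Q v0 = l * (B y)⁻¹ := by rw [hQ]; ring
    rw [hz, hden]
    refine ⟨mul_ne_zero hl (inv_ne_zero (hB y)), ?_⟩
    have h1 : ι l ≠ 0 := by simpa using hl
    have h3 : ι (B y) ≠ 0 := by simpa using hB y
    rw [hAB y, hAu y, show u y = v + v0 by rw [hv]; ring]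
    simp only [map_mul, map_add, map_inv₀]
    field_simp
    ring

/-- The centre of a row is determined. -/
theorem centre_eq (h2 : (2 : F) ≠ 0) {t P P' : F} {D D' : L} (hD : D ∉ Set.range ι) (hP : P ≠ 0)
    (h : ∀ b : F, (ι b + D) * ι ((b - t) ^ 2 + P') = (ι (b - t) + D') * ι (b ^ 2 + P)) : t = 0 := by
  have h0 := h 0
  have h1 := h 1
  have hm := h (-1)
  simp only [map_add, map_sub, map_pow, map_one, map_neg, map_zero] at h0 h1 hm
  have h2L : (2 : L) ≠ 0 := by
    intro e
    apply h2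
    exact (algebraMap F L).injective (by rw [map_ofNat, map_zero]; exact e)
  have e2 : D' = D - ι t := mul_left_cancel₀ h2L (by linear_combination (-1 : L) * h1 - hm + 2 * h0)
  subst e2
  have e := eq_zero_of_coeff hD (a := 2 * t * P) (b := t ^ 2 + P' - P) (by
    simp only [map_mul, map_sub, map_add, map_pow, map_ofNat]
    linear_combination h0)
  simpa [h2, hP] using e.1

end Cfsg.Agent.H36.OddU3
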