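import Cfsg.Agent.H36.OddU3.Laws
import Cfsg.Agent.H36.OddU3.Rows

/-!
The shape of `y ↦ [f (u z_y)]`.
-/

set_option autoImplicit false
set_option linter.unusedSectionVars false
set_option linter.style.haveILetI false

namespace Cfsg.Agent.H36.OddU3

open MulAction

variable {G Ω : Type*} [Group G] [Finite G] [MulAction G Ω] [FaithfulSMul G Ω] {a b : Ω}
  {U H : Subgroup G} {p n : ℕ} {j t : G} {L : Type} [Field L] [Finite L] {F : Subfield L}
  {cls : G → L} {zc : F → G} {μ : G → L} {χ : G → F} {f g k : G → G}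

/-- The normalised system: the action on the line is the norm. -/
structure NSys (a b : Ω) (U H : Subgroup G) (p n : ℕ) (j t : G) (F : Subfield L)
    (cls : G → L) (zc : F → G) (μ : G → L) (χ : G → F) (f g k : G → G) (κ : F) (M1 : L) : Prop where
  S : Sys a b U H p n j t F cls zc μ χ f g k
  hκ0 : κ ≠ 0
  fz : ∀ x : F, x ≠ 0 → f (zc x) = zc (κ / x)
  gz : ∀ x : F, x ≠ 0 → g (zc x) = zc (κ / x)
  norm : ∀ h ∈ H, (χ h : L) = μ h ^ (p ^ n + 1)
  M_ne : M1 ≠ 0
  M_q : M1 ^ p ^ n = -M1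
  M_sq : M1 ^ 2 * (κ : L) = 1
  M_z : ∀ x : F, x ≠ 0 → (μ (k (zc x)))⁻¹ = M1 * (x : L)

namespace Sys

variable {a b : Ω} (S : Sys a b U H p n j t F cls zc μ χ f g k)
include S

theorem exists_shift {u : G} (hu : u ∈ U) : ∃ s, u⁻¹ = j * u * j⁻¹ * zc s :=
  S.exists_zc (S.C.conj j S.X.T.jH u hu) (inv_mem hu) (by
    rw [S.X.cls_conj j S.X.T.jH u hu, S.μ_j, S.cls_inv hu, neg_one_mul])

theorem card_sq : Nat.card L = Nat.card F ^ 2 := by rw [S.X.cardL, S.X.cardF]

theorem two_ne' : (2 : F) ≠ 0 := fun e => S.X.two_ne (by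
  have := congrArg F.subtype e; rwa [map_ofNat, map_zero] at this)

/-- The row of `u`, scaled, satisfies the functional equation. -/
theorem row_hA {κ : F} {ρ : F → F} {M1 : L} (hκ0 : κ ≠ 0)
    (hκ : ∀ x : F, x ≠ 0 → f (zc x) = zc (κ / x))
    (hg : ∀ x : F, x ≠ 0 → g (zc x) = zc (κ / x)) (hM0 : M1 ≠ 0)
    (hM : ∀ x : F, x ≠ 0 → (μ (k (zc x)))⁻¹ = M1 * (ρ x : L))
    {u : G} (hu : u ∈ U) (hc : cls u ≠ 0) {s : F} (hs : u⁻¹ = j * u * j⁻¹ * zc s) :
    (∀ y, M1 * cls (f (u * zc y)) / cls u ≠ 0) ∧ ∀ d e : F, e ≠ 0 → ∃ c, c ≠ 0 ∧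
      algebraMap F L (ρ e) * (M1 * cls (f (u * zc (d + e))) / cls u) +
        algebraMap F L (ρ c) * (M1 * cls (f (u * zc (s - d + c))) / cls u) = 1 := by
  refine ⟨fun y => div_ne_zero (mul_ne_zero hM0 (S.cls_f_ne (mul_mem hu (S.zU y))
    (by rwa [S.cls_mul_zc hu]))) hc, fun d e he => ?_⟩
  obtain ⟨c, hc0, h⟩ := S.row_eqn (M := fun x => M1 * (ρ x : L)) hκ0 hκ hg hM hu hc hs d he
  refine ⟨c, hc0, ?_⟩
  show (ρ e : L) * _ + (ρ c : L) * _ = 1
  field_simp
  linear_combination h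

theorem exists_nsys : ∃ zc' χ' κ M1, NSys a b U H p n j t F cls zc' μ χ' f g k κ M1 := by
  obtain ⟨κ, hκ0, hκ⟩ := S.exists_κ
  have hfz := fun x hx => (hκ x hx).1
  have hgz := fun x hx => (hκ x hx).2.1
  obtain ⟨ρ, hρ, hmul, hval⟩ := S.exists_ρ
  obtain ⟨M1, hM0, hMq, hMsq, hM⟩ := S.exists_M hκ0 hfz hρ hmul hval
  obtain ⟨u, hu, hu1⟩ := S.X.cls_surj 1
  have hc : cls u ≠ 0 := by rw [hu1]; exact one_ne_zero
  obtain ⟨s, hs⟩ := S.exists_shift hu
  obtain ⟨hne, hA⟩ := S.row_hA hκ0 hfz hgz hM0 hM hu hc hs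
  have hadd := (row_shape S.card_sq S.two_ne' ρ hρ hmul _ hne s hA).1
  have hρ0 : ρ 0 = 0 := by
    have := hadd 0 0
    rwa [add_zero, left_eq_add] at this
  let er := Equiv.ofBijective ρ hρ
  have hri : ∀ x, ρ (er.symm x) = x := er.apply_symm_apply
  have hir : ∀ x, er.symm (ρ x) = x := er.symm_apply_apply
  have hri0 : ∀ {x}, x ≠ 0 → er.symm x ≠ 0 := fun {x} hx e => hx (by rw [← hri x, e, hρ0])
  have hdiv : ∀ x : F, x ≠ 0 → er.symm (ρ κ / x) = κ / er.symm x := fun x hx => by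
    apply hρ.1
    have h := hmul (κ / er.symm x) (er.symm x)
    rw [div_mul_cancel₀ _ (hri0 hx), hri] at h
    rw [hri, div_eq_iff hx, h]
  refine ⟨fun x => zc (er.symm x), fun h => ρ (χ h), ρ κ, M1,
    ⟨⟨S.C, { S.X with
        zc_mem := fun x => S.X.zc_mem _
        zc_add := fun x y => by
          rw [← S.X.zc_add]
          congr 1
          apply hρ.1
          rw [hadd, hri, hri, hri]
        zc_surj := fun z hz => by
          obtain ⟨x, rfl⟩ := S.X.zc_surj z hz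
          exact ⟨ρ x, by rw [hir]⟩
        zc_inj := fun x y h => er.symm.injective (S.X.zc_inj h)
        χ_mul := fun g hg h hh => by rw [S.X.χ_mul g hg h hh, hmul]
        zc_conj := fun h hh x => by
          rw [S.X.zc_conj h hh]
          congr 1
          apply hρ.1
          rw [hmul, hri, hri]
        χ_surj := fun x hx => by
          obtain ⟨h, hh, e⟩ := S.X.χ_surj _ (hri0 hx)
          exact ⟨h, hh, by rw [e, hri]⟩ }, S.f_mem, S.g_mem, S.k_mem, S.eqn⟩, ?_, ?_, ?_, hval, hM0, hMq,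
      hMsq, ?_⟩⟩
  · exact fun e => hκ0 (hρ.1 (e.trans hρ0.symm))
  · intro x hx
    rw [hfz _ (hri0 hx), hdiv x hx]
  · intro x hx
    rw [hgz _ (hri0 hx), hdiv x hx]
  · intro x hx
    rw [hM _ (hri0 hx), hri]

end Sys

namespace NSys

variable {a b : Ω} {κ : F} {M1 : L} (N : NSys a b U H p n j t F cls zc μ χ f g k κ M1)
include N

theorem not_mem_F_iff {D : L} : D ∈ Set.range (algebraMap F L) ↔ D ∈ F :=
  ⟨fun ⟨x, hx⟩ => hx ▸ x.2, fun h => ⟨⟨D, h⟩, rfl⟩⟩

theorem row {u : G} (hu : u ∈ U) (hc : cls u ≠ 0) {s : F} (hs : u⁻¹ = j * u * j⁻¹ * zc s) :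
    ∃ (D : L) (P0 : F), D ∉ F ∧ ∀ y : F, (y - s / 2) ^ 2 + P0 ≠ 0 ∧
      M1 * cls (f (u * zc y)) / cls u = (((y - s / 2 : F) : L) + D) / (((y - s / 2) ^ 2 + P0 : F) : L) := by
  have hM : ∀ x : F, x ≠ 0 → (μ (k (zc x)))⁻¹ = M1 * ((id x : F) : L) := N.M_z
  obtain ⟨hne, hA⟩ := N.S.row_hA N.hκ0 N.fz N.gz N.M_ne hM hu hc hs
  obtain ⟨D, P0, hD, h⟩ := (row_shape N.S.card_sq N.S.two_ne' id Function.bijective_id
    (fun _ _ => rfl) _ hne s hA).2 fun _ => rfl
  exact ⟨D, P0, fun e => hD (N.not_mem_F_iff.2 e), fun y => h y⟩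

/-- The row of an element inverted by `j`. -/
theorem base_row {u : G} (hu : u ∈ U) (hc : cls u ≠ 0) (hs : u⁻¹ = j * u * j⁻¹) :
    ∃ D : L, D ∉ F ∧ D ^ p ^ n = -D ∧
      ∀ y : F, cls (f (u * zc y)) * (M1 * ((y : L) - D)) = cls u := by
  have hu1 := N.S.ne_one_of_cls hc
  have h2 := N.S.two_ne'
  obtain ⟨D, P0, hD, hrow⟩ := N.row hu hc (s := 0) (by rw [N.S.zc_zero, mul_one, hs])
  simp only [zero_div, sub_zero] at hrow
  push_cast at hrow
  have hP0 : P0 ≠ 0 := by simpa using (hrow 0).1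
  have hD0 : D ≠ 0 := fun e => hD (e ▸ zero_mem F)
  have hP0L : (P0 : L) ≠ 0 := by simpa using hP0
  have hκL : (κ : L) ≠ 0 := by simpa using N.hκ0
  have hfc := N.S.cls_f_ne hu hc
  have hφ0 : M1 * cls (f u) * (P0 : L) = D * cls u := by
    have h := (hrow 0).2
    rw [N.S.zc_zero, mul_one] at h
    simp only [ZeroMemClass.coe_zero, zero_add, ne_eq, OfNat.ofNat_ne_zero, not_false_eq_true,
      zero_pow] at h
    rw [div_eq_div_iff hc hP0L] at h
    linear_combination h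
  -- the row of `f u`
  obtain ⟨hff, hkf, hgf⟩ := N.S.ff_rule hu hu1
  have hP' : ∀ y : F, y ^ 2 + κ ^ 2 / P0 ≠ 0 := fun y e => by
    by_cases hy : y = 0
    · simp [hy, N.hκ0, hP0] at e
    · refine (hrow (κ / y)).1 ?_
      field_simp at e ⊢
      linear_combination e
  have hfrow : ∀ y : F, M1 * cls (f (f u * zc y)) / cls (f u) =
      ((y : L) + κ / D) / ((y : L) ^ 2 + (κ : L) ^ 2 / P0) := by
    intro y
    by_cases hy : y = 0
    · subst hy
      rw [N.S.zc_zero, mul_one, hff]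
      simp only [ZeroMemClass.coe_zero, zero_add, ne_eq, OfNat.ofNat_ne_zero, not_false_eq_true,
        zero_pow]
      field_simp
      linear_combination (-(M1 * (κ : L))) * hφ0 + (cls (f u) * (P0 : L)) * N.M_sq
    · have he : κ / y ≠ 0 := div_ne_zero N.hκ0 hy
      have h := N.S.cls_f_f_mul_zc N.fz N.gz hu hc he
      rw [N.M_z _ he, show κ / (κ / y) = y from div_div_cancel₀ N.hκ0] at h
      have h' := (hrow (κ / y)).2
      have hden := (hrow (κ / y)).1
      have hyL : (y : L) ≠ 0 := by simpa using hy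
      have hden' : ((κ : L) / y) ^ 2 + P0 ≠ 0 := fun e => hden (Subtype.ext (by push_cast; exact e))
      have hP'L : (y : L) ^ 2 + (κ : L) ^ 2 / P0 ≠ 0 := fun e => hP' y (Subtype.ext (by push_cast; exact e))
      push_cast at h h'
      rw [h]
      rw [div_eq_div_iff hfc hP'L]
      rw [div_eq_div_iff hc hden'] at h'
      obtain ⟨r, hr⟩ : ∃ r, r = (κ : L) / y := ⟨_, rfl⟩
      have hry : r * (y : L) = κ := by rw [hr, div_mul_cancel₀ _ hyL]
      rw [← hr] at h' ⊢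
      have e1 : (P0 : L) * ((y : L) ^ 2 + (κ : L) ^ 2 / P0) = P0 * (y : L) ^ 2 + (κ : L) ^ 2 := by
        field_simp
      have e2 : D * ((y : L) + (κ : L) / D) = D * y + κ := by field_simp
      refine mul_left_cancel₀ (mul_ne_zero hP0L hD0) ?_
      linear_combination (D * M1 * r * (y : L) ^ 2) * h'
        + (D * M1 * cls u * ((κ : L) + r * y + D * y)
            - D * M1 ^ 2 * r * cls (f (u * zc (κ / y))) * (r * y + κ)) * hry
        + ((κ : L) + D * y) * (P0 * cls (f u)) * N.M_sq - ((κ : L) + D * y) * M1 * κ * hφ0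
        + (D * M1 * (M1 * r * cls (f (u * zc (κ / y))))) * e1 - ((P0 : L) * cls (f u)) * e2
  obtain ⟨s', hs'⟩ := N.S.exists_shift (N.S.f_mem u)
  obtain ⟨D'', P'', hD'', hrow'⟩ := N.row (N.S.f_mem u) hfc hs'
  have hκD : ((κ : L) / D) ∉ F := fun e => hD (by
    have := F.div_mem κ.2 e
    rwa [div_div_cancel₀ hκL] at this)
  have ht : s' / 2 = 0 := centre_eq (L := L) h2 (P := κ ^ 2 / P0) (P' := P'') (D := κ / D) (D' := D'')
    (fun e => hκD (N.not_mem_F_iff.1 e)) (div_ne_zero (pow_ne_zero _ N.hκ0) hP0) (fun y => by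
      have h1 := (hfrow y).symm.trans (hrow' y).2
      rw [div_eq_div_iff (fun e => hP' y (Subtype.ext (by push_cast; exact e)))
        (fun e => (hrow' y).1 (Subtype.ext e))] at h1
      show ((y : L) + κ / D) * (((y - s' / 2) ^ 2 + P'' : F) : L) =
        (((y - s' / 2 : F) : L) + D'') * ((y ^ 2 + κ ^ 2 / P0 : F) : L)
      push_cast at h1 ⊢
      linear_combination h1)
  have hgu : g u = f u := by
    have hs0 : s' = 0 := by simpa [h2] using ht
    rw [hs0, N.S.zc_zero, mul_one] at hs'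
    have e := (N.S.inv_rule hu hu1).1
    rw [hs, (N.S.conj_rule N.S.X.T.jH hu hu1).1, N.S.tjt, ← hs', inv_inj] at e
    exact e.symm
  -- (II) at two points
  obtain ⟨lam, hlam⟩ : ∃ lam, lam = μ (k u) / (M1 * (κ : L)) := ⟨_, rfl⟩
  have hII : ∀ y : F, y ≠ 0 → (y : L) + D ≠ 0 →
      1 = D * (y : L) / P0 + lam * ((y : L) + D) := by
    intro y hy hyD
    have h := N.S.cls_f_mul_zc N.fz hu hc hy
    rw [hgu] at h
    have h1 := (hrow y).2
    have h3 := hfrow (κ / y)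
    have hyL : (y : L) ≠ 0 := by simpa using hy
    have hden : (y : L) ^ 2 + P0 ≠ 0 := fun e => (hrow y).1 (Subtype.ext (by push_cast; exact e))
    push_cast at h h3
    have a1 := h1
    rw [div_eq_div_iff hc hden] at a1
    have h3' : M1 * cls (f (f u * zc (κ / y))) / cls (f u) =
        (y : L) * P0 * (D + y) / ((κ : L) * D * ((y : L) ^ 2 + P0)) := by
      rw [h3]
      have hden2 : (P0 : L) + (y : L) ^ 2 ≠ 0 := by rwa [add_comm]
      field_simp
      ring
    rw [div_eq_div_iff hfc (mul_ne_zero (mul_ne_zero hκL hD0) hden)] at h3'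
    have hE : M1 * κ * P0 * (y : L) = M1 * κ * D * (y : L) ^ 2 + μ (k u) * y * P0 * (D + y) := by
      refine mul_right_cancel₀ hfc ?_
      linear_combination (-((κ : L) * D)) * a1 + (κ : L) * ((y : L) + D) * hφ0
        + (M1 * κ * D * ((y : L) ^ 2 + P0)) * h + μ (k u) * h3'
    have hcoef : M1 * (κ : L) * P0 * y ≠ 0 :=
      mul_ne_zero (mul_ne_zero (mul_ne_zero N.M_ne hκL) hP0L) hyL
    refine mul_left_cancel₀ hcoef ?_
    have hMne := N.M_ne
    rw [hlam, mul_one, show M1 * (κ : L) * P0 * y * (D * y / P0 + μ (k u) / (M1 * κ) * (y + D))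
      = M1 * κ * D * (y : L) ^ 2 + μ (k u) * y * P0 * (D + y) by field_simp; ring]
    exact hE
  have hyne : ∀ y : F, (y : L) + D ≠ 0 := fun y e => hD (by
    rw [show D = -(y : L) by linear_combination e]; exact F.neg_mem y.2)
  have hp1 := hII 1 one_ne_zero (hyne 1)
  have hm1 := hII (-1) (neg_ne_zero.2 one_ne_zero) (hyne _)
  push_cast at hp1 hm1
  have hDsq : D ^ 2 = -(P0 : L) := by
    have h2L := N.S.X.two_ne
    field_simp at hp1 hm1
    refine mul_left_cancel₀ h2L ?_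
    linear_combination (D + 1) * hm1 - (D - 1) * hp1
  refine ⟨D, hD, ?_, fun y => ?_⟩
  · have hodd : Odd (p ^ n) := (N.S.C.prime.odd_of_ne_two N.S.C.odd).pow
    have h1 : (D ^ p ^ n) ^ 2 = D ^ 2 := by
      rw [← pow_mul, mul_comm, pow_mul, hDsq, hodd.neg_pow, (N.S.X.memF _).1 P0.2]
    rcases sq_eq_sq_iff_eq_or_eq_neg.1 h1 with e | e
    · exact absurd ((N.S.X.memF D).2 e) hD
    · exact e
  · have h := (hrow y).2
    have hfac : (y : L) ^ 2 + P0 = ((y : L) + D) * ((y : L) - D) := by linear_combination hDsq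
    rw [hfac, div_eq_div_iff hc (mul_ne_zero (hyne y) (sub_ne_zero.2 fun e => hD (by rw [← e]; exact y.2)))] at h
    refine mul_left_cancel₀ (hyne y) ?_
    linear_combination h

end NSys

end Cfsg.Agent.H36.OddU3
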