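import Cfsg.Agent.H36.OddU3.Values
import Cfsg.Agent.H36.OddU3.Coords

/-!
The structure of `U`: the centre, the quotient, and their coordinates.
-/

set_option autoImplicit false
set_option linter.unusedSectionVars false
set_option linter.style.haveILetI false

namespace Cfsg.Agent.H36.OddU3

open MulAction

variable {G Ω : Type*} [Group G] [Finite G] [MulAction G Ω] [FaithfulSMul G Ω] {a b : Ω}
  {U H : Subgroup G} {p n : ℕ} {j t : G}

/-- The pointwise stabiliser of the line in the two-point stabiliser. -/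
def Kz (U H : Subgroup G) (j : G) : Subgroup G :=
  H ⊓ Subgroup.centralizer (Cen U j : Set G)

theorem mem_Kz {h : G} : h ∈ Kz U H j ↔ h ∈ H ∧ ∀ z ∈ Cen U j, h * z = z * h := by
  rw [Kz, Subgroup.mem_inf, Subgroup.mem_centralizer_iff]
  exact and_congr_right fun _ => ⟨fun h z hz => (h z hz).symm, fun h z hz => (h z hz).symm⟩

namespace Cfg

variable (C : Cfg G Ω a b U H p n)
include C

theorem q_three : 3 ≤ p ^ n :=
  C.three_le.trans (Nat.le_self_pow (show n ≠ 0 by have := C.one_le; omega) p)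

theorem exists_mem_ne_one (T : TorusData a b U H p n j t) : ∃ z ∈ Cen U j, z ≠ 1 := by
  haveI : Nontrivial (Cen U j) := Finite.one_lt_card_iff_nontrivial.1 (by
    rw [T.cardZ]; have := C.q_three; omega)
  obtain ⟨z, hz⟩ := exists_ne (1 : Cen U j)
  exact ⟨z, z.2, fun e => hz (Subtype.ext e)⟩

theorem Z_conj (T : TorusData a b U H p n j t) {h z : G} (hh : h ∈ H) (hz : z ∈ Cen U j) :
    h * z * h⁻¹ ∈ Cen U j :=
  mem_Cen.2 ⟨C.conj h hh z (mem_Cen.1 hz).1,
    conj_mem_centralizer_singleton (C.H_comm T.jH hh) (mem_Cen.1 hz).2⟩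

/-- A non-trivial element of the line stabiliser fixes only the line. -/
theorem Cen_eq_of_Kz (T : TorusData a b U H p n j t) {x : G} (hx : x ∈ Kz U H j) (x1 : x ≠ 1) :
    Cen U x = Cen U j := by
  obtain ⟨hxH, hxZ⟩ := mem_Kz.1 hx
  refine (Subgroup.eq_of_le_of_card_ge (fun z hz => mem_Cen.2 ⟨(mem_Cen.1 hz).1, hxZ z hz⟩) ?_).symm
  rw [T.cardZ]
  exact C.Cen_le hxH x1

theorem card_Kz (T : TorusData a b U H p n j t) {d : ℕ} (hd : Nat.card H = (p ^ n - 1) * d) :
    Nat.card (Kz U H j) = d := by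
  rw [← T.cardK d hd]
  exact Nat.card_congr
    { toFun := fun h => ⟨⟨h, (mem_Kz.1 h.2).1⟩, (mem_Kz.1 h.2).2⟩
      invFun := fun h => ⟨h.1, mem_Kz.2 ⟨h.1.2, h.2⟩⟩
      left_inv := fun _ => rfl
      right_inv := fun _ => rfl }

theorem mem_Kz_of_pow (T : TorusData a b U H p n j t) {d : ℕ} (hd : Nat.card H = (p ^ n - 1) * d)
    {h : G} (hh : h ∈ H) (hp : h ^ d = 1) : h ∈ Kz U H j := by
  haveI := C.cyclic
  haveI : IsCyclic (Kz U H j) := Subgroup.isCyclic_of_le inf_le_left
  obtain ⟨k, hk⟩ : ∃ k : Kz U H j, ∀ y : Kz U H j, y ∈ Subgroup.zpowers k := IsCyclic.exists_generator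
  have ho : orderOf (k : G) = d := by
    rw [Subgroup.orderOf_coe, orderOf_eq_card_of_forall_mem_zpowers hk, C.card_Kz T hd]
  obtain ⟨i, hi⟩ := Subgroup.mem_zpowers_iff.1
    (C.zpowers_eq_of_order (mem_Kz.1 k.2).1 hh (by rw [ho, hp]))
  exact hi ▸ Subgroup.zpow_mem _ k.2 i

/-- Subgroups of `U` invariant under `H`. -/
theorem invariant_dichotomy (T : TorusData a b U H p n j t) (X : Subgroup G) (hXU : X ≤ U)
    (hinv : ∀ h ∈ H, ∀ u ∈ X, h * u * h⁻¹ ∈ X) :
    X ≤ Cen U j ∨ Nat.card X = Nat.card (X ⊓ Cen U j : Subgroup G) * p ^ (2 * n) := by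
  haveI := Fact.mk C.prime
  obtain ⟨g', d, hg', -, hde, hdg, hm⟩ := C.cardH_fact
  have hK := C.card_Kz T hm
  obtain ⟨e, he, hXe⟩ := (Nat.dvd_prime_pow C.prime).1
    (show Nat.card X ∣ p ^ (n * 3) by
      rw [pow_mul, ← C.cardU]; exact Subgroup.card_dvd_of_le hXU)
  obtain ⟨c, hcn, hXc⟩ := (Nat.dvd_prime_pow C.prime).1
    (show Nat.card (X ⊓ Cen U j : Subgroup G) ∣ p ^ n by
      rw [← T.cardZ]; exact Subgroup.card_dvd_of_le inf_le_right)
  have hce : c ≤ e := by
    have := Nat.le_of_dvd Nat.card_pos (Subgroup.card_dvd_of_le (inf_le_left : X ⊓ Cen U j ≤ X))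
    rw [hXe, hXc] at this
    exact (Nat.pow_le_pow_iff_right C.prime.one_lt).1 this
  have hfull : e = n * 3 → c = n := by
    intro h
    have hXU' : X = U := Subgroup.eq_of_le_of_card_ge hXU (by rw [hXe, h, pow_mul, C.cardU])
    have : X ⊓ Cen U j = Cen U j := inf_eq_right.2 (hXU' ▸ inf_le_left)
    rw [this, T.cardZ] at hXc
    exact (Nat.pow_right_injective C.prime.two_le hXc).symm
  suffices key : e = c ∨ e = c + 2 * n by
    rcases key with h | h
    · left
      have : X ⊓ Cen U j = X := Subgroup.eq_of_le_of_card_ge inf_le_left (by rw [hXe, hXc, h])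
      exact this ▸ inf_le_right
    · right
      rw [hXe, hXc, h, pow_add]
  rcases Nat.lt_or_ge n 2 with hn | hn
  · obtain rfl : n = 1 := by have := C.one_le; omega
    by_contra hne
    push Not at hne
    have hcase : e = c + 1 := by
      by_cases h3 : e = 3
      · have := hfull (by omega); omega
      · omega
    -- an element of the line stabiliser which is a `(p - 1)`-st power
    haveI := C.cyclic
    obtain ⟨h0, hh0⟩ : ∃ h0 : H, ∀ y : H, y ∈ Subgroup.zpowers h0 := IsCyclic.exists_generator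
    have ho : orderOf (h0 : G) = Nat.card H := by
      rw [Subgroup.orderOf_coe, orderOf_eq_card_of_forall_mem_zpowers hh0]
    rw [pow_one] at hm
    set h1 := (h0 : G) ^ (p - 1) with hh1
    have h1K : h1 ∈ Kz U H j := C.mem_Kz_of_pow T (by rw [pow_one]; exact hm)
      (Subgroup.pow_mem _ h0.2 _) (by rw [hh1, ← pow_mul, ← hm, ← ho, pow_orderOf_eq_one])
    have h11 : h1 ≠ 1 := by
      intro h'
      have h3 := Nat.le_of_dvd (by have := C.three_le; omega) (orderOf_dvd_of_pow_eq_one (hh1 ▸ h'))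
      rw [ho, hm] at h3
      have hd2 : 2 ≤ d := by
        obtain ⟨w, hw⟩ := hde
        rcases Nat.eq_zero_or_pos d with h | h
        · rw [h, mul_zero] at hdg; simp at hdg
        · omega
      have := C.three_le
      have := Nat.mul_le_mul_left (p - 1) hd2
      omega
    have hX2 : ∀ u ∈ X, ∀ v ∈ X, u * v = v * u := by
      intro u hu v hv
      have key : ∀ k, k ≤ 2 → Nat.card X = p ^ k → IsMulCommutative X := by
        intro k hk hc
        rcases hk.lt_or_eq with h | rfl
        · haveI : IsCyclic X := by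
            rcases Nat.lt_or_ge k 1 with h' | h'
            · haveI : Subsingleton X := Finite.card_le_one_iff_subsingleton.1 (by
                rw [hc, show k = 0 by omega, pow_zero])
              exact inferInstance
            · exact isCyclic_of_prime_card (p := p) (by rw [hc, show k = 1 by omega, pow_one])
          exact IsCyclic.isMulCommutative
        · exact IsPGroup.isMulCommutative_of_card_eq_prime_sq hc
      haveI := key e (by omega) hXe
      exact congrArg Subtype.val (mul_comm' (⟨u, hu⟩ : X) ⟨v, hv⟩)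
    have hjinv : j⁻¹ = j := inv_eq_of_orderOf_two T.j_ord
    let Y : Subgroup G :=
      { carrier := {u | u ∈ X ∧ j * u * j⁻¹ = u⁻¹}
        one_mem' := ⟨one_mem X, by simp⟩
        mul_mem' := fun {u v} hu hv => ⟨mul_mem hu.1 hv.1, by
          rw [show j * (u * v) * j⁻¹ = (j * u * j⁻¹) * (j * v * j⁻¹) by group, hu.2, hv.2,
            ← mul_inv_rev, hX2 v hv.1 u hu.1]⟩
        inv_mem' := fun {u} hu => ⟨inv_mem hu.1, by
          rw [show j * u⁻¹ * j⁻¹ = (j * u * j⁻¹)⁻¹ by group, hu.2]⟩ }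
    have hYX : Y ≤ X := fun u hu => hu.1
    have hYinv : ∀ h ∈ H, ∀ u ∈ Y, h * u * h⁻¹ ∈ Y := fun h hh u hu => ⟨hinv h hh u hu.1, by
      have hjh := C.H_comm T.jH hh
      calc j * (h * u * h⁻¹) * j⁻¹ = (j * h) * u * (j * h)⁻¹ := by group
        _ = (h * j) * u * (h * j)⁻¹ := by rw [hjh]
        _ = h * (j * u * j⁻¹) * h⁻¹ := by group
        _ = _ := by rw [hu.2]; group⟩
    have hYZ : ∀ u ∈ Y, u ∈ Cen U j → u = 1 := by
      intro u hu hz
      have h1' : j * u * j⁻¹ = u := by rw [(mem_Cen.1 hz).2, mul_inv_cancel_right]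
      rw [hu.2] at h1'
      have hsq : u ^ 2 = 1 := by
        rw [sq]; nth_rw 1 [← h1']; rw [inv_mul_cancel]
      have hp2 : Nat.Coprime 2 p := (Nat.coprime_primes Nat.prime_two C.prime).2 (Ne.symm C.odd)
      have hpu := T.Zexp u hz
      have := pow_gcd_eq_one.2 ⟨hsq, hpu⟩
      rwa [hp2.gcd_eq_one, pow_one] at this
    have hY : ∀ u ∈ Y, u = 1 := by
      intro u hu
      by_contra hu1
      have hYcard : Nat.card Y = p := by
        obtain ⟨f, hf, hYf⟩ := (Nat.dvd_prime_pow C.prime).1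
          (show Nat.card Y ∣ p ^ e by rw [← hXe]; exact Subgroup.card_dvd_of_le hYX)
        have hf0 : f ≠ 0 := fun h => hu1 ((Subgroup.eq_bot_iff_card _).2 (by rw [hYf, h, pow_zero]) ▸ hu
          |> Subgroup.mem_bot.1)
        rcases hf.lt_or_eq with hlt | rfl
        · rw [hYf, show f = 1 by omega, pow_one]
        · have hXY : Y = X := Subgroup.eq_of_le_of_card_ge hYX (by rw [hYf, hXe])
          rcases Nat.eq_zero_or_pos c with hc0 | hc0
          · rw [hYf, hcase, hc0, zero_add, pow_one]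
          · exfalso
            obtain ⟨z, hz⟩ : ∃ z : (X ⊓ Cen U j : Subgroup G), z ≠ 1 := by
              haveI : Nontrivial (X ⊓ Cen U j : Subgroup G) := Finite.one_lt_card_iff_nontrivial.1
                (by rw [hXc]; exact Nat.one_lt_pow (by omega) C.prime.one_lt)
              obtain ⟨z, hz⟩ := exists_ne (1 : (X ⊓ Cen U j : Subgroup G))
              exact ⟨z, hz⟩
            exact hz (Subtype.ext (hYZ _ (by rw [hXY]; exact z.2.1) z.2.2))
      -- `h1` centralises `Y`
      haveI : Fact (Nat.card Y).Prime := ⟨hYcard ▸ C.prime⟩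
      have hgen : ∀ v ∈ Y, v ∈ Subgroup.zpowers u := by
        intro v hv
        have : Subgroup.zpowers u = Y := Subgroup.eq_of_le_of_card_ge (Subgroup.zpowers_le.2 hu) (by
          rw [Nat.card_zpowers]
          refine le_of_eq (orderOf_eq_prime ?_ hu1).symm |>.trans' (le_of_eq rfl)
          have := pow_card_eq_one' (x := (⟨u, hu⟩ : Y))
          exact congrArg Subtype.val this)
        rw [this]; exact hv
      obtain ⟨i, hi⟩ := Subgroup.mem_zpowers_iff.1 (hgen _ (hYinv h0 h0.2 u hu))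
      have hou : orderOf u = p := orderOf_eq_prime (by
        have := congrArg Subtype.val (pow_card_eq_one' (x := (⟨u, hu⟩ : Y)))
        rw [hYcard] at this; exact this) hu1
      have hiter : ∀ k : ℕ, (h0 : G) ^ k * u * ((h0 : G) ^ k)⁻¹ = u ^ (i ^ k) := by
        intro k
        induction k with
        | zero => simp
        | succ k ih =>
          rw [pow_succ', pow_succ' i, zpow_mul, hi, conj_zpow, ← ih]
          group
      have hpi : ¬ (p : ℤ) ∣ i := by
        rintro ⟨w, rfl⟩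
        rw [zpow_mul, zpow_natCast, ← hou, pow_orderOf_eq_one, one_zpow] at hi
        exact hu1 (conj_eq_one_iff.1 hi.symm)
      have hfer : u ^ (i ^ (p - 1)) = u := by
        conv_rhs => rw [← zpow_one u]
        rw [zpow_eq_zpow_iff_modEq, hou]
        refine Int.ModEq.pow_card_sub_one_eq_one C.prime ?_
        exact ((Int.prime_iff_natAbs_prime.2 (by simpa using C.prime)).coprime_iff_not_dvd.2 hpi).symm
      refine hu1 (hYZ u hu ?_)
      rw [← C.Cen_eq_of_Kz T h1K h11, mem_Cen]
      refine ⟨hXU hu.1, mul_inv_eq_iff_eq_mul.1 ?_⟩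
      rw [hh1, hiter, hfer]
    have : X ≤ Cen U j := by
      intro u hu
      have hju : j * u * j⁻¹ ∈ X := hinv j T.jH u hu
      have hv := hY (u⁻¹ * (j * u * j⁻¹)) ⟨mul_mem (inv_mem hu) hju, by
        rw [hjinv]
        have hjj : j * j = 1 := by nth_rw 1 [← hjinv]; rw [inv_mul_cancel]
        simp only [mul_inv_rev, inv_inv, hjinv, mul_assoc, hjj, mul_one]⟩
      refine mem_Cen.2 ⟨hXU hu, mul_inv_eq_iff_eq_mul.1 ?_⟩
      exact (inv_mul_eq_one.1 hv).symm
    rw [inf_eq_left.2 this, hXe] at hXc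
    have := Nat.pow_right_injective C.prime.two_le hXc
    omega
  · obtain ⟨r, hr, hr5, hrp, hr1, hk⟩ := exists_prime C.prime C.odd hn
    haveI := Fact.mk hr
    have hrd : r ∣ d := by
      rcases hr.dvd_mul.1 (hdg.symm ▸ hr1 : r ∣ g' * d) with h | h
      · rcases hg' with e' | e' <;> rw [e'] at h
        · exact absurd h hr.not_dvd_one
        · exact absurd (Nat.le_of_dvd (by norm_num) h) (by omega)
      · exact h
    obtain ⟨⟨x, hxK⟩, hxr⟩ := exists_prime_orderOf_dvd_card' (G := Kz U H j) r (hK ▸ hrd)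
    rw [Subgroup.orderOf_mk] at hxr
    have hx1 : x ≠ 1 := fun h => by rw [h, orderOf_one] at hxr; exact hr.ne_one hxr.symm
    have hmod := card_modEq_fixed hr hxr X (hinv x (mem_Kz.1 hxK).1)
    have hfix : Cen X x = X ⊓ Cen U j := by
      rw [← C.Cen_eq_of_Kz T hxK hx1, Cen, Cen, ← inf_assoc, inf_eq_left.2 hXU]
    rw [hfix, hXe, hXc] at hmod
    rcases pow_eq_of_modEq C.prime.one_lt hk ((Nat.coprime_primes hr C.prime).2 hrp) hce
      (by omega) hmod with h | h
    · exact Or.inl h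
    · right
      by_contra hne
      -- then `p ^ (e - c - 2 n)` would again be congruent to one
      have hn2 : p ^ (2 * n + c) ≡ p ^ c [MOD r] := by
        refine Nat.ModEq.symm ((Nat.modEq_iff_dvd' (Nat.pow_le_pow_right C.prime.pos (by omega))).2 ?_)
        have h2 : p ^ (2 * n + c) - p ^ c = p ^ c * ((p ^ n + 1) * (p ^ n - 1)) := by
          rw [← Nat.sq_sub_sq, one_pow, Nat.mul_sub, mul_one, ← pow_mul, ← pow_add]
          ring_nf
        rw [h2]
        exact dvd_mul_of_dvd_right (dvd_mul_of_dvd_left hr1 _) _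
      rcases pow_eq_of_modEq C.prime.one_lt hk ((Nat.coprime_primes hr C.prime).2 hrp)
        (c := 2 * n + c) (a := e) (by omega) (by omega) (hmod.trans hn2.symm) with h' | h'
      · omega
      · omega

/-- The centraliser of the involution is central. -/
theorem Z_central (T : TorusData a b U H p n j t) {z u : G} (hz : z ∈ Cen U j) (hu : u ∈ U) :
    z * u = u * z := by
  classical
  haveI := Fact.mk C.prime
  set X := U ⊓ Subgroup.centralizer (U : Set G) with hX
  have hXinv : ∀ h ∈ H, ∀ x ∈ X, h * x * h⁻¹ ∈ X := by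
    intro h hh x hx
    refine ⟨C.conj h hh x hx.1, Subgroup.mem_centralizer_iff.2 fun v hv => ?_⟩
    have hv' : h⁻¹ * v * h ∈ U := by simpa using C.conj h⁻¹ (inv_mem hh) v hv
    have := Subgroup.mem_centralizer_iff.1 hx.2 _ hv'
    calc v * (h * x * h⁻¹) = h * ((h⁻¹ * v * h) * x) * h⁻¹ := by group
      _ = h * (x * (h⁻¹ * v * h)) * h⁻¹ := by rw [this]
      _ = _ := by group
  haveI : Nontrivial U := Finite.one_lt_card_iff_nontrivial.1 (by
    rw [C.cardU]; exact Nat.one_lt_pow (by norm_num) (by have := C.q_three; omega))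
  haveI := C.isPGroupU.center_nontrivial
  obtain ⟨⟨x0, hx0⟩, hx01⟩ := exists_ne (1 : Subgroup.center U)
  have hx0X : (x0 : G) ∈ X := ⟨x0.2, Subgroup.mem_centralizer_iff.2 fun v hv =>
    congrArg Subtype.val (Subgroup.mem_center_iff.1 hx0 ⟨v, hv⟩)⟩
  have hx0ne : (x0 : G) ≠ 1 := fun e => hx01 (Subtype.ext (Subtype.ext e))
  by_cases hmeet : ∃ w ∈ Cen U j, w ≠ 1 ∧ w ∈ X
  · obtain ⟨w, hw, hw1, hwX⟩ := hmeet
    by_cases hz1 : z = 1
    · rw [hz1, one_mul, mul_one]
    obtain ⟨h, hh, rfl⟩ := T.Ztrans w hw hw1 z hz hz1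
    exact (Subgroup.mem_centralizer_iff.1 (hXinv h hh w hwX).2 u hu).symm
  push Not at hmeet
  have hbot : ∀ w ∈ X, w ∈ Cen U j → w = 1 := fun w hw hw' => by
    by_contra h; exact hmeet w hw' h hw
  rcases C.invariant_dichotomy T X inf_le_left hXinv with h | h
  · exact absurd (hbot _ hx0X (h hx0X)) hx0ne
  · have h1 : Nat.card (X ⊓ Cen U j : Subgroup G) = 1 := (Subgroup.eq_bot_iff_card _).1
      ((Subgroup.eq_bot_iff_forall _).2 fun w hw => hbot w hw.1 hw.2)
    rw [h1, one_mul] at h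
    have hf : Function.Bijective (fun xz : X × Cen U j =>
        (⟨(xz.1 : G) * xz.2, mul_mem xz.1.2.1 (mem_Cen.1 xz.2.2).1⟩ : U)) := by
      refine (Nat.bijective_iff_injective_and_card _).2 ⟨?_, ?_⟩
      · rintro ⟨x, w⟩ ⟨x', w'⟩ e
        have e' : (x : G) * w = x' * w' := congrArg Subtype.val e
        have hcomm : (x' : G)⁻¹ * x = w' * (w : G)⁻¹ := by
          rw [eq_mul_inv_iff_mul_eq, mul_assoc, e', inv_mul_cancel_left]
        have h1' := hbot _ (mul_mem (inv_mem x'.2) x.2) (hcomm ▸ mul_mem w'.2 (inv_mem w.2))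
        have hx : x = x' := Subtype.ext (inv_mul_eq_one.1 h1').symm
        subst hx
        exact Prod.ext rfl (Subtype.ext (mul_left_cancel e'))
      · rw [Nat.card_prod, h, T.cardZ, C.cardU, ← pow_add, ← pow_mul]; congr 1; ring
    obtain ⟨⟨x, w⟩, hxw⟩ := hf.2 ⟨u, hu⟩
    have e : (x : G) * w = u := congrArg Subtype.val hxw
    rw [← e, ← mul_assoc, Subgroup.mem_centralizer_iff.1 x.2.2 z (mem_Cen.1 hz).1, mul_assoc,
      mul_assoc, T.Zcomm z hz w w.2]

end Cfg

end Cfsg.Agent.H36.OddU3
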