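import Cfsg.Agent.H36.OddU3.Coord

/-!
The maps `f`, `g`, `k` with `t x t = f x * k x * t * g x`, and their laws.
-/

set_option autoImplicit false
set_option linter.unusedSectionVars false
set_option linter.style.haveILetI false

namespace Cfsg.Agent.H36.OddU3

open MulAction

variable {G Ω : Type*} [Group G] [Finite G] [MulAction G Ω] [FaithfulSMul G Ω] {a b : Ω}
  {U H : Subgroup G} {p n : ℕ} {j t : G} {L : Type} [Field L] [Finite L] {F : Subfield L}
  {cls : G → L} {zc : F → G} {μ : G → L} {χ : G → F}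

/-- The configuration with its coordinates and the maps of the product formula. -/
structure Sys (a b : Ω) (U H : Subgroup G) (p n : ℕ) (j t : G) (F : Subfield L)
    (cls : G → L) (zc : F → G) (μ : G → L) (χ : G → F) (f g k : G → G) : Prop where
  C : Cfg G Ω a b U H p n
  X : Coord a b U H p n j t F cls zc μ χ
  f_mem : ∀ u, f u ∈ U
  g_mem : ∀ u, g u ∈ U
  k_mem : ∀ u, k u ∈ H
  eqn : ∀ u ∈ U, u ≠ 1 → t * u * t = f u * k u * t * g u

theorem exists_sys (C : Cfg G Ω a b U H p n) (X : Coord a b U H p n j t F cls zc μ χ) :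
    ∃ f g k, Sys a b U H p n j t F cls zc μ χ f g k := by
  classical
  have key : ∀ u : G, ∃ r : G × G × G, r.1 ∈ U ∧ r.2.1 ∈ U ∧ r.2.2 ∈ H ∧
      (u ∈ U → u ≠ 1 → t * u * t = r.1 * r.2.2 * t * r.2.1) := by
    intro u
    by_cases hu : u ∈ U ∧ u ≠ 1
    swap
    · exact ⟨(1, 1, 1), one_mem U, one_mem U, one_mem H, fun h1 h2 => absurd ⟨h1, h2⟩ hu⟩
    obtain ⟨hu, hu1⟩ := hu
    have hne : (t * u * t) • a ≠ a := by
      rw [mul_smul, mul_smul, X.T.ta]
      intro e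
      rw [← X.T.tb] at e
      have := smul_left_cancel t e
      exact hu1 (C.eq_of_smul hu (one_mem U) (by rw [this, one_smul]))
    obtain ⟨F', hF', hF'b⟩ := C.exists_u hne
    obtain ⟨e, he⟩ : ∃ e, e = t * (F'⁻¹ * (t * u * t)) := ⟨_, rfl⟩
    have hea : e • a = a := by rw [he, mul_smul, mul_smul, ← hF'b, inv_smul_smul, X.T.tb]
    have heb : e • b ≠ a := fun h => C.ab (smul_left_cancel e (hea.trans h.symm))
    obtain ⟨v, hv, hvb⟩ := C.exists_u heb
    have hh : v⁻¹ * e ∈ H := (C.H_iff _).2 ⟨by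
      rw [mul_smul, hea]
      exact inv_smul_eq_iff.2 (C.U_fix v hv).symm, by rw [mul_smul, ← hvb, inv_smul_smul]⟩
    refine ⟨(F', (v⁻¹ * e)⁻¹ * v * (v⁻¹ * e), t * (v⁻¹ * e) * t), hF', ?_, ?_, fun _ _ => ?_⟩
    · simpa using C.conj _ (inv_mem hh) v hv
    · rw [X.T.tconj _ hh]
      exact inv_mem (Subgroup.pow_mem _ hh _)
    · show t * u * t = F' * (t * (v⁻¹ * e) * t) * t * ((v⁻¹ * e)⁻¹ * v * (v⁻¹ * e))
      have ht : t * t = 1 := X.T.t_sq
      calc t * u * t = F' * (t * e) := by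
            rw [he, ← mul_assoc t t, ht, one_mul, mul_inv_cancel_left]
        _ = F' * (t * v * (v⁻¹ * e)) := by rw [mul_assoc t v, mul_inv_cancel_left]
        _ = _ := by rw [mul_assoc F' _ t, mul_assoc (t * _) t t, ht, mul_one]; group
  choose r h1 h2 h3 h4 using key
  exact ⟨fun u => (r u).1, fun u => (r u).2.1, fun u => (r u).2.2, ⟨C, X, h1, h2, h3, h4⟩⟩

namespace Sys

variable {a b : Ω} {f g k : G → G} (S : Sys a b U H p n j t F cls zc μ χ f g k)
include S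

theorem tt : t * t = 1 := S.X.T.t_sq

theorem tinv : t⁻¹ = t := inv_eq_of_mul_eq_one_right S.X.T.t_sq

theorem tHt {h : G} (hh : h ∈ H) : t * h * t ∈ H := by
  rw [S.X.T.tconj h hh]; exact inv_mem (Subgroup.pow_mem _ hh _)

theorem uniq {u F' G' K' : G} (hu : u ∈ U) (hu1 : u ≠ 1) (hF : F' ∈ U) (hG : G' ∈ U) (hK : K' ∈ H)
    (e : t * u * t = F' * K' * t * G') : f u = F' ∧ k u = K' ∧ g u = G' := by
  have e0 := S.eqn u hu hu1
  have hb : ∀ {F'' G'' K'' : G}, F'' ∈ U → G'' ∈ U → K'' ∈ H →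
      (F'' * K'' * t * G'') • a = F'' • b := by
    intro F'' G'' K'' _ hG'' hK''
    rw [mul_smul, S.C.U_fix _ hG'', mul_smul, S.X.T.ta, mul_smul, ((S.C.H_iff _).1 hK'').2]
  have e1 : f u = F' := S.C.eq_of_smul (S.f_mem u) hF (by
    rw [← hb (S.f_mem u) (S.g_mem u) (S.k_mem u), ← e0, e, hb hF hG hK])
  rw [e, e1, mul_assoc F' K', mul_assoc F' (k u), mul_assoc F', mul_assoc F', mul_right_inj] at e0
  have h1 : G' * (g u)⁻¹ = t * (K'⁻¹ * k u) * t := by
    rw [mul_inv_eq_iff_eq_mul]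
    calc G' = t * K'⁻¹ * (K' * t * G') := by
          simp only [mul_assoc]; rw [inv_mul_cancel_left, ← mul_assoc, S.tt, one_mul]
      _ = _ := by rw [e0]; group
  have hmem : G' * (g u)⁻¹ ∈ H := h1 ▸ S.tHt (mul_mem (inv_mem hK) (S.k_mem u))
  have h2 : G' * (g u)⁻¹ = 1 := S.C.eq_of_smul (mul_mem hG (inv_mem (S.g_mem u))) (one_mem U)
    (by rw [((S.C.H_iff _).1 hmem).2, one_smul])
  have hg : g u = G' := (mul_inv_eq_one.1 h2).symm
  rw [hg, mul_left_inj, mul_left_inj] at e0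
  exact ⟨e1, e0.symm, hg⟩

theorem f_ne_one {u : G} (hu : u ∈ U) (hu1 : u ≠ 1) : f u ≠ 1 := by
  intro e
  have h := S.eqn u hu hu1
  have : (t * u * t) • a = b := by
    rw [h, e, one_mul, mul_smul, S.C.U_fix _ (S.g_mem u), mul_smul, S.X.T.ta,
      ((S.C.H_iff _).1 (S.k_mem u)).2]
  rw [mul_smul, mul_smul, S.X.T.ta] at this
  nth_rw 2 [← S.X.T.ta] at this
  have h2 := smul_left_cancel t this
  exact S.C.ab ((smul_left_cancel u (h2.trans (S.C.U_fix u hu).symm)).symm)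

theorem conj_rule {h u : G} (hh : h ∈ H) (hu : u ∈ U) (hu1 : u ≠ 1) :
    f (h * u * h⁻¹) = (t * h * t) * f u * (t * h * t)⁻¹ ∧
      k (h * u * h⁻¹) = (t * h * t) * k u * h⁻¹ ∧
        g (h * u * h⁻¹) = (t * h * t) * g u * (t * h * t)⁻¹ := by
  refine S.uniq (S.C.conj h hh u hu) (fun e => hu1 (conj_eq_one_iff.1 e))
    (S.C.conj _ (S.tHt hh) _ (S.f_mem u)) (S.C.conj _ (S.tHt hh) _ (S.g_mem u))
    (mul_mem (mul_mem (S.tHt hh) (S.k_mem u)) (inv_mem hh)) ?_
  have e := S.eqn u hu hu1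
  calc t * (h * u * h⁻¹) * t = t * h * (t * t) * u * (t * t) * h⁻¹ * t := by
        rw [S.tt]; simp only [mul_assoc, one_mul]
    _ = (t * h * t) * (t * u * t) * (t * h⁻¹ * t) := by simp only [mul_assoc]
    _ = _ := by
      rw [e]
      simp only [mul_inv_rev, S.tinv, mul_assoc]
      simp only [← mul_assoc t t, S.tt, one_mul, inv_mul_cancel_left]

theorem inv_rule {u : G} (hu : u ∈ U) (hu1 : u ≠ 1) :
    f u⁻¹ = (g u)⁻¹ ∧ k u⁻¹ = t * (k u)⁻¹ * t ∧ g u⁻¹ = (f u)⁻¹ := by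
  refine S.uniq (inv_mem hu) (by simpa using hu1) (inv_mem (S.g_mem u)) (inv_mem (S.f_mem u))
    (S.tHt (inv_mem (S.k_mem u))) ?_
  have e := congrArg (·⁻¹) (S.eqn u hu hu1)
  simp only [mul_inv_rev, S.tinv] at e
  calc t * u⁻¹ * t = t * (u⁻¹ * t) := mul_assoc _ _ _
    _ = _ := by
      rw [e]
      simp only [mul_assoc]
      rw [← mul_assoc t t, S.tt, one_mul]

theorem ff_rule {u : G} (hu : u ∈ U) (hu1 : u ≠ 1) :
    f (f u) = u ∧ k (f u) = (k u)⁻¹ ∧
      g (f u) = (t * k u * t) * (g u)⁻¹ * (t * k u * t)⁻¹ := by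
  refine S.uniq (S.f_mem u) (S.f_ne_one hu hu1) hu
    (S.C.conj _ (S.tHt (S.k_mem u)) _ (inv_mem (S.g_mem u))) (inv_mem (S.k_mem u)) ?_
  have e := S.eqn u hu hu1
  have h1 : f u = t * u * t * (g u)⁻¹ * t * (k u)⁻¹ := by
    rw [e]
    simp only [mul_assoc, mul_inv_cancel_left]
    rw [← mul_assoc t t, S.tt, one_mul, mul_inv_cancel, mul_one]
  nth_rw 1 [h1]
  simp only [mul_inv_rev, S.tinv, mul_assoc]
  simp only [← mul_assoc t t, S.tt, one_mul, inv_mul_cancel_left]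

theorem mid_ne_one {u v : G} (hu : u ∈ U) (hu1 : u ≠ 1) (hv : v ∈ U) (hv1 : v ≠ 1) (huv : u * v ≠ 1) :
    g u * f v ≠ 1 := by
  intro e
  apply huv
  have e1 : t * (u * v) * t = f u * k u * (t * k v * t) * g v := by
    calc t * (u * v) * t = (t * u * t) * (t * v * t) := by
          simp only [mul_assoc]; rw [← mul_assoc t t, S.tt, one_mul]
      _ = _ := by
        rw [S.eqn u hu hu1, S.eqn v hv hv1]
        simp only [mul_assoc]
        rw [← mul_assoc (g u) (f v), e, one_mul]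
  have h1 : (t * (u * v) * t) • a = a := by
    rw [e1, mul_smul, S.C.U_fix _ (S.g_mem v), mul_smul, ((S.C.H_iff _).1 (S.tHt (S.k_mem v))).1,
      mul_smul, ((S.C.H_iff _).1 (S.k_mem u)).1, S.C.U_fix _ (S.f_mem u)]
  rw [mul_smul, mul_smul, S.X.T.ta] at h1
  exact S.C.eq_of_smul (mul_mem hu hv) (one_mem U)
    (by rw [smul_left_cancel t (h1.trans S.X.T.tb.symm), one_smul])

theorem mul_rule {u v : G} (hu : u ∈ U) (hu1 : u ≠ 1) (hv : v ∈ U) (hv1 : v ≠ 1) (huv : u * v ≠ 1) :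
    f (u * v) = f u * (k u * f (g u * f v) * (k u)⁻¹) ∧
      k (u * v) = k u * k (g u * f v) * k v := by
  obtain ⟨w, hw⟩ : ∃ w, w = g u * f v := ⟨_, rfl⟩
  rw [← hw]
  have hwU : w ∈ U := hw ▸ mul_mem (S.g_mem u) (S.f_mem v)
  have hw1 : w ≠ 1 := hw ▸ S.mid_ne_one hu hu1 hv hv1 huv
  obtain ⟨s, hs⟩ : ∃ s, s = t * k v * t := ⟨_, rfl⟩
  have hsH : s ∈ H := hs ▸ S.tHt (S.k_mem v)
  have hG : s⁻¹ * g w * s * g v ∈ U :=
    mul_mem (by simpa using S.C.conj _ (inv_mem hsH) _ (S.g_mem w)) (S.g_mem v)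
  have main := S.uniq (mul_mem hu hv) huv (F' := f u * (k u * f w * (k u)⁻¹))
    (K' := k u * k w * k v) (G' := s⁻¹ * g w * s * g v)
    (mul_mem (S.f_mem u) (S.C.conj _ (S.k_mem u) _ (S.f_mem w))) hG
    (mul_mem (mul_mem (S.k_mem u) (S.k_mem w)) (S.k_mem v)) (by
      have e1 : t * (u * v) * t = f u * k u * (t * w) * (k v * t) * g v := by
        calc t * (u * v) * t = (t * u * t) * (t * v * t) := by
              simp only [mul_assoc]; rw [← mul_assoc t t, S.tt, one_mul]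
          _ = _ := by rw [S.eqn u hu hu1, S.eqn v hv hv1, hw]; simp only [mul_assoc]
      have e2 : t * w = f w * k w * t * g w * t := by
        rw [← S.eqn w hwU hw1, mul_assoc, S.tt, mul_one]
      rw [e1, e2, hs]
      simp only [mul_inv_rev, S.tinv, mul_assoc, inv_mul_cancel_left]
      simp only [← mul_assoc t t, S.tt, one_mul, mul_inv_cancel_left])
  exact ⟨main.1, main.2.1⟩

end Sys

end Cfsg.Agent.H36.OddU3
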