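import Cfsg.Agent.H36.OddU3.Invol
import Cfsg.Agent.H36.OddU3.Aut

/-!
The line of the involution and the action of the two-point stabiliser on it.
-/

set_option autoImplicit false
set_option linter.unusedSectionVars false
set_option linter.style.haveILetI false

namespace Cfsg.Agent.H36.OddU3

open MulAction

/-- The sign of a permutation whose non-trivial cycles all have length `N`. -/
theorem sign_of_free {α : Type*} [Fintype α] [DecidableEq α] (σ : Equiv.Perm α) {N : ℕ}
    (hN : Even N) (hpow : σ ^ N = 1) (hfree : ∀ x i, σ x ≠ x → (σ ^ i) x = x → N ∣ i) :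
    ∃ k, σ.support.card = k * N ∧ Equiv.Perm.sign σ = (-1) ^ k := by
  have hct : ∀ ℓ ∈ σ.cycleType, ℓ = N := by
    intro ℓ hℓ
    obtain ⟨c, τ, hσ, hdis, hc, hcard⟩ := Equiv.Perm.mem_cycleType_iff.1 hℓ
    obtain ⟨x, hx⟩ : ∃ x, x ∈ c.support := Finset.nonempty_of_ne_empty
      (fun e => hc.ne_one (Equiv.Perm.support_eq_empty_iff.mp e))
    rw [Equiv.Perm.mem_support] at hx
    have hτx : τ x = x := (hdis x).resolve_left hx
    have hpw : ∀ i, (σ ^ i) x = (c ^ i) x := fun i => by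
      rw [hσ, hdis.commute.mul_pow, Equiv.Perm.mul_apply,
        Equiv.Perm.pow_apply_eq_self_of_apply_eq_self hτx]
    have hord : orderOf c = ℓ := by rw [hc.orderOf, hcard]
    have hσx : σ x ≠ x := by
      have := hpw 1
      rw [pow_one, pow_one] at this
      rw [this]; exact hx
    exact Nat.dvd_antisymm ((Equiv.Perm.dvd_of_mem_cycleType hℓ).trans (orderOf_dvd_of_pow_eq_one hpow))
      (hfree x ℓ hσx (by rw [hpw, ← hord, pow_orderOf_eq_one]; rfl))
  have hsum : σ.support.card = σ.cycleType.card * N := by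
    rw [← Equiv.Perm.sum_cycleType, Multiset.eq_replicate.2 ⟨rfl, hct⟩, Multiset.sum_replicate,
      Multiset.card_replicate, smul_eq_mul]
  refine ⟨σ.cycleType.card, hsum, ?_⟩
  rw [Equiv.Perm.sign_of_cycleType, Equiv.Perm.sum_cycleType, hsum, pow_add,
    (hN.mul_left _).neg_one_pow, one_mul]

theorem conj_mem_centralizer_singleton {G : Type*} [Group G] {h g x : G} (hc : h * g = g * h)
    (hx : h * x = x * h) : h * (g * x * g⁻¹) = g * x * g⁻¹ * h :=
  ((Commute.mul_right hc hx).mul_right (Commute.inv_right hc) : Commute h (g * x * g⁻¹))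

variable {G Ω : Type*} [Group G] [Finite G] [MulAction G Ω] [FaithfulSMul G Ω] {a b : Ω}
  {U H : Subgroup G} {p n : ℕ}

namespace Cfg

variable (C : Cfg G Ω a b U H p n)
include C

theorem cardH_fact : ∃ g d : ℕ, (g = 1 ∨ g = 3) ∧ g * Nat.card H = p ^ (2 * n) - 1 ∧ Even d ∧
    g * d = p ^ n + 1 ∧ Nat.card H = (p ^ n - 1) * d := by
  obtain ⟨g, hg, ⟨d, hd⟩, hcard⟩ := C.cardH
  refine ⟨g, d, hg, hcard, ?_, hd.symm, ?_⟩
  · have h : Even (p ^ n + 1) := ((C.prime.odd_of_ne_two C.odd).pow).add_one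
    rw [hd, Nat.even_mul] at h
    refine h.resolve_left ?_
    rcases hg with e | e <;> rw [e] <;> decide
  · refine Nat.eq_of_mul_eq_mul_left (by omega : 0 < g) ?_
    rw [hcard, mul_left_comm, ← hd, show p ^ (2 * n) = (p ^ n) ^ 2 by ring, mul_comm,
      ← Nat.sq_sub_sq, one_pow]

theorem not_dvd_cardH : ¬ p ∣ Nat.card H := by
  intro h
  obtain ⟨g, -, -, hcard⟩ := C.cardH
  have h1 : p ∣ p ^ (2 * n) - 1 := by rw [← hcard]; exact dvd_mul_of_dvd_right h _
  have h2 : p ∣ p ^ (2 * n) := dvd_pow_self p (by have := C.one_le; omega)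
  have h3 := Nat.dvd_sub h2 h1
  rw [Nat.sub_sub_self (Nat.one_le_pow _ _ C.prime.pos)] at h3
  exact C.prime.not_dvd_one h3

theorem sign_trivial (hs : IsSimpleGroup G) [Fintype Ω] [DecidableEq Ω] (g : G) :
    Equiv.Perm.sign (MulAction.toPermHom G Ω g) = 1 := by
  let φ := Equiv.Perm.sign.comp (MulAction.toPermHom G Ω)
  rcases hs.eq_bot_or_eq_top_of_normal φ.ker inferInstance with h | h
  · exfalso
    have hinj := (MonoidHom.ker_eq_bot_iff φ).1 h
    have h2 : Nat.card G ≤ 2 := (Nat.card_le_card_of_injective φ hinj).trans (le_of_eq (by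
      rw [Nat.card_eq_fintype_card, Fintype.card_units_int]))
    have h3 : Nat.card Ω ≤ Nat.card G := Nat.card_le_card_of_surjective (fun g : G => g • a) fun c => by
      by_cases hc : c = a
      · exact ⟨1, by simp [hc]⟩
      · obtain ⟨g, hg, -⟩ := C.exists_move hc
        exact ⟨g, hg⟩
    rw [C.card_Ω] at h3
    have : 27 ≤ (p ^ n) ^ 3 := by
      have h4 : 3 ≤ p ^ n := C.three_le.trans (Nat.le_self_pow (by have := C.one_le; omega) p)
      calc 27 = 3 ^ 3 := by norm_num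
        _ ≤ _ := Nat.pow_le_pow_left h4 3
    omega
  · exact MonoidHom.mem_ker.1 (h ▸ Subgroup.mem_top g : g ∈ φ.ker)

theorem Cen_le {h : G} (hh : h ∈ H) (h1 : h ≠ 1) : Nat.card (Cen U h) ≤ p ^ n := by
  obtain ⟨e, he3, he⟩ := C.exists_exponent hh h1
  rw [he]
  refine Nat.pow_le_pow_right C.prime.pos ?_
  by_contra hle
  obtain ⟨i, hi⟩ := exists_odd_mul_of_dvd C.three_le (by omega) _ (C.exponent_dvd hh he)
  rcases i with _ | i
  · omega
  · have : 3 * e ≤ e * (2 * (i + 1) + 1) := by nlinarith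
    omega

end Cfg

/-- The data of the line of the involution. -/
structure LineData {G Ω : Type*} [Group G] [MulAction G Ω] (a b : Ω) (U H : Subgroup G) (p n : ℕ)
    (j t : G) (A : ℕ) : Prop where
  jH : j ∈ H
  j_ord : orderOf j = 2
  cardZ : Nat.card (Cen U j) = p ^ n
  t_conj : IsConj j t
  ta : t • a = b
  tb : t • b = a
  t_sq : t * t = 1
  tj : t * j = j * t
  conjH : ∀ h ∈ H, t * h * t = h ^ A
  fixK : ∀ k ∈ H, (∀ z ∈ Cen U j, k * z = z * k) → t * k = k * t

namespace Cfg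

variable {a b : Ω} (C : Cfg G Ω a b U H p n)
include C

theorem exists_lineData : ∃ j t A, LineData a b U H p n j t A := by
  obtain ⟨j, hjH, hj⟩ := C.exists_invol
  have hZ := C.card_Cen_invol hjH hj
  haveI := C.cyclic
  obtain ⟨t, htc, hta⟩ : ∃ t, IsConj j t ∧ t • a = b := by
    have h := C.card_swappers hjH hj C.ab
    have : 0 < Nat.card {i : G // IsConj j i ∧ i • a = b} := by
      rw [h]
      have := C.three_le.trans (Nat.le_self_pow (show n ≠ 0 by have := C.one_le; omega) p)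
      omega
    obtain ⟨⟨t, ht⟩⟩ := (Nat.card_pos_iff.1 this).1
    exact ⟨t, ht⟩
  have hto : orderOf t = 2 := by
    obtain ⟨l, rfl⟩ := isConj_iff.1 htc
    rw [← MulAut.conj_apply, MulEquiv.orderOf_eq, hj]
  have htinv := inv_eq_of_orderOf_two hto
  have ht2 : t * t = 1 := by nth_rw 1 [← htinv]; rw [inv_mul_cancel]
  have htb : t • b = a := by rw [← hta, ← mul_smul, ht2, one_smul]
  have htH : ∀ h ∈ H, t * h * t ∈ H := fun h hh => by
    rw [C.H_iff, mul_smul, mul_smul, mul_smul, mul_smul, hta, htb, ((C.H_iff h).1 hh).1,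
      ((C.H_iff h).1 hh).2]
    exact ⟨htb, hta⟩
  obtain ⟨hja, hjb⟩ := (C.H_iff j).1 hjH
  have htj : t * j = j * t := by
    have hconj : IsConj j (t * j * t) := isConj_iff.2 ⟨t, by rw [htinv]⟩
    have := C.eq_of_invol hj hconj (IsConj.refl j) C.ab ((C.H_iff _).1 (htH j hjH)).1
      ((C.H_iff _).1 (htH j hjH)).2 hja hjb
    calc t * j = t * j * t * t := by rw [mul_assoc _ t t, ht2, mul_one]
      _ = j * t := by rw [this]
  obtain ⟨A, hA⟩ : ∃ A : ℕ, ∀ h ∈ H, t * h * t = h ^ A := by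
    obtain ⟨g0, hg0⟩ := IsCyclic.exists_monoid_generator (α := H)
    obtain ⟨A, hA⟩ := Submonoid.mem_powers_iff _ _ |>.1 (hg0 ⟨t * g0 * t, htH _ g0.2⟩)
    refine ⟨A, fun h hh => ?_⟩
    obtain ⟨i, hi⟩ := Submonoid.mem_powers_iff _ _ |>.1 (hg0 ⟨h, hh⟩)
    have hA' : t * (g0 : G) * t = (g0 : G) ^ A := (congrArg Subtype.val hA).symm
    have hi' : (g0 : G) ^ i = h := congrArg Subtype.val hi
    rw [← hi', ← pow_mul, mul_comm, pow_mul, ← hA']
    nth_rw 1 [← htinv]
    have := conj_pow (i := i) (a := t⁻¹) (b := (g0 : G))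
    rw [inv_inv] at this
    rw [← this, htinv]
  refine ⟨j, t, A, hjH, hj, hZ, htc, hta, htb, ht2, htj, hA, fun k hk hkZ => ?_⟩
  -- the line
  have hline : ∀ g : G, g * j = j * g → ∀ c : Ω, j • c = c → j • g • c = g • c := fun g hg c hc => by
    rw [← mul_smul, ← hg, mul_smul, hc]
  have hZline : ∀ c : Ω, j • c = c → c ≠ a → ∃ z ∈ Cen U j, z • b = c := fun c hc hca => by
    obtain ⟨u, hu, rfl⟩ := C.exists_u hca
    exact ⟨u, mem_Cen.2 ⟨hu, (C.fix_iff hjH hu).1 hc⟩, rfl⟩
  have hkfix : ∀ k ∈ H, (∀ z ∈ Cen U j, k * z = z * k) → ∀ c : Ω, j • c = c → k • c = c := by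
    intro k hk hkZ c hc
    by_cases hca : c = a
    · rw [hca]; exact ((C.H_iff k).1 hk).1
    · obtain ⟨z, hz, rfl⟩ := hZline c hc hca
      exact (C.fix_iff hk (mem_Cen.1 hz).1).2 (hkZ z hz)
  have hkt : ∀ z ∈ Cen U j, k * (t * z * t) = t * z * t * k := by
    intro z hz
    have h1 : ∀ w ∈ Cen U j, (t * k * t) * w = w * (t * k * t) := fun w hw => by
      refine (C.fix_iff (htH k hk) (mem_Cen.1 hw).1).1 ?_
      rw [mul_smul, mul_smul]
      have hwl : j • (t • w • b) = t • w • b :=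
        hline t htj _ (hline w (mem_Cen.1 hw).2.symm b hjb)
      rw [hkfix k hk hkZ _ hwl, ← mul_smul, ht2, one_smul]
    have := congrArg (fun g => t * g * t) (h1 z hz)
    calc k * (t * z * t) = t * (t * k * t * z) * t := by
          simp only [← mul_assoc]; rw [ht2, one_mul]
      _ = t * (z * (t * k * t)) * t := by rw [h1 z hz]
      _ = t * z * t * k := by simp only [mul_assoc]; rw [ht2, mul_one]
  obtain ⟨z, hz, hz1⟩ : ∃ z ∈ Cen U j, z ≠ 1 := by
    obtain ⟨z, hz⟩ : ∃ z : Cen U j, z ≠ 1 := by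
      refine Subgroup.ne_bot_iff_exists_ne_one.1 fun e => ?_
      rw [e, Subgroup.card_bot] at hZ
      have := C.three_le.trans (Nat.le_self_pow (show n ≠ 0 by have := C.one_le; omega) p)
      omega
    exact ⟨z, z.2, fun e => hz (Subtype.ext e)⟩
  obtain ⟨hzU, hzj⟩ := mem_Cen.1 hz
  set c := z • b with hc
  have hcl : j • c = c := hline z hzj.symm b hjb
  have hca : c ≠ a := fun e => C.ab (smul_left_cancel z ((C.U_fix z hzU).trans e.symm))
  have hcb : c ≠ b := fun e => hz1 (C.eq_of_smul hzU (one_mem U) (by rw [one_smul]; exact e))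
  have htca : t • c ≠ a := fun e => hcb (smul_left_cancel t (e.trans htb.symm))
  obtain ⟨z', hz', hz'c⟩ := hZline (t • c) (hline t htj c hcl) htca
  obtain ⟨hz'U, hz'j⟩ := mem_Cen.1 hz'
  set y := t * z' * t with hy
  have hya : y • a = c := by rw [hy, mul_smul, mul_smul, hta, hz'c, ← mul_smul, ht2, one_smul]
  have hyj : y * j = j * y := ((show Commute t j from htj).mul_left
    (show Commute z' j from hz'j.symm)).mul_left (show Commute t j from htj)
  set c2 := y⁻¹ • a with hc2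
  have hc2l : j • c2 = c2 := hline y⁻¹ (show Commute y⁻¹ j from Commute.inv_left hyj) a hja
  have hc2a : c2 ≠ a := fun e => hca (by rw [← hya]; nth_rw 1 [← e]; rw [hc2, smul_inv_smul])
  obtain ⟨z2, hz2, hz2c⟩ := hZline c2 hc2l hc2a
  set l := z2⁻¹ * (y⁻¹ * z) with hl
  have hlb : l • b = a := by
    rw [hl, mul_smul, mul_smul, ← hc, ← hya, inv_smul_smul]
    exact inv_smul_eq_iff.2 (C.U_fix z2 (mem_Cen.1 hz2).1).symm
  have hla : l • a = b := by
    rw [hl, mul_smul, mul_smul, C.U_fix z hzU, ← hc2, ← hz2c, inv_smul_smul]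
  have hlk : Commute k l := (Commute.inv_right (hkZ z2 hz2)).mul_right
    ((Commute.inv_right (hkt z' hz')).mul_right (hkZ z hz))
  have hlt : l * t ∈ H := by
    refine (C.H_iff _).2 ⟨?_, ?_⟩
    · rw [mul_smul, hta, hlb]
    · rw [mul_smul, htb, hla]
  have h1 : l * t * k = k * (l * t) := C.H_comm hlt hk
  exact mul_left_cancel (a := l) (by rw [← mul_assoc, h1, ← mul_assoc, hlk.eq, mul_assoc])

end Cfg

end Cfsg.Agent.H36.OddU3
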