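import Cfsg.Agent.H36.OddU3.Torus

/-!
The two-point stabiliser: its image on the line has order `q - 1`, and the involution `t` acts on
it as `h ↦ h ^ (-q)`.
-/

set_option autoImplicit false
set_option linter.unusedSectionVars false
set_option linter.style.haveILetI false

namespace Cfsg.Agent.H36.OddU3

open MulAction

/-- The kernel of a power map in a cyclic subgroup. -/
theorem card_pow_eq_one {G : Type*} [Group G] [Finite G] {H : Subgroup G} (hc : IsCyclic H) (k : ℕ) :
    Nat.card {h : H // (h : G) ^ k = 1} = (Nat.card H).gcd k := by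
  haveI := hc
  letI : CommGroup H := IsCyclic.commGroup
  rw [← IsCyclic.card_powMonoidHom_ker (G := H) k]
  refine Nat.card_congr (Equiv.subtypeEquivRight fun h => ?_)
  rw [MonoidHom.mem_ker, powMonoidHom_apply, Subtype.ext_iff, Subgroup.coe_pow, Subgroup.coe_one]

theorem mem_zpowers_of_two_pow {G : Type*} [Group G] [Finite G] {h g : G} {r : ℕ}
    (hh : h ^ 2 ^ (r + 1) = 1) (hg : g ∈ Subgroup.zpowers h) (hg1 : g ≠ 1) :
    h ^ 2 ^ r ∈ Subgroup.zpowers g := by
  obtain ⟨i, rfl⟩ := Submonoid.mem_powers_iff _ _ |>.1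
    ((isOfFinOrder_of_finite h).mem_powers_iff_mem_zpowers.2 hg)
  have hi : i ≠ 0 := fun e => hg1 (by rw [e, pow_zero])
  obtain ⟨k, o, ho, rfl⟩ := Nat.exists_eq_two_pow_mul_odd hi
  have hk : k ≤ r := by
    by_contra hk
    obtain ⟨s, rfl⟩ := Nat.exists_eq_add_of_le (show r + 1 ≤ k by omega)
    exact hg1 (by rw [pow_add, mul_assoc, pow_mul, hh, one_pow])
  obtain ⟨u, hu⟩ := Nat.exists_eq_add_of_le hk
  refine ⟨((2 ^ u : ℕ) : ℤ), ?_⟩
  simp only [zpow_natCast]
  rw [← pow_mul]
  obtain ⟨w, rfl⟩ := ho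
  rw [show 2 ^ k * (2 * w + 1) * 2 ^ u = 2 ^ (r + 1) * w + 2 ^ r by rw [hu, pow_succ, pow_add]; ring,
    pow_add, pow_mul, hh, one_pow, one_mul]

/-- An involution: fixed points in an invariant set. -/
theorem card_modEq_two {G Ω : Type*} [Group G] [Finite G] [MulAction G Ω] [Finite Ω] {i : G}
    (hi : orderOf i = 2) (T : Set Ω) (hT : ∀ x ∈ T, i • x ∈ T) :
    Nat.card T ≡ Nat.card {x : T // i • (x : Ω) = x} [MOD 2] := by
  haveI := Fact.mk Nat.prime_two
  have hmem : ∀ k : Subgroup.zpowers i, ∀ x ∈ T, (k : G) • x ∈ T := by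
    rintro ⟨k, hk⟩
    obtain ⟨m, rfl⟩ := Submonoid.mem_powers_iff _ _ |>.1
      ((isOfFinOrder_of_finite i).mem_powers_iff_mem_zpowers.2 hk)
    induction m with
    | zero => intro x hx; simpa using hx
    | succ m ih =>
      intro x hx
      have h1 := hT _ (ih (Subgroup.pow_mem _ (Subgroup.mem_zpowers i) m) x hx)
      show i ^ (m + 1) • x ∈ T
      rwa [pow_succ', mul_smul]
  letI : MulAction (Subgroup.zpowers i) T :=
    { smul := fun k x => ⟨(k : G) • (x : Ω), hmem k x x.2⟩
      one_smul := fun x => Subtype.ext (one_smul G (x : Ω))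
      mul_smul := fun k l x => Subtype.ext (mul_smul (k : G) (l : G) (x : Ω)) }
  have hP : IsPGroup 2 (Subgroup.zpowers i) :=
    IsPGroup.of_card (n := 1) (by rw [Nat.card_zpowers, hi, pow_one])
  refine (hP.card_modEq_card_fixedPoints T).trans (congrArg (· % 2) ?_)
  refine Nat.card_congr (Equiv.subtypeEquivRight fun x => ⟨fun h => ?_, fun h => ?_⟩)
  · exact congrArg Subtype.val (h ⟨i, Subgroup.mem_zpowers i⟩)
  · rintro ⟨k, z, rfl⟩
    exact Subtype.ext (mem_stabilizer_iff.1
      (Subgroup.zpow_mem (stabilizer G (x : Ω)) (mem_stabilizer_iff.2 h) z))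

/-- What the rest of the proof uses about the stabiliser of two points. -/
structure TorusData {G Ω : Type*} [Group G] [MulAction G Ω] (a b : Ω) (U H : Subgroup G) (p n : ℕ)
    (j t : G) : Prop where
  jH : j ∈ H
  j_ord : orderOf j = 2
  cardZ : Nat.card (Cen U j) = p ^ n
  ta : t • a = b
  tb : t • b = a
  t_sq : t * t = 1
  tj : t * j = j * t
  tconj : ∀ h ∈ H, t * h * t = (h ^ p ^ n)⁻¹
  Zcomm : ∀ z ∈ Cen U j, ∀ w ∈ Cen U j, z * w = w * z
  Zexp : ∀ z ∈ Cen U j, z ^ p = 1
  Ztrans : ∀ z ∈ Cen U j, z ≠ 1 → ∀ w ∈ Cen U j, w ≠ 1 → ∃ h ∈ H, h * z * h⁻¹ = w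
  Zfix : ∀ h ∈ H, ∀ z ∈ Cen U j, z ≠ 1 → h * z = z * h → ∀ w ∈ Cen U j, h * w = w * h
  cardK : ∀ d, Nat.card H = (p ^ n - 1) * d →
    Nat.card {h : H // ∀ z ∈ Cen U j, (h : G) * z = z * h} = d

variable {G Ω : Type*} [Group G] [Finite G] [MulAction G Ω] [FaithfulSMul G Ω] {a b : Ω}
  {U H : Subgroup G} {p n : ℕ}

namespace Cfg

variable {a b : Ω} (C : Cfg G Ω a b U H p n)
include C

theorem fixed_invol {j i : G} (hjH : j ∈ H) (hj : orderOf j = 2) (hi : orderOf i = 2) {x : Ω}
    (hx : i • x = x) : IsConj j i := by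
  haveI := C.finite
  have h := card_modEq_two hi (Set.univ : Set Ω) (fun _ _ => Set.mem_univ _)
  rw [Nat.card_congr (Equiv.Set.univ Ω), C.card_Ω] at h
  obtain ⟨y, hy, hyx⟩ : ∃ y, i • y = y ∧ y ≠ x := by
    by_contra hne
    push Not at hne
    have h1 : Nat.card {y : (Set.univ : Set Ω) // i • (y : Ω) = y} = 1 := by
      rw [Nat.card_eq_one_iff_unique]
      exact ⟨⟨fun y y' => Subtype.ext (Subtype.ext ((hne _ y.2).trans (hne _ y'.2).symm))⟩,
        ⟨⟨⟨x, Set.mem_univ _⟩, hx⟩⟩⟩
    rw [h1] at h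
    have hodd : Odd ((p ^ n) ^ 3) := ((C.prime.odd_of_ne_two C.odd).pow).pow
    obtain ⟨t, ht⟩ := hodd
    simp only [Nat.ModEq] at h
    omega
  obtain ⟨k, hkx, hky⟩ := C.exists_move (Ne.symm hyx)
  have hiH := C.mem_H_conj hkx hky hx hy
  have ho : orderOf (k⁻¹ * i * k) = 2 := by
    rw [← hi]; simpa using MulEquiv.orderOf_eq (MulAut.conj k⁻¹) i
  have := C.eq_of_invol (j := j) hj (IsConj.refl j) (i' := k⁻¹ * i * k) ?_ C.ab ((C.H_iff j).1 hjH).1
    ((C.H_iff j).1 hjH).2 ((C.H_iff _).1 hiH).1 ((C.H_iff _).1 hiH).2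
  · exact isConj_iff.2 ⟨k, by rw [this]; group⟩
  · obtain ⟨z, hz⟩ := Subgroup.mem_zpowers_iff.1 (C.zpowers_eq_of_order hjH hiH
      (by rw [hj, ← ho, pow_orderOf_eq_one]))
    rw [← hz, ← zpow_mod_orderOf, hj]
    rcases Int.emod_two_eq_zero_or_one z with h0 | h0
    · exfalso
      have h' : k⁻¹ * i * k = 1 := by
        rw [← hz, ← zpow_mod_orderOf, hj, show z % ((2 : ℕ) : ℤ) = 0 from h0, zpow_zero]
      rw [h', orderOf_one] at ho
      norm_num at ho
    · rw [show z % ((2 : ℕ) : ℤ) = 1 from h0, zpow_one]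

/-- Conjugation on the centraliser of the involution. -/
def zConj {j : G} (hjH : j ∈ H) : H →* MulAut (Cen U j) where
  toFun h :=
    { toFun := fun z => ⟨(h : G) * z * (h : G)⁻¹, mem_Cen.2 ⟨C.conj h h.2 z (mem_Cen.1 z.2).1,
        conj_mem_centralizer_singleton (C.H_comm hjH h.2) (mem_Cen.1 z.2).2⟩⟩
      invFun := fun z => ⟨(h : G)⁻¹ * z * (h : G),
        mem_Cen.2 ⟨by simpa using C.conj _ (inv_mem h.2) z (mem_Cen.1 z.2).1,
          by simpa using conj_mem_centralizer_singleton (C.H_comm hjH (inv_mem h.2)) (mem_Cen.1 z.2).2⟩⟩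
      left_inv := fun z => Subtype.ext (by simp [mul_assoc])
      right_inv := fun z => Subtype.ext (by simp [mul_assoc])
      map_mul' := fun z w => Subtype.ext (by simp [mul_assoc]) }
  map_one' := MulEquiv.ext fun z => Subtype.ext (by simp)
  map_mul' h k := MulEquiv.ext fun z => Subtype.ext (by simp [MulAut.mul_apply, mul_assoc])

theorem exists_torusData (hs : IsSimpleGroup G) : ∃ j t, TorusData a b U H p n j t := by
  classical
  haveI := C.finite
  haveI := Fintype.ofFinite Ω
  obtain ⟨j, t, A, L⟩ := C.exists_lineData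
  haveI := C.cyclic
  haveI := Fact.mk C.prime
  have hq3 : 3 ≤ p ^ n := C.three_le.trans (Nat.le_self_pow (show n ≠ 0 by have := C.one_le; omega) p)
  have hqodd : Odd (p ^ n) := (C.prime.odd_of_ne_two C.odd).pow
  obtain ⟨g', d, hg', -, hde, hdg, hm⟩ := C.cardH_fact
  have hd0 : 0 < d := by
    rcases Nat.eq_zero_or_pos d with h | h
    · rw [h, mul_zero] at hdg; omega
    · exact h
  have hgodd : Odd g' := by
    rcases hg' with e | e <;> rw [e] <;> decide
  set Z := Cen U j with hZdef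
  have hcommK : ∀ (h : H) , C.zConj L.jH h = 1 ↔ ∀ z ∈ Z, (h : G) * z = z * h := by
    intro h
    constructor
    · intro e z hz
      exact mul_inv_eq_iff_eq_mul.1 (congrArg Subtype.val (congrArg (fun f : MulAut Z => f ⟨z, hz⟩) e))
    · intro e
      refine MulEquiv.ext fun z => Subtype.ext ?_
      show (h : G) * z * (h : G)⁻¹ = z
      rw [e z z.2, mul_inv_cancel_right]
  obtain ⟨h0, hh0⟩ := IsCyclic.exists_monoid_generator (α := H)
  have hgen : ∀ h : H, ∃ i : ℕ, h0 ^ i = h := fun h => Submonoid.mem_powers_iff _ _ |>.1 (hh0 h)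
  have hoh0 : orderOf (h0 : G) = Nat.card H := by
    rw [Subgroup.orderOf_coe]
    exact orderOf_eq_card_of_forall_mem_zpowers fun x => by
      obtain ⟨i, rfl⟩ := hgen x
      exact Subgroup.pow_mem _ (Subgroup.mem_zpowers h0) i
  set φ := C.zConj L.jH h0 with hφ
  set c := orderOf φ with hc
  set K := (C.zConj L.jH).ker with hK
  have hKc : Nat.card H = Nat.card K * c := by
    have hr : (C.zConj L.jH).range = Subgroup.zpowers φ := by
      refine le_antisymm ?_ (Subgroup.zpowers_le.2 ⟨h0, rfl⟩)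
      rintro _ ⟨h, rfl⟩
      obtain ⟨i, rfl⟩ := hgen h
      rw [map_pow]
      exact Subgroup.pow_mem _ (Subgroup.mem_zpowers φ) i
    rw [← Subgroup.card_mul_index K, hK, Subgroup.index_ker, hr, Nat.card_zpowers]
  -- the kernel of `h ↦ h * t h t`
  have hfix : ∀ k : H, k ∈ K → (k : G) ^ A = k := fun k hk => by
    rw [← L.conjH k k.2, L.fixK k k.2 ((hcommK k).1 hk), mul_assoc, L.t_sq, mul_one]
  have hker : p ^ n - 1 ≤ (Nat.card H).gcd (A + 1) := by
    rw [← card_pow_eq_one C.cyclic, ← C.card_swappers L.jH L.j_ord C.ab]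
    refine Nat.card_le_card_of_injective (fun i => ⟨⟨i.1 * t, ?_⟩, ?_⟩) ?_
    · obtain ⟨i, hi, hia⟩ := i
      have hib : i • b = a := by
        obtain ⟨l, hl⟩ := isConj_iff.1 hi
        have := inv_eq_of_orderOf_two (j := i) (by rw [← hl, ← MulAut.conj_apply, MulEquiv.orderOf_eq, L.j_ord])
        rw [← hia]; nth_rw 1 [← this]; rw [inv_smul_smul]
      exact (C.H_iff _).2 ⟨by rw [mul_smul, L.ta, hib], by rw [mul_smul, L.tb, hia]⟩
    · obtain ⟨i, hi, hia⟩ := i
      show (i * t) ^ (A + 1) = 1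
      have hmem : i * t ∈ H := by
        have hib : i • b = a := by
          obtain ⟨l, hl⟩ := isConj_iff.1 hi
          have := inv_eq_of_orderOf_two (j := i) (by rw [← hl, ← MulAut.conj_apply, MulEquiv.orderOf_eq, L.j_ord])
          rw [← hia]; nth_rw 1 [← this]; rw [inv_smul_smul]
        exact (C.H_iff _).2 ⟨by rw [mul_smul, L.ta, hib], by rw [mul_smul, L.tb, hia]⟩
      rw [pow_succ', ← L.conjH _ hmem]
      obtain ⟨l, hl⟩ := isConj_iff.1 hi
      have hii : i * i = 1 := by
        rw [← inv_eq_iff_mul_eq_one]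
        exact inv_eq_of_orderOf_two (by rw [← hl, ← MulAut.conj_apply, MulEquiv.orderOf_eq, L.j_ord])
      calc i * t * (t * (i * t) * t) = i * (t * t) * i * (t * t) := by simp only [mul_assoc]
        _ = 1 := by rw [L.t_sq, mul_one, mul_one, hii]
    · intro i i' e
      exact Subtype.ext (mul_right_cancel (congrArg (fun x => ((x.1 : H) : G)) e))
  obtain ⟨kg, hkg⟩ : ∃ kg : K, ∀ x : K, x ∈ Subgroup.zpowers kg := IsCyclic.exists_generator
  have hkgo : orderOf ((kg : H) : G) = Nat.card K := by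
    rw [Subgroup.orderOf_coe, Subgroup.orderOf_coe]
    exact orderOf_eq_card_of_forall_mem_zpowers hkg
  have hKA : Nat.card K ∣ ((A : ℤ) - 1).natAbs := by
    rw [← Int.natCast_dvd, ← hkgo]
    refine orderOf_dvd_iff_zpow_eq_one.2 ?_
    rw [zpow_sub, zpow_natCast, zpow_one, hfix _ kg.2, mul_inv_cancel]
  set G0 := (Nat.card H).gcd (A + 1) with hG0
  have hG2 : G0.gcd (Nat.card K) ∣ 2 := by
    have h1 : (G0.gcd (Nat.card K)) ∣ A + 1 := (Nat.gcd_dvd_left _ _).trans (Nat.gcd_dvd_right _ _)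
    have h2 : (G0.gcd (Nat.card K)) ∣ ((A : ℤ) - 1).natAbs := (Nat.gcd_dvd_right _ _).trans hKA
    rw [← Int.natCast_dvd] at h2
    have := dvd_sub (Int.natCast_dvd_natCast.2 h1) h2
    push_cast at this
    rw [show (A : ℤ) + 1 - (A - 1) = ((2 : ℕ) : ℤ) by push_cast; ring] at this
    exact_mod_cast this
  have hG0c : G0 ∣ G0.gcd (Nat.card K) * c := by
    have h1 : G0 ∣ Nat.card K * c := hKc ▸ Nat.gcd_dvd_left _ _
    obtain ⟨u, v, hu, hv, huv⟩ := exists_dvd_and_dvd_of_dvd_mul h1
    rw [huv] at *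
    exact Nat.mul_dvd_mul (Nat.dvd_gcd (dvd_mul_right u v) hu) hv
  have hc2 : p ^ n - 1 ≤ 2 * c :=
    hker.trans ((Nat.le_of_dvd (Nat.mul_pos (Nat.gcd_pos_of_pos_left _ (by rw [hG0]; exact Nat.gcd_pos_of_pos_left _ C.cardH_pos))
      (orderOf_pos φ)) hG0c).trans (Nat.mul_le_mul_right _ (Nat.le_of_dvd (by norm_num) hG2)))
  have hZp : IsPGroup p Z := IsPGroup.of_card L.cardZ
  have hsemi : Semireg φ := by
    rcases semireg_or_small C.odd _ rfl hZp φ (by
      refine Nat.Coprime.symm ((Nat.Prime.coprime_iff_not_dvd C.prime).2 fun hd => C.not_dvd_cardH ?_)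
      rw [hKc]; exact dvd_mul_of_dvd_right hd _) with h | h
    · exact h
    · rw [← hc, L.cardZ] at h; omega
  have hcdvd : c ∣ p ^ n - 1 := by
    have := orderOf_dvd_of_semireg hsemi
    rwa [L.cardZ] at this
  have hjK : j ∈ H ∧ ∀ z ∈ Z, j * z = z * j := ⟨L.jH, fun z hz => (mem_Cen.1 hz).2⟩
  -- the half case
  have hcq : c = p ^ n - 1 := by
    obtain ⟨w, hw⟩ := hcdvd
    rcases w with _ | _ | _ | w
    · omega
    · omega
    swap
    · exfalso
      have : c * 3 ≤ c * (w + 1 + 1 + 1) := Nat.mul_le_mul_left _ (by omega)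
      omega
    exfalso
    have hK2 : Nat.card K = 2 * d := by
      have h1 : Nat.card K * c = 2 * d * c := by rw [← hKc, hm, hw]; ring
      exact Nat.eq_of_mul_eq_mul_right (orderOf_pos φ) h1
    rcases Nat.odd_mod_four_iff.1 (Nat.odd_iff.1 hqodd) with h4 | h4
    · -- `q = 1 mod 4`
      have hG0eq : p ^ n - 1 ∣ G0 := by
        have h3 : G0 ∣ 2 * c := hG0c.trans (Nat.mul_dvd_mul_right hG2 c)
        obtain ⟨u, hu⟩ := h3
        rcases u with _ | _ | u
        · simp at hu; omega
        · exact dvd_of_eq (by omega)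
        · exfalso
          have : G0 * 2 ≤ G0 * (u + 1 + 1) := Nat.mul_le_mul_left _ (by omega)
          omega
      have h4G : 4 ∣ G0.gcd (Nat.card K) := by
        refine Nat.dvd_gcd ((show 4 ∣ p ^ n - 1 by omega).trans hG0eq) ?_
        rw [hK2]
        obtain ⟨e, he⟩ := hde
        exact ⟨e, by omega⟩
      exact absurd (Nat.le_of_dvd (by norm_num) (h4G.trans hG2)) (by norm_num)
    · -- `q = 3 mod 4`: an element of `K` is an odd permutation
      obtain ⟨N2, o, ho, hNo⟩ := Nat.exists_eq_two_pow_mul_odd (show 2 * d ≠ 0 by omega)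
      obtain ⟨r, rfl⟩ : ∃ r, N2 = r + 1 := by
        rcases N2 with _ | r
        · rw [pow_zero, one_mul] at hNo
          exact absurd (hNo ▸ ho) (by simp)
        · exact ⟨r, rfl⟩
      set h := ((kg : H) : G) ^ o with hh
      have hhN : h ^ 2 ^ (r + 1) = 1 := by
        rw [hh, ← pow_mul, mul_comm, ← hNo, ← hK2, ← hkgo, pow_orderOf_eq_one]
      have hho : h ^ 2 ^ r ≠ 1 := by
        intro e
        rw [hh, ← pow_mul, ← orderOf_dvd_iff_pow_eq_one, hkgo, hK2, hNo, mul_comm o] at e
        have h1 := Nat.le_of_dvd (Nat.mul_pos (Nat.two_pow_pos r) ho.pos) e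
        have h2 : 2 ^ r * o < 2 ^ (r + 1) * o :=
          Nat.mul_lt_mul_of_pos_right (Nat.pow_lt_pow_right (by norm_num) (by omega)) ho.pos
        omega
      have hhH : h ∈ H := Subgroup.pow_mem _ (kg : H).2 o
      have hhj : h ^ 2 ^ r = j := by
        have ho2 : orderOf (h ^ 2 ^ r) = 2 := orderOf_eq_prime (by rw [← pow_mul, ← pow_succ, hhN]) hho
        obtain ⟨z, hz⟩ := Subgroup.mem_zpowers_iff.1 (C.zpowers_eq_of_order L.jH
          (Subgroup.pow_mem _ hhH _) (by rw [L.j_ord, ← ho2, pow_orderOf_eq_one]))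
        rw [← hz, ← zpow_mod_orderOf, L.j_ord]
        rcases Int.emod_two_eq_zero_or_one z with h0 | h0
        · exfalso
          apply hho
          rw [← hz, ← zpow_mod_orderOf, L.j_ord, show z % ((2 : ℕ) : ℤ) = 0 from h0, zpow_zero]
        · rw [show z % ((2 : ℕ) : ℤ) = 1 from h0, zpow_one]
      have hhfix : ∀ x : Ω, j • x = x → h • x = x := by
        intro x hx
        by_cases hxa : x = a
        · rw [hxa]; exact ((C.H_iff h).1 hhH).1
        · obtain ⟨u, hu, rfl⟩ := C.exists_u hxa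
          refine (C.fix_iff hhH hu).2 ?_
          have hmem : (kg : H) ^ o ∈ K := Subgroup.pow_mem _ kg.2 o
          exact (hcommK _).1 hmem u (mem_Cen.2 ⟨hu, (C.fix_iff L.jH hu).1 hx⟩)
      set σ := MulAction.toPermHom G Ω h with hσ
      have hσapp : ∀ i : ℕ, ∀ x : Ω, (σ ^ i) x = h ^ i • x := fun i x => by
        rw [hσ, ← map_pow]; rfl
      obtain ⟨k, hk, hsign⟩ := sign_of_free σ (N := 2 ^ (r + 1)) ((even_iff_two_dvd.2 (dvd_pow_self 2 (by omega))))
        (by rw [hσ, ← map_pow, hhN, map_one]) (by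
          intro x i hx hxi
          rw [hσapp] at hxi
          by_contra hdvd
          have hi1 : h ^ i ≠ 1 := fun e => hdvd (by
            have ho' : orderOf h = 2 ^ (r + 1) := by
              haveI := Fact.mk Nat.prime_two
              exact orderOf_eq_prime_pow hho hhN
            rw [← ho']
            exact orderOf_dvd_of_pow_eq_one e)
          obtain ⟨z, hz⟩ := Subgroup.mem_zpowers_iff.1
            (mem_zpowers_of_two_pow hhN (Subgroup.pow_mem _ (Subgroup.mem_zpowers h) i) hi1)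
          refine hx (hhfix x ?_)
          rw [← hhj, ← hz]
          exact mem_stabilizer_iff.1 (Subgroup.zpow_mem (stabilizer G x) (mem_stabilizer_iff.2 hxi) z))
      have hsupp : σ.support.card = (p ^ n) ^ 3 - p ^ n := by
        have h1 : σ.support = Finset.univ.filter fun x : Ω => ¬ j • x = x := by
          ext x
          rw [Equiv.Perm.mem_support, Finset.mem_filter]
          constructor
          · exact fun hx => ⟨Finset.mem_univ _, fun e => hx (hhfix x e)⟩
          · rintro ⟨-, hx⟩ e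
            apply hx
            rw [← hhj]
            exact mem_stabilizer_iff.1 (Subgroup.pow_mem (stabilizer G x) (mem_stabilizer_iff.2 e) _)
        rw [h1, ← Fintype.card_subtype, Fintype.card_subtype_compl]
        have h2 : Fintype.card {x : Ω // j • x = x} = p ^ n + 1 := by
          rw [← Nat.card_eq_fintype_card, ← L.cardZ, ← C.card_fixedBy L.jH]; rfl
        rw [h2, ← Nat.card_eq_fintype_card, C.card_Ω]
        omega
      rw [C.sign_trivial hs] at hsign
      have hkeven : Even k := by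
        rcases Nat.even_or_odd k with h' | h'
        · exact h'
        · rw [h'.neg_one_pow] at hsign; exact absurd hsign.symm (by decide)
      rw [hsupp] at hk
      have hcodd : Odd c := by
        rw [Nat.odd_iff]; omega
      have hprod : (p ^ n) ^ 3 - p ^ n = (p ^ n * c * g' * o) * 2 ^ (r + 1) := by
        calc (p ^ n) ^ 3 - p ^ n = p ^ n * ((p ^ n + 1) * (p ^ n - 1)) := by
              rw [← Nat.sq_sub_sq, one_pow, Nat.mul_sub, mul_one]; ring_nf
          _ = p ^ n * ((g' * d) * (c * 2)) := by rw [hdg, hw]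
          _ = p ^ n * c * g' * (2 * d) := by ring
          _ = _ := by rw [hNo]; ring
      rw [hprod] at hk
      have hkeq := Nat.eq_of_mul_eq_mul_right (Nat.two_pow_pos _) hk
      have : Odd k := hkeq ▸ (((hqodd.mul hcodd).mul hgodd).mul ho)
      exact (Nat.not_even_iff_odd.2 this) hkeven
  have hKd : Nat.card K = d := by
    have h1 : Nat.card K * c = d * c := by rw [← hKc, hm, hcq, mul_comm]
    exact Nat.eq_of_mul_eq_mul_right (orderOf_pos φ) h1
  -- transitivity on the non-trivial elements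
  have horb : ∀ z w : Z, z ≠ 1 → w ≠ 1 → ∃ i : ℕ, (φ ^ i) z = w := by
    intro z w hz hw
    let f : Fin c → {v : Z // v ≠ 1} := fun i => ⟨(φ ^ (i : ℕ)) z, fun e =>
      hz ((φ ^ (i : ℕ)).injective (e.trans (map_one _).symm))⟩
    have hinj : Function.Injective f := by
      intro i i' e
      have key : ∀ i i' : ℕ, i ≤ i' → i' < c → (φ ^ i) z = (φ ^ i') z → i = i' := by
        intro i i' hle hlt e
        obtain ⟨u, rfl⟩ := Nat.exists_eq_add_of_le hle
        rw [pow_add, MulAut.mul_apply] at e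
        have e' : (φ ^ u) z = z := ((φ ^ i).injective e).symm
        by_contra hne
        exact hz (hsemi u (fun h1 => by
          have := Nat.le_of_dvd (by omega) (orderOf_dvd_of_pow_eq_one h1)
          omega) z e')
      rcases le_total (i : ℕ) i' with h | h
      · exact Fin.ext (key _ _ h i'.2 (congrArg Subtype.val e))
      · exact Fin.ext (key _ _ h i.2 (congrArg Subtype.val e).symm).symm
    have hb : Function.Bijective f := (Nat.bijective_iff_injective_and_card f).2
      ⟨hinj, by rw [Nat.card_fin, card_ne_one_sub, L.cardZ, hcq]⟩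
    obtain ⟨i, hi⟩ := hb.2 ⟨w, hw⟩
    exact ⟨i, congrArg Subtype.val hi⟩
  -- the exponent
  have hAd : d ∣ ((A : ℤ) - 1).natAbs := hKd ▸ hKA
  have hG01 : p ^ n - 1 ∣ G0 := by
    have h1 : G0 ∣ 2 * (p ^ n - 1) := hcq ▸ hG0c.trans (Nat.mul_dvd_mul_right hG2 c)
    obtain ⟨u, hu⟩ := h1
    rcases u with _ | _ | _ | u
    · omega
    · exact ⟨2, by omega⟩
    · exact dvd_of_eq (by omega)
    · exfalso
      have : G0 * 3 ≤ G0 * (u + 1 + 1 + 1) := Nat.mul_le_mul_left _ (by omega)
      omega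
  have hAq : (((p ^ n - 1) * d : ℕ) : ℤ) ∣ 2 * ((A : ℤ) + (p ^ n : ℕ)) := by
    have e1 : ((p ^ n - 1 : ℕ) : ℤ) ∣ (A : ℤ) + (p ^ n : ℕ) := by
      have h1 : ((p ^ n - 1 : ℕ) : ℤ) ∣ ((A + 1 : ℕ) : ℤ) :=
        Int.natCast_dvd_natCast.2 (hG01.trans (Nat.gcd_dvd_right _ _))
      push_cast at h1
      have h2 := dvd_add h1 (dvd_refl ((p ^ n - 1 : ℕ) : ℤ))
      have e : (A : ℤ) + (p ^ n : ℕ) = (A : ℤ) + 1 + ((p ^ n - 1 : ℕ) : ℤ) := by
        rw [Nat.cast_sub (by omega : 1 ≤ p ^ n)]; push_cast; ring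
      rw [e]; exact h2
    have e2 : ((d : ℕ) : ℤ) ∣ (A : ℤ) + (p ^ n : ℕ) := by
      have h1 := Int.natCast_dvd.2 hAd
      have h2 : ((d : ℕ) : ℤ) ∣ ((p ^ n + 1 : ℕ) : ℤ) := Int.natCast_dvd_natCast.2 ⟨_, (mul_comm _ _).trans hdg |>.symm⟩
      push_cast at h2
      have h3 := dvd_add h1 h2
      have e : (A : ℤ) + (p ^ n : ℕ) = (A : ℤ) - 1 + ((p : ℤ) ^ n + 1) := by push_cast; ring
      rw [e]; exact h3
    have e3 : (Nat.lcm (p ^ n - 1) d : ℤ) ∣ (A : ℤ) + (p ^ n : ℕ) := Int.natCast_dvd.2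
      (Nat.lcm_dvd (Int.natCast_dvd.1 e1) (Int.natCast_dvd.1 e2))
    have e4 : Nat.gcd (p ^ n - 1) d ∣ 2 := by
      have h1 : Nat.gcd (p ^ n - 1) d ∣ p ^ n + 1 :=
        (Nat.gcd_dvd_right _ _).trans ⟨_, (mul_comm _ _).trans hdg |>.symm⟩
      have h2 := Nat.dvd_sub h1 (Nat.gcd_dvd_left (p ^ n - 1) d)
      rwa [show p ^ n + 1 - (p ^ n - 1) = 2 by omega] at h2
    rw [← Nat.gcd_mul_lcm, Nat.cast_mul]
    exact mul_dvd_mul (Int.natCast_dvd_natCast.2 e4) e3
  -- the sign
  set e0 := (h0 : G) ^ (A + p ^ n) with he0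
  have he0sq : e0 * e0 = 1 := by
    rw [he0, ← pow_add, ← orderOf_dvd_iff_pow_eq_one, hoh0, hm, ← Int.natCast_dvd_natCast]
    convert hAq using 1
    push_cast; ring
  have htconj : ∀ h ∈ H, t * h * t = (h ^ p ^ n)⁻¹ := by
    suffices e0 = 1 by
      intro h hh
      obtain ⟨i, hi⟩ := hgen ⟨h, hh⟩
      have hi' : (h0 : G) ^ i = h := congrArg Subtype.val hi
      rw [L.conjH h hh, eq_inv_iff_mul_eq_one, ← pow_add, ← hi', ← pow_mul, mul_comm, pow_mul, ← he0,
        this, one_pow]
    by_contra hne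
    have he0j : e0 = j := by
      have ho2 : orderOf e0 = 2 := orderOf_eq_prime (by rw [sq, he0sq]) hne
      obtain ⟨z, hz⟩ := Subgroup.mem_zpowers_iff.1 (C.zpowers_eq_of_order L.jH
        (Subgroup.pow_mem _ h0.2 _) (y := e0) (by rw [L.j_ord, ← ho2, pow_orderOf_eq_one]))
      rw [← hz, ← zpow_mod_orderOf, L.j_ord]
      rcases Int.emod_two_eq_zero_or_one z with h0' | h0'
      · exfalso
        apply hne
        rw [← hz, ← zpow_mod_orderOf, L.j_ord, show z % ((2 : ℕ) : ℤ) = 0 from h0', zpow_zero]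
      · rw [show z % ((2 : ℕ) : ℤ) = 1 from h0', zpow_one]
    obtain ⟨r, o, ho, hdo⟩ := Nat.exists_eq_two_pow_mul_odd (show d ≠ 0 by omega)
    rcases Nat.odd_mod_four_iff.1 (Nat.odd_iff.1 hqodd) with h4 | h4
    · -- `q = 1 mod 4`: too many involutions exchange the two points
      have hd2 : ∃ e, d = 2 * e ∧ Odd e := by
        obtain ⟨e, he⟩ := hde
        refine ⟨e, by omega, Nat.not_even_iff_odd.1 fun ⟨w, hw⟩ => ?_⟩
        obtain ⟨g', hg'⟩ := hgodd
        rw [hg', he, hw] at hdg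
        have : p ^ n + 1 = 4 * ((2 * g' + 1) * w) := by rw [← hdg]; ring
        omega
      obtain ⟨e, he, heo⟩ := hd2
      have hA1 : ((Nat.card H : ℕ) : ℤ) ∣ ((A + 1 : ℕ) : ℤ) + ((p ^ n - 1 : ℕ) : ℤ) - ((p ^ n - 1) * e : ℕ) := by
        have h1 : ((A + p ^ n : ℕ) : ℤ) % (Nat.card H : ℕ) = (((p ^ n - 1) * e : ℕ) : ℤ) := by
          have hjpow : (h0 : G) ^ ((p ^ n - 1) * e) = j := by
            have hne' : (h0 : G) ^ ((p ^ n - 1) * e) ≠ 1 := fun e' => by
              have := orderOf_dvd_of_pow_eq_one e'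
              rw [hoh0, hm, he] at this
              have hpos : 0 < (p ^ n - 1) * e := Nat.mul_pos (by omega) heo.pos
              have := Nat.le_of_dvd hpos this
              nlinarith
            have ho2 : orderOf ((h0 : G) ^ ((p ^ n - 1) * e)) = 2 := orderOf_eq_prime (by
              rw [← pow_mul, ← orderOf_dvd_iff_pow_eq_one, hoh0, hm, he]; exact dvd_of_eq (by ring)) hne'
            obtain ⟨z, hz⟩ := Subgroup.mem_zpowers_iff.1 (C.zpowers_eq_of_order L.jH
              (Subgroup.pow_mem _ h0.2 _) (y := (h0 : G) ^ ((p ^ n - 1) * e))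
              (by rw [L.j_ord, ← ho2, pow_orderOf_eq_one]))
            rw [← hz, ← zpow_mod_orderOf, L.j_ord]
            rcases Int.emod_two_eq_zero_or_one z with h0' | h0'
            · exfalso
              apply hne'
              rw [← hz, ← zpow_mod_orderOf, L.j_ord, show z % ((2 : ℕ) : ℤ) = 0 from h0', zpow_zero]
            · rw [show z % ((2 : ℕ) : ℤ) = 1 from h0', zpow_one]
          have h2 := he0j.trans hjpow.symm
          rw [he0, pow_eq_pow_iff_modEq, hoh0] at h2
          rw [← Int.natCast_mod, h2, Nat.mod_eq_of_lt]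
          rw [hm, he]
          exact Nat.mul_lt_mul_of_pos_left (by have := heo.pos; omega) (by omega)
        rw [← h1]
        have := Int.dvd_self_sub_emod (x := ((A + p ^ n : ℕ) : ℤ)) (m := ((Nat.card H : ℕ) : ℤ))
        have e1 : ((A + 1 : ℕ) : ℤ) + ((p ^ n - 1 : ℕ) : ℤ) = ((A + p ^ n : ℕ) : ℤ) := by
          rw [← Nat.cast_add]; congr 1; omega
        rw [e1]; exact this
      have h2q : ((2 * (p ^ n - 1) : ℕ) : ℤ) ∣ ((A + 1 : ℕ) : ℤ) := by
        obtain ⟨w, hw⟩ := heo
        have hH2 : ((2 * (p ^ n - 1) : ℕ) : ℤ) ∣ ((Nat.card H : ℕ) : ℤ) :=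
          Int.natCast_dvd_natCast.2 ⟨e, by rw [hm, he]; ring⟩
        have h2 : ((2 * (p ^ n - 1) : ℕ) : ℤ) ∣ (((p ^ n - 1) * e : ℕ) : ℤ) - ((p ^ n - 1 : ℕ) : ℤ) :=
          ⟨w, by rw [hw]; push_cast; ring⟩
        have h3 := dvd_add (hH2.trans hA1) h2
        have e1 : ((A + 1 : ℕ) : ℤ) = ((A + 1 : ℕ) : ℤ) + ((p ^ n - 1 : ℕ) : ℤ) - ((p ^ n - 1) * e : ℕ) +
          ((((p ^ n - 1) * e : ℕ) : ℤ) - ((p ^ n - 1 : ℕ) : ℤ)) := by ring
        rw [e1]; exact h3
      have h2G : 2 * (p ^ n - 1) ≤ G0 := by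
        refine Nat.le_of_dvd (Nat.gcd_pos_of_pos_left _ C.cardH_pos) (Nat.dvd_gcd ?_ (Int.natCast_dvd_natCast.1 h2q))
        exact ⟨e, by rw [hm, he]; ring⟩
      have hle : G0 ≤ p ^ n - 1 := by
        rw [hG0, ← card_pow_eq_one C.cyclic, ← C.card_swappers L.jH L.j_ord C.ab]
        refine Nat.card_le_card_of_injective (fun h => ⟨(h.1 : G) * t, ?_, ?_⟩) ?_
        · obtain ⟨⟨h, hh⟩, hpow⟩ := h
          show IsConj j (h * t)
          have hsq : h * t * (h * t) = 1 := by
            have := L.conjH h hh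
            calc h * t * (h * t) = h * (t * h * t) := by simp only [mul_assoc]
              _ = 1 := by rw [this, ← pow_succ']; exact hpow
          have hne1 : h * t ≠ 1 := fun e' => by
            have := congrArg (· • a) e'
            simp only [mul_smul, L.ta, one_smul] at this
            exact C.ab (this.symm.trans ((C.H_iff h).1 hh).2)
          have ho2 : orderOf (h * t) = 2 := orderOf_eq_prime (by rw [sq, hsq]) hne1
          by_contra hnc
          have hfree : ∀ x : Ω, (h * t) • x ≠ x := fun x hx => hnc (C.fixed_invol L.jH L.j_ord ho2 hx)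
          set σ := MulAction.toPermHom G Ω (h * t) with hσ
          obtain ⟨k, hk, hsign⟩ := sign_of_free σ (N := 2) even_two
            (by rw [hσ, ← map_pow, sq, hsq, map_one]) (by
              intro x i hx hxi
              by_contra hi
              apply hx
              obtain ⟨w, rfl⟩ := Nat.odd_iff.2 (Nat.two_dvd_ne_zero.1 hi)
              rw [pow_succ', pow_mul, show σ ^ 2 = 1 by rw [hσ, ← map_pow, sq, hsq, map_one], one_pow,
                mul_one] at hxi
              exact hxi)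
          have hsupp : σ.support = Finset.univ := by
            refine Finset.eq_univ_iff_forall.2 fun x => Equiv.Perm.mem_support.2 (hfree x)
          rw [hsupp, Finset.card_univ, ← Nat.card_eq_fintype_card, C.card_Ω] at hk
          rw [C.sign_trivial hs] at hsign
          have hkeven : Even k := by
            rcases Nat.even_or_odd k with h' | h'
            · exact h'
            · rw [h'.neg_one_pow] at hsign; exact absurd hsign.symm (by decide)
          obtain ⟨w, hw⟩ := hkeven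
          have h3 : (p ^ n) ^ 3 % 4 = 1 := by rw [Nat.pow_mod, h4]
          omega
        · show ((h.1 : G) * t) • a = b
          rw [mul_smul, L.ta]
          exact ((C.H_iff _).1 h.1.2).2
        · intro h h' e'
          exact Subtype.ext (Subtype.ext (mul_right_cancel (congrArg Subtype.val e')))
      omega
    · -- `q = 3 mod 4`: a `2`-element centralised by `t`
      obtain ⟨g', hg'⟩ := hgodd
      obtain ⟨w', hw'⟩ := ho
      have hq1 : p ^ n + 1 = 2 ^ r * ((2 * g' + 1) * (2 * w' + 1)) := by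
        rw [← hdg, hg', hdo, hw']; ring
      obtain ⟨u', hu'⟩ : ∃ u', p ^ n - 1 = 2 * (2 * u' + 1) := ⟨(p ^ n - 3) / 4, by omega⟩
      set o' := (2 * u' + 1) * (2 * w' + 1) with ho'
      have hmo : Nat.card H = 2 ^ (r + 1) * o' := by rw [hm, hu', hdo, hw', ho']; ring
      set h := (h0 : G) ^ o' with hh
      have hhN : h ^ 2 ^ (r + 1) = 1 := by rw [hh, ← pow_mul, mul_comm, ← hmo, ← hoh0, pow_orderOf_eq_one]
      have hhH : h ∈ H := Subgroup.pow_mem _ h0.2 _
      have hjo : j ^ o' = j := by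
        obtain ⟨w, hw⟩ : Odd o' := (odd_two_mul_add_one u').mul (odd_two_mul_add_one w')
        rw [hw, pow_succ, pow_mul, ← L.j_ord, pow_orderOf_eq_one, one_pow, one_mul]
      have hhA : h ^ (A + p ^ n) = j := by
        rw [hh, ← pow_mul, mul_comm, pow_mul, ← he0, he0j, hjo]
      have hjh : h ^ 2 ^ r = j := by
        have h1 : h ^ 2 ^ r ≠ 1 := by
          intro e'
          rw [hh, ← pow_mul, ← orderOf_dvd_iff_pow_eq_one, hoh0, hmo, mul_comm o'] at e'
          have hpos : 0 < o' := by rw [ho']; positivity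
          have h1 := Nat.le_of_dvd (Nat.mul_pos (Nat.two_pow_pos r) hpos) e'
          have h2 : 2 ^ r * o' < 2 ^ (r + 1) * o' :=
            Nat.mul_lt_mul_of_pos_right (Nat.pow_lt_pow_right (by norm_num) (by omega)) hpos
          omega
        have hpow2 : (h ^ (A + p ^ n)) ∈ Subgroup.zpowers h := Subgroup.pow_mem _ (Subgroup.mem_zpowers h) _
        have hne2 : h ^ (A + p ^ n) ≠ 1 := by
          rw [hhA]
          intro e'
          have h' := L.j_ord
          rw [e', orderOf_one] at h'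
          norm_num at h'
        obtain ⟨z, hz⟩ := Subgroup.mem_zpowers_iff.1 (mem_zpowers_of_two_pow hhN hpow2 hne2)
        rw [hhA] at hz
        rw [← hz, ← zpow_mod_orderOf, L.j_ord]
        rcases Int.emod_two_eq_zero_or_one z with h0' | h0'
        · exfalso
          apply h1
          rw [← hz, ← zpow_mod_orderOf, L.j_ord, show z % ((2 : ℕ) : ℤ) = 0 from h0', zpow_zero]
        · rw [show z % ((2 : ℕ) : ℤ) = 1 from h0', zpow_one]
      have hcomm : h ^ A = h := by
        have h2 : h ^ (p ^ n + 1 + 2 ^ r) = 1 := by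
          obtain ⟨w, hw⟩ : Odd ((2 * g' + 1) * (2 * w' + 1)) :=
            (odd_two_mul_add_one g').mul (odd_two_mul_add_one w')
          rw [hq1, hw, show 2 ^ r * (2 * w + 1) + 2 ^ r = 2 ^ (r + 1) * (w + 1) by ring, pow_mul, hhN,
            one_pow]
        have h3 : h ^ A * h ^ (p ^ n) = h * h ^ (p ^ n) := by
          rw [← pow_add, hhA]
          have : h * h ^ p ^ n * j = 1 := by
            rw [← pow_succ', ← hjh, ← pow_add, h2]
          have hj1 : j⁻¹ = j := inv_eq_of_orderOf_two L.j_ord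
          rw [← hj1]
          exact (eq_inv_of_mul_eq_one_left this).symm
        exact mul_right_cancel h3
      have hth : t * h = h * t := by
        calc t * h = t * h * t * t := by rw [mul_assoc _ t t, L.t_sq, mul_one]
          _ = h * t := by rw [L.conjH h hhH, hcomm]
      -- `j` has no fixed point on the line of `t`
      have hjfree : ∀ x : Ω, t • x = x → j • x ≠ x := by
        intro x hx hjx
        have hT : ∀ y ∈ fixedBy Ω t, j • y ∈ fixedBy Ω t := fun y hy => by
          rw [mem_fixedBy, ← mul_smul, L.tj, mul_smul, mem_fixedBy.1 hy]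
        have h := card_modEq_two L.j_ord (fixedBy Ω t) hT
        rw [C.card_fixedBy_conj L.jH L.t_conj, L.cardZ] at h
        obtain ⟨y, hy, hyx⟩ : ∃ y : fixedBy Ω t, j • (y : Ω) = y ∧ (y : Ω) ≠ x := by
          by_contra hne'
          push Not at hne'
          have h1 : Nat.card {y : fixedBy Ω t // j • (y : Ω) = y} = 1 := by
            rw [Nat.card_eq_one_iff_unique]
            exact ⟨⟨fun y y' => Subtype.ext (Subtype.ext ((hne' _ y.2).trans (hne' _ y'.2).symm))⟩,
              ⟨⟨⟨x, hx⟩, hjx⟩⟩⟩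
          rw [h1] at h
          simp only [Nat.ModEq] at h
          obtain ⟨w, hw⟩ := hqodd
          omega
        have := C.eq_of_invol L.j_ord (IsConj.refl j) L.t_conj hyx hy hjx y.2 hx
        have hbb := L.ta
        rw [← this, ((C.H_iff j).1 L.jH).1] at hbb
        exact C.ab hbb
      -- so `h` is semiregular there
      have hmemT : ∀ k : Subgroup.zpowers h, ∀ x : Ω, t • x = x → t • (k : G) • x = (k : G) • x := by
        rintro ⟨k, z, rfl⟩ x hx
        show t • (h ^ z) • x = (h ^ z) • x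
        rw [← mul_smul, ((show Commute t h from hth).zpow_right z).eq, mul_smul, hx]
      letI : MulAction (Subgroup.zpowers h) (fixedBy Ω t) :=
        { smul := fun k x => ⟨(k : G) • (x : Ω), hmemT k x x.2⟩
          one_smul := fun x => Subtype.ext (one_smul G (x : Ω))
          mul_smul := fun k l x => Subtype.ext (mul_smul (k : G) (l : G) (x : Ω)) }
      have hdvd := card_dvd_of_free_action (A := Subgroup.zpowers h) (X := fixedBy Ω t) (by
        intro k x hkx
        by_contra hk1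
        obtain ⟨z, hz⟩ := Subgroup.mem_zpowers_iff.1 (mem_zpowers_of_two_pow hhN k.2
          (fun e' => hk1 (Subtype.ext e')))
        refine hjfree x x.2 ?_
        rw [← hjh, ← hz]
        exact mem_stabilizer_iff.1 (Subgroup.zpow_mem (stabilizer G (x : Ω))
          (mem_stabilizer_iff.2 (congrArg Subtype.val hkx)) z))
      rw [Nat.card_zpowers, C.card_fixedBy_conj L.jH L.t_conj, L.cardZ] at hdvd
      have hord : orderOf h = 2 ^ (r + 1) := by
        haveI := Fact.mk Nat.prime_two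
        refine orderOf_eq_prime_pow ?_ hhN
        rw [hjh]
        intro e'
        have := L.j_ord; rw [e', orderOf_one] at this; norm_num at this
      rw [hord, hq1, pow_succ] at hdvd
      have h2d := Nat.dvd_of_mul_dvd_mul_left (Nat.two_pow_pos r) hdvd
      have hodd : Odd ((2 * g' + 1) * (2 * w' + 1)) := (odd_two_mul_add_one g').mul (odd_two_mul_add_one w')
      exact (Nat.not_even_iff_odd.2 hodd) (even_iff_two_dvd.2 h2d)
  refine ⟨j, t, L.jH, L.j_ord, L.cardZ, L.ta, L.tb, L.t_sq, L.tj, htconj, ?_, ?_, ?_, ?_, ?_⟩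
  · -- commutative
    intro z hz w hw
    haveI : Nontrivial Z := Finite.one_lt_card_iff_nontrivial.1 (by rw [L.cardZ]; omega)
    haveI := hZp.center_nontrivial
    obtain ⟨⟨z0, hz0⟩, hz01⟩ := exists_ne (1 : Subgroup.center Z)
    have hall : ∀ v : Z, v ∈ Subgroup.center Z := by
      intro v
      by_cases hv : v = 1
      · rw [hv]; exact one_mem _
      · obtain ⟨i, hi⟩ := horb z0 v (fun e' => hz01 (Subtype.ext e')) hv
        rw [← hi]
        refine Subgroup.mem_center_iff.2 fun g => ?_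
        rw [← (φ ^ i).apply_symm_apply g, ← map_mul, ← map_mul, Subgroup.mem_center_iff.1 hz0]
    exact congrArg Subtype.val (Subgroup.mem_center_iff.1 (hall ⟨w, hw⟩) ⟨z, hz⟩)
  · intro z hz
    obtain ⟨z0, hz0⟩ := exists_prime_orderOf_dvd_card' (G := Z) p
      (by rw [L.cardZ]; exact dvd_pow_self p (by have := C.one_le; omega))
    by_cases hz1 : (⟨z, hz⟩ : Z) = 1
    · have := congrArg Subtype.val hz1
      simp only at this
      rw [this, Subgroup.coe_one, one_pow]
    · obtain ⟨i, hi⟩ := horb z0 ⟨z, hz⟩ (fun e' => by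
        rw [e', orderOf_one] at hz0; exact C.prime.ne_one hz0.symm) hz1
      have : (⟨z, hz⟩ : Z) ^ p = 1 := by rw [← hi, ← map_pow, ← hz0, pow_orderOf_eq_one, map_one]
      exact congrArg Subtype.val this
  · intro z hz hz1 w hw hw1
    obtain ⟨i, hi⟩ := horb ⟨z, hz⟩ ⟨w, hw⟩ (fun e' => hz1 (congrArg Subtype.val e'))
      (fun e' => hw1 (congrArg Subtype.val e'))
    refine ⟨((h0 ^ i : H) : G), (h0 ^ i).2, ?_⟩
    rw [hφ, ← map_pow] at hi
    exact congrArg Subtype.val hi
  · intro h hh z hz hz1 hhz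
    obtain ⟨i, hi⟩ := hgen ⟨h, hh⟩
    have hfz : (φ ^ i) ⟨z, hz⟩ = ⟨z, hz⟩ := by
      rw [hφ, ← map_pow, hi]
      refine Subtype.ext ?_
      show h * z * h⁻¹ = z
      rw [hhz, mul_inv_cancel_right]
    refine (hcommK ⟨h, hh⟩).1 ?_
    rw [← hi, map_pow, ← hφ]
    by_contra hne
    exact hz1 (congrArg Subtype.val (hsemi i hne _ hfz))
  · intro d' hd'
    have : d' = d := Nat.eq_of_mul_eq_mul_left (by omega) (hd'.symm.trans hm)
    rw [this, ← hKd]
    exact Nat.card_congr (Equiv.subtypeEquivRight fun h => (hcommK h).symm)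

end Cfg

end Cfsg.Agent.H36.OddU3
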